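import Cfsg.Agent.SU4.P1a
import Cfsg.Agent.SU4.M4
import Cfsg.Agent.SU4.M4b
import Cfsg.Agent.SG2.EFf

/-!
# Standard subgroups of type `U₄(2ⁿ)`: the field case, fusion of `t`
-/

set_option autoImplicit false
set_option linter.unusedSectionVars false

namespace Cfsg.Lib.SU4

open Subgroup Cfsg.Lib.Trans Cfsg.Lib.Gold
open Cfsg.Lib.SG2 (Uq Top)
open scoped commutatorElement MatrixGroups

variable {G E : Type*} [Group G] [Finite G] [Field E] [Finite E] {σ : E ≃+* E}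
  {x : ZMod 8 → E → G} {t : G} {φ : SL(4, E) →* G}

namespace EFa

variable {m m' : G} {τ τ' : E ≃+* E} {b b' : Bool}

/-- `m` induces `gm τ b` modulo inner automorphisms. -/
def Th (φ : SL(4, E) →* G) (m : G) (τ : E ≃+* E) (b : Bool) : Prop :=
  ∃ l, ∀ g, m * φ g * m⁻¹ = φ (l * gm τ b g * l⁻¹)

theorem Th.mem (h : Th φ m τ b) : m ∈ Ns φ.range := by
  obtain ⟨l, h⟩ := h
  refine mem_normalizer_of_cj_le (cj_le_iff.2 ?_)
  rintro _ ⟨g, rfl⟩
  exact ⟨_, (h g).symm⟩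

theorem exists_Th (hq : Qd σ) (hi : Function.Injective φ) (hm : m ∈ Ns φ.range) :
    ∃ τ b, Th φ m τ b := by
  obtain ⟨l, τ, b, h⟩ := sl_aut hq (((MonoidHom.ofInjective hi).trans
    (normalizerMonoidHom φ.range ⟨m, hm⟩)).trans (MonoidHom.ofInjective hi).symm)
  refine ⟨τ, b, l, fun g => ?_⟩
  rw [← h g, MulEquiv.trans_apply, MonoidHom.apply_ofInjective_symm]
  rfl

theorem Th.mul (h : Th φ m τ b) (h' : Th φ m' τ' b') : Th φ (m * m') (τ * τ') (xor b b') := by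
  obtain ⟨l, h⟩ := h
  obtain ⟨l', h'⟩ := h'
  refine ⟨l * gm τ b l', fun g => ?_⟩
  rw [show m * m' * φ g * (m * m')⁻¹ = m * (m' * φ g * m'⁻¹) * m⁻¹ by group, h', h,
    map_mul (gm τ b), map_mul (gm τ b), map_inv (gm τ b), gm_mul]
  congr 1
  group

theorem Th.one : Th φ 1 1 false := ⟨1, fun g => by simp [gm_one]⟩

theorem Th.uniq (hq : Qd σ) (hi : Function.Injective φ) (h : Th φ m τ b) (h' : Th φ m τ' b') :
    τ = τ' ∧ b = b' := by
  obtain ⟨l, h⟩ := h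
  obtain ⟨l', h'⟩ := h'
  have := sl_uniq hq (l := l⁻¹ * l') (τ := τ * τ'⁻¹) (b := xor b b') fun g => by
    have e := hi ((h (gm τ'⁻¹ b' g)).symm.trans (h' _))
    rw [gm_mul, gm_mul, mul_inv_cancel, Bool.xor_self, gm_one] at e
    calc _ = l⁻¹ * (l * gm (τ * τ'⁻¹) (xor b b') g * l⁻¹) * l := by group
      _ = _ := by rw [e]; group
  exact ⟨mul_inv_eq_one.1 this.1, by simpa using this.2⟩

theorem Th.inv (h : Th φ m τ b) : Th φ m⁻¹ τ⁻¹ b := by
  obtain ⟨l, h⟩ := h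
  refine ⟨gm τ⁻¹ b l⁻¹, fun g => ?_⟩
  have := h (gm τ⁻¹ b (l⁻¹ * g * l))
  rw [gm_mul, mul_inv_cancel, Bool.xor_self, gm_one,
    show l * (l⁻¹ * g * l) * l⁻¹ = g by group] at this
  rw [← this, ← map_inv (gm τ⁻¹ b) l⁻¹, inv_inv, ← map_mul (gm τ⁻¹ b), ← map_mul (gm τ⁻¹ b)]
  group

theorem Th.conj (h : Th φ m τ b) (h' : Th φ m' τ' b') : Th φ (m' * m * m'⁻¹) τ b := by
  have := (h'.mul h).mul h'.inv
  rwa [aut_comm τ' τ, mul_inv_cancel_right, show xor (xor b' b) b' = b by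
    cases b <;> cases b' <;> rfl] at this

theorem Th.comm (h : Th φ m τ b) (h' : Th φ m' τ' b') : Th φ ⁅m, m'⁆ 1 false := by
  have := (h'.conj h).mul h'.inv
  rwa [mul_inv_cancel, Bool.xor_self] at this

theorem one_iff : Th φ m 1 false ↔ m ∈ φ.range ⊔ Cs φ.range := by
  rw [SG2.mem_sup_Cs (le_Cs_comm.1 le_rfl)]
  constructor
  · rintro ⟨l, h⟩
    refine ⟨φ l, ⟨l, rfl⟩, (φ l)⁻¹ * m, mem_Cs.2 ?_, by group⟩
    rintro _ ⟨g, rfl⟩
    have := h g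
    rw [gm_one, map_mul, map_mul, map_inv] at this
    calc _ = (φ l)⁻¹ * (φ l * φ g * (φ l)⁻¹) * m := by group
      _ = _ := by rw [← this]; group
  · rintro ⟨_, ⟨l, rfl⟩, c, hc, rfl⟩
    refine ⟨l, fun g => ?_⟩
    rw [gm_one, map_mul, map_mul, map_inv, mul_assoc (φ l), ← mem_Cs.1 hc _ ⟨g, rfl⟩]
    group

theorem inv_data (hq : Qd σ) (hi : Function.Injective φ) {l : SL(4, E)} (m2 : m * m = 1)
    (h : ∀ g, m * φ g * m⁻¹ = φ (l * gm τ b g * l⁻¹)) : τ * τ = 1 ∧ l * gm τ b l = 1 := by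
  have h1 := Th.mul ⟨l, h⟩ ⟨l, h⟩
  rw [m2] at h1
  have h2 := (h1.uniq hq hi Th.one).1
  refine ⟨h2, mem_bot.1 ((sl_center hq).le (mem_center_iff.2 fun g => ?_))⟩
  have h3 : m * m * φ g * (m * m)⁻¹ = φ (l * gm τ b (l * gm τ b g * l⁻¹) * l⁻¹) := by
    rw [← h, ← h]; group
  rw [m2, one_mul, inv_one, mul_one, map_mul (gm τ b), map_mul (gm τ b), map_inv (gm τ b), gm_mul,
    h2, Bool.xor_self, gm_one] at h3
  conv_lhs => rw [hi h3]
  group

theorem norm (hq : Qd σ) (hi : Function.Injective φ) (m2 : m * m = 1) (h : Th φ m σ b) :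
    ∃ k, ∀ g, (φ k)⁻¹ * m * φ k * φ g * ((φ k)⁻¹ * m * φ k)⁻¹ = φ (gm σ b g) := by
  obtain ⟨l, h⟩ := h
  obtain ⟨k, rfl⟩ := sl_lang hq (inv_data hq hi m2 h).2
  refine ⟨k, fun g => ?_⟩
  calc _ = (φ k)⁻¹ * (m * φ (k * g * k⁻¹) * m⁻¹) * φ k := by
        rw [map_mul, map_mul, map_inv]; group
    _ = _ := by
        rw [h, ← map_inv φ, ← map_mul φ, ← map_mul φ, map_mul (gm σ b), map_mul (gm σ b),
          map_inv (gm σ b)]
        congr 1
        group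

theorem th_t (h : EF σ x t φ) : Th φ t σ true := ⟨1, fun g => by simpa [gm_true] using h.act g⟩

theorem odd (h : EF σ x t φ) : Odd (Nat.card (Cs φ.range)) :=
  h.toH1.odd_Cs (LL_le.2 fun i s => ⟨_, h.res i s⟩) h.cO (th_t h).mem fun ht =>
    Bool.noConfusion ((th_t h).uniq h.qd h.inj (one_iff.2 (mem_sup_right ht))).2

theorem KC_le : φ.range ⊔ Cs φ.range ≤ Ns φ.range := sup_le le_normalizer Cs_le_Ns

end EFa

open EFa

theorem EF.conj_t (h : EF σ x t φ) {u : G} (u2 : u * u = 1) (hu : Th φ u σ true) :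
    ∃ k ∈ φ.range ⊔ Cs φ.range, k * u * k⁻¹ = t := by
  obtain ⟨k, hk⟩ := norm h.qd h.inj u2 hu
  have h3 : (φ k)⁻¹ * u * φ k * ((φ k)⁻¹ * u * φ k) = 1 := by
    simpa using Comp.conj_sq u2 (φ k)⁻¹
  have hc : (φ k)⁻¹ * u * φ k * t ∈ Cs φ.range := mem_Cs.2 (by
    rintro _ ⟨g, rfl⟩
    have h1 := hk (gm σ true g)
    rw [gm_mul, h.qd.mul_self, Bool.xor_self, gm_one, gm_true, ← h.act] at h1
    conv_lhs => rw [← h1]
    group)
  obtain ⟨n, hn⟩ := exists_zpow_conj_of_odd_mul h3 h.t2 (odd_orderOf_of_mem hc (odd h))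
  exact ⟨_, mul_mem (mem_sup_right (zpow_mem hc n)) (mem_sup_left (inv_mem ⟨k, rfl⟩)),
    Eq.trans (by group) hn⟩

theorem EF.uq (h : EF σ x t φ) : Uq (Ns φ.range) t := by
  intro g hg
  have t2 := Comp.conj_sq h.t2 g
  obtain ⟨τ, b, l, hl⟩ := exists_Th h.qd h.inj hg
  obtain ⟨h1, h2⟩ := inv_data h.qd h.inj t2 hl
  rcases h.qd.aut_inv h1 with rfl | rfl
  · obtain ⟨T, hT, hc, hf⟩ := sl_inv1 h.qd h2
    have := h.toH1.two_bound (isPGroup_cj (hT.map φ) g⁻¹) (cj_le_iff.2 (by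
      rintro _ ⟨a, ha, rfl⟩
      have e := hl a
      rw [hf a ha] at e
      refine mem_C1.2 ?_
      conv_lhs => rw [← e]
      group))
    rw [card_cj, card_map_of_injective h.inj] at this
    omega
  · cases b
    · obtain ⟨k, hk⟩ := norm h.qd h.inj t2 ⟨l, hl⟩
      obtain ⟨Y, hY, hf, hc⟩ := sl_sub h.qd
      have hH := h.toHyp.cx ((φ k)⁻¹ * g)
      have h3 := card_dvd_of_le (hH.perf (Y := Y.map φ) (by rw [← map_commutator, hY]) (by
        rintro _ ⟨a, ha, rfl⟩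
        have e := hk a
        rw [hf a ha] at e
        refine mem_C1.2 ?_
        conv_lhs => rw [← e]
        group))
      have h4 := h.four
      have p : ∀ n, n ≠ 0 → 0 < qn τ ^ n - 1 := fun n hn =>
        Nat.sub_pos_of_lt (Nat.one_lt_pow hn (by omega))
      rw [card_map_of_injective h.inj, hc, hH.card, Nat.mul_dvd_mul_iff_right (p 4 (by decide)),
        Nat.mul_dvd_mul_iff_left (Nat.mul_pos (by positivity) (p 2 (by decide)))] at h3
      have h5 : 4 ^ 3 ≤ qn τ ^ 3 := Nat.pow_le_pow_left h4 3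
      have h6 := Nat.le_of_dvd two_pos ((Nat.dvd_add_right dvd_rfl).1
        (show qn τ ^ 3 - 1 ∣ qn τ ^ 3 - 1 + 2 by rwa [show qn τ ^ 3 - 1 + 2 = qn τ ^ 3 + 1 by omega]))
      omega
    · obtain ⟨k, hk, e⟩ := h.conj_t t2 ⟨l, hl⟩
      exact (mul_mem_cancel_left (KC_le hk)).1 (h.nL (mem_C1.2 (by
        conv_rhs => rw [← e]
        group)))

end Cfsg.Lib.SU4
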