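import Cfsg.Agent.SU4.M1bA

/-!
# Centralisers and normalisers in `U₄(2ⁿ)`
-/

set_option autoImplicit false
set_option linter.unusedSectionVars false

namespace Cfsg.Lib.SU4

open Subgroup Cfsg.Lib.Trans Cfsg.Lib.Gold Cfsg.Lib.Chev
open scoped commutatorElement MatrixGroups

namespace M1b

section Model

variable {E : Type*} [Field E] [Finite E] {σ : E ≃+* E} {g : SL(4, E)}
  {a00 a01 a02 a03 a10 a11 a12 a13 a20 a21 a22 a23 a30 a31 a32 a33 : E}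

theorem hh_SL (σ : E ≃+* E) {Γ : Type*} [Group Γ] (x : ZMod 8 → E → Γ) (i : ZMod 8) (s : E) :
    hh σ x i s ∈ SL x i := by
  have k : ∀ s, nn σ x i s ∈ SL x i := fun s => mul_mem (mul_mem (mem_sup_left (x_mem_rt _ _))
    (mem_sup_right (x_mem_rt _ _))) (mem_sup_left (x_mem_rt _ _))
  exact mul_mem (k s) (k 1)

theorem det_tri (e : mx g = !![a00, a01, a02, a03; 0, a11, a12, a13; 0, 0, a22, a23; 0, 0, 0, a33]) :
    a00 * a11 * a22 * a33 = 1 := by rw [← det4, ← e]; exact g.2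

variable (h : Qd σ) (hg : g ∈ LL (X4 σ))
include h hg

theorem bor {t : SL(4, E)} (ht : t ∈ LL (X4 σ)) {γ δ : E} (h0 : a00 ≠ 0) (h1 : a11 ≠ 0) (h2 : γ ≠ 0)
    (h3 : δ ≠ 0) (e' : mx t = !![a00, 0, 0, 0; 0, a11, 0, 0; 0, 0, γ, 0; 0, 0, 0, δ])
    (e : mx g = !![a00, a01, a02, a03; 0, a11, a12, a13; 0, 0, a22, a23; 0, 0, 0, a33]) :
    ∃ u ∈ UU (X4 σ), g = t * u := by
  obtain ⟨b00, b01, b02, b03, b10, b11, b12, b13, b20, b21, b22, b23, b30, b31, b32, b33, k⟩ :=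
    eta4 (mx (t⁻¹ * g))
  have k1 := congrArg mx (mul_inv_cancel_left t g)
  rw [mx_mul t, k, e, e'] at k1
  simp [h0, h1, h2, h3] at k1
  obtain ⟨⟨rfl, -⟩, ⟨rfl, rfl, -⟩, ⟨rfl, rfl, -⟩, rfl, rfl, rfl, -⟩ := k1
  obtain ⟨c, r, -, -, k2⟩ := tri h (mul_mem (inv_mem ht) hg) k
  exact ⟨_, k2 ▸ uu_mem_UU _ _ _ _, (mul_inv_cancel_left t g).symm⟩

theorem czT (e : mx g = !![a00, a01, a02, a03; 0, a11, a12, a13; 0, 0, a22, a23; 0, 0, 0, a00]) :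
    ∃ e, e * σ e = 1 ∧ ∃ p ∈ PA (X4 σ), g = hh σ (X4 σ) 0 e * p := by
  have k := un h hg
  have d := det_tri e
  simp [e, adj4, one4] at k
  obtain ⟨⟨k1, -⟩, ⟨k2, -⟩, ⟨k3, -⟩, -⟩ := k
  have h0 : a00 ≠ 0 := right_ne_zero_of_mul_eq_one k1
  have h1 : a11 ≠ 0 := right_ne_zero_of_mul_eq_one k2
  have h2 := mul_ne_zero h0 h1
  have fc : σ (a00 * a11) = a00 * a11 := by
    rw [map_mul]
    linear_combination (-σ a00 * σ a11) * d + a00 * a11 * a00 * σ a00 * k3 + a00 * a11 * k1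
  obtain ⟨u, hu, k4⟩ := bor h hg (mul_mem (SL_le_LL _ (hh_SL σ _ 0 a00))
    (SL_le_LL _ (hh_SL σ _ 3 (a00 * a11)))) h0 h1 (γ := σ a00 * (a00 * a11)⁻¹) (δ := (σ a00)⁻¹)
    (by simp [h0, h1]) (by simp [h0]) (by simp [mx_mul, H0 h h0, H3 h h2 fc, h0]) e
  exact ⟨a00, by rw [mul_comm, k1], _, mul_mem (SL_le_PA (hh_SL σ _ 3 _)) (UU_le_PA hu),
    by rw [k4, mul_assoc]⟩

theorem czS (e : mx g = !![a00, a01, a02, a03; 0, a11, a12, a13; 0, a21, a22, a23; 0, 0, 0, a00])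
    (h2 : a22 ≠ 0) : ∃ e, e * σ e = 1 ∧ ∃ p ∈ PA (X4 σ), g = hh σ (X4 σ) 0 e * p := by
  have k := un' h hg
  simp [e, adj4, one4] at k
  obtain ⟨-, -, ⟨k1, -⟩, -⟩ := k
  have h3 : σ a22 ≠ 0 := by simpa using h2
  have fs : σ (a21 / a22) = a21 / a22 := by
    rw [map_div₀, div_eq_div_iff h3 h2]
    linear_combination k1 - a21 * σ a22 * h.two
  have k2 : a21 + a22 * (a21 / a22) = 0 := by rw [mul_div_cancel₀ _ h2, add_self h]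
  obtain ⟨l, hl, p, hp, k3⟩ := czT h (mul_mem hg (x_mem_LL 7 (a21 / a22)))
    (by simp only [mx_mul, e, X7 fs, mul4, mul_zero, mul_one, zero_mul, add_zero, zero_add, k2]; rfl)
  exact ⟨l, hl, _, mul_mem hp (inv_mem (SL_le_PA (mem_sup_right (x_mem_rt (3 + 4) (a21 / a22))))),
    by rw [← mul_assoc, ← k3]; exact (mul_inv_cancel_right _ _).symm⟩

theorem c1 (hc : g * X4 σ 1 1 = X4 σ 1 1 * g) : ∃ a00 a01 a02 a03 a11 a12 a13 a21 a22 a23 : E,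
    mx g = !![a00, a01, a02, a03; 0, a11, a12, a13; 0, a21, a22, a23; 0, 0, 0, a00] := by
  obtain ⟨b00, b01, b02, b03, b10, b11, b12, b13, b20, b21, b22, b23, b30, b31, b32, b33, k⟩ :=
    eta4 (mx g)
  have k1 := congrArg mx hc
  simp [mx_mul, k, X1, add_comm b03] at k1
  obtain ⟨⟨rfl, rfl, rfl, rfl⟩, rfl, rfl, -⟩ := k1
  exact ⟨_, _, _, _, _, _, _, _, _, _, k⟩

theorem czM (hc : g * X4 σ 1 1 = X4 σ 1 1 * g) :
    ∃ e, e * σ e = 1 ∧ ∃ p ∈ PA (X4 σ), g = hh σ (X4 σ) 0 e * p := by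
  obtain ⟨a00, a01, a02, a03, a11, a12, a13, a21, a22, a23, e⟩ := c1 h hg hc
  by_cases h1 : a21 = 0
  · exact czT h hg (h1 ▸ e)
  by_cases h2 : a22 = 0
  swap
  · exact czS h hg e h2
  obtain ⟨l, hl, p, hp, k3⟩ := czS h (mul_mem hg (x_mem_LL 3 1)) (by
    simp only [mx_mul, e, X3 (map_one σ), mul4, mul_zero, mul_one, add_zero, zero_add, h2]; rfl) h1
  exact ⟨l, hl, _, mul_mem hp (inv_mem (SL_le_PA (mem_sup_left (x_mem_rt 3 1)))),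
    by rw [← mul_assoc, ← k3]; exact (mul_inv_cancel_right _ _).symm⟩

theorem nvT (e : mx g = !![a00, a01, a02, a03; 0, a11, a12, a13; 0, 0, a22, a23; 0, 0, a32, a33]) :
    ∃ c, σ c = c ∧ c ≠ 0 ∧ ∃ p ∈ PB (X4 σ), g = hh σ (X4 σ) 1 c * p := by
  have k := un h hg
  simp [e, adj4, one4] at k
  obtain ⟨⟨k1, -⟩, ⟨k0, k2, -⟩, ⟨k3, -⟩, -, k4⟩ := k
  have h0 : a00 ≠ 0 := right_ne_zero_of_mul_eq_one k1
  obtain rfl := k0.resolve_right h0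
  simp only [map_zero, zero_mul, zero_add, mul_zero, add_zero] at k2 k3 k4
  have d := det_tri e
  have h1 : a11 ≠ 0 := right_ne_zero_of_mul_eq_one k2
  have h2 := mul_ne_zero h0 h1
  have k5 := congrArg σ k1
  rw [map_mul, h.ss, map_one] at k5
  have fc : σ (a00 * a11) = a00 * a11 := by
    rw [map_mul]
    linear_combination (-σ a00 * σ a11) * d + a00 * a11 * a33 * σ a00 * k3 + a00 * a11 * k5
  obtain ⟨u, hu, k4⟩ := bor h hg (mul_mem (SL_le_LL _ (hh_SL σ _ 1 (a00 * a11)))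
    (SL_le_LL _ (hh_SL σ _ 0 a11⁻¹))) h0 h1 (γ := σ a11⁻¹) (δ := (a00 * a11)⁻¹ * (σ a11⁻¹)⁻¹)
    (by simp [h1]) (by simp [h0, h1])
    (by simp [mx_mul, H0 h (inv_ne_zero h1), H1 h h2 fc, h1]) e
  exact ⟨_, fc, h2, _, mul_mem (SL_le_PB (hh_SL σ _ 0 _)) (UU_le_PB hu), by rw [k4, mul_assoc]⟩

theorem nvS (e : mx g = !![a00, a01, a02, a03; a10, a11, a12, a13; 0, 0, a22, a23; 0, 0, a32, a33])
    (h1 : a11 ≠ 0) : ∃ c, σ c = c ∧ c ≠ 0 ∧ ∃ p ∈ PB (X4 σ), g = hh σ (X4 σ) 1 c * p := by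
  have k2 : a10 + a11 * (a10 / a11) = 0 := by rw [mul_div_cancel₀ _ h1, add_self h]
  obtain ⟨l, hl, h0, p, hp, k3⟩ := nvT h (mul_mem hg (x_mem_LL 4 (σ (a10 / a11)))) (by
    simp only [mx_mul, e, X4', h.ss, mul4, mul_zero, mul_one, zero_mul, add_zero, zero_add, k2]; rfl)
  exact ⟨l, hl, h0, _,
    mul_mem hp (inv_mem (SL_le_PB (mem_sup_right (x_mem_rt (0 + 4) (σ (a10 / a11)))))),
    by rw [← mul_assoc, ← k3]; exact (mul_inv_cancel_right _ _).symm⟩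

theorem nvM {d c r d' c' r' : E} (hd : σ d = d) (hr : σ r = r) (hd' : σ d' = d') (hr' : σ r' = r')
    (k1 : X4 σ 1 1 * g = g * vv (X4 σ) d c r) (k3 : X4 σ 3 1 * g = g * vv (X4 σ) d' c' r') :
    ∃ c, σ c = c ∧ c ≠ 0 ∧ ∃ p ∈ PB (X4 σ), g = hh σ (X4 σ) 1 c * p := by
  obtain ⟨b00, b01, b02, b03, b10, b11, b12, b13, b20, b21, b22, b23, b30, b31, b32, b33, e⟩ :=
    eta4 (mx g)
  have k2 := congrArg mx k1
  have k4 := congrArg mx k3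
  simp [mx_mul, e, X1, X3, vv_coe, hd, hr, hd', hr'] at k2 k4
  obtain ⟨⟨rfl, rfl, -⟩, -⟩ := k2
  obtain ⟨-, ⟨rfl, rfl, -⟩, -⟩ := k4
  by_cases h1 : b10 = 0
  · exact nvT h hg (h1 ▸ e)
  by_cases h2 : b11 = 0
  swap
  · exact nvS h hg e h2
  obtain ⟨l, hl, h0, p, hp, k3⟩ := nvS h (mul_mem hg (x_mem_LL 0 1)) (by
    simp only [mx_mul, e, X0, mul4, mul_zero, mul_one, add_zero, zero_add, h2]; rfl) h1
  exact ⟨l, hl, h0, _, mul_mem hp (inv_mem (SL_le_PB (mem_sup_left (x_mem_rt 0 1)))),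
    by rw [← mul_assoc, ← k3]; exact (mul_inv_cancel_right _ _).symm⟩

theorem sc (e : mx g = !![a00, a01, a02, a03; 0, a00, a12, a13; 0, 0, a00, a23; 0, 0, 0, a00]) :
    ∃ c r, σ a12 = a12 ∧ σ r = r ∧ g = uu (X4 σ) a01 a12 c r := by
  obtain rfl : a00 = 1 := h.eq_one_of (by linear_combination det_tri e)
  exact tri h hg e

theorem cvM (h1 : g * X4 σ 1 1 = X4 σ 1 1 * g) (h2 : g * X4 σ 2 1 = X4 σ 2 1 * g)
    (h3 : g * X4 σ 3 1 = X4 σ 3 1 * g) :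
    ∃ d c r, σ d = d ∧ σ r = r ∧ g = uu (X4 σ) 0 d c r := by
  obtain ⟨a00, a01, a02, a03, a11, a12, a13, a21, a22, a23, e⟩ := c1 h hg h1
  have k2 := congrArg mx h2
  have k3 := congrArg mx h3
  simp [mx_mul, e, X2, X3, add_comm a13, add_comm a12] at k2 k3
  obtain ⟨-, rfl, -⟩ := k2
  obtain ⟨rfl, ⟨rfl, rfl, -⟩, -⟩ := k3
  exact ⟨_, sc h hg e⟩

theorem faM {r r' : E} (hr : σ r = r) (hr' : σ r' = r') (h1 : g * X4 σ 1 1 = X4 σ 1 1 * g)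
    (h0 : g * X4 σ 0 1 = X4 σ 1 r * X4 σ 0 1 * g) (h2 : g * X4 σ 2 1 = X4 σ 1 r' * X4 σ 2 1 * g) :
    ∃ a c r, σ r = r ∧ g = uu (X4 σ) a 0 c r := by
  obtain ⟨a00, a01, a02, a03, a11, a12, a13, a21, a22, a23, e⟩ := c1 h hg h1
  have k2 := congrArg mx h2
  have k0 := congrArg mx h0
  simp [mx_mul, e, X0, X2, X1, hr, hr', add_comm a13, add_comm a01, add_comm a23] at k2 k0
  obtain ⟨⟨rfl, -⟩, -⟩ := k2
  obtain ⟨⟨rfl, rfl, -⟩, -, rfl⟩ := k0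
  obtain ⟨c, r, -, k⟩ := sc h hg e
  exact ⟨_, c, r, k⟩

end Model

section Map

variable {E Γ Γ' : Type*} [Field E] [Group Γ] [Group Γ'] (x : ZMod 8 → E → Γ) (φ : Γ →* Γ')

theorem PA_map : PA (fun i s => φ (x i s)) = (PA x).map φ := by
  simp only [PA, QQ, NN, SL, rt_map, Subgroup.map_sup]
theorem PB_map : PB (fun i s => φ (x i s)) = (PB x).map φ := by
  simp only [PB, VV, NN, SL, rt_map, Subgroup.map_sup]
theorem hh_map (σ : E ≃+* E) (i : ZMod 8) (s : E) :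
    hh σ (fun i s => φ (x i s)) i s = φ (hh σ x i s) := by simp only [hh, nn, map_mul]
theorem vv_map (d c r : E) : vv (fun i s => φ (x i s)) d c r = φ (vv x d c r) := by
  simp only [vv, map_mul]
theorem uu_map (a d c r : E) : uu (fun i s => φ (x i s)) a d c r = φ (uu x a d c r) := by
  simp only [uu, vv, map_mul]

end Map

variable {G E : Type*} [Group G] [Finite G] [Field E] [Finite E] {σ : E ≃+* E}
  {x : ZMod 8 → E → G}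

/-- The model inside the group it generates. -/
noncomputable def Y (σ : E ≃+* E) (i : ZMod 8) (s : E) : LL (X4 σ) := ⟨X4 σ i s, x_mem_LL i s⟩

theorem Y_eq_1' : type_of% @Y.eq_1 := @Y.eq_1

theorem ex (h : Sys σ x) {l : G} (hl : l ∈ LL x) : ∃ (φ : LL (X4 σ) →* G) (g : LL (X4 σ)),
    Function.Injective φ ∧ (x = fun i s => φ (Y σ i s)) ∧ l = φ g := by
  obtain ⟨φ, h1, h2⟩ := h.mod
  obtain rfl : x = fun i s => φ (Y σ i s) := funext₂ fun i s => (h2 i s).symm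
  rw [LL_map] at hl
  obtain ⟨g, -, rfl⟩ := hl
  exact ⟨φ, g, h1, rfl, rfl⟩

theorem tr {φ : LL (X4 σ) →* G} (hφ : Function.Injective φ) {a b c d : LL (X4 σ)}
    (e : φ a * φ b = φ c * φ d) : (a : SL(4, E)) * b = c * d :=
  congrArg Subtype.val (hφ (by rwa [map_mul, map_mul]) : a * b = c * d)

end M1b

open M1b

variable {G E : Type*} [Group G] [Finite G] [Field E] [Finite E] {σ : E ≃+* E}
  {x : ZMod 8 → E → G}

theorem Sys.cz (h : Sys σ x) {l : G} (hl : l ∈ LL x) (hc : Commute l (x 1 1)) :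
    ∃ e, e * σ e = 1 ∧ ∃ p ∈ PA x, l = hh σ x 0 e * p := by
  obtain ⟨φ, g, hφ, rfl, rfl⟩ := ex h hl
  obtain ⟨e, he, p, hp, k⟩ := czM h.qd g.2 (tr hφ hc)
  obtain ⟨p, hp', rfl⟩ := (PA_map (Y σ) (LL (X4 σ)).subtype).le hp
  exact ⟨e, he, φ p, (PA_map _ φ).ge (mem_map_of_mem φ hp'), by
    rw [hh_map, ← map_mul]; exact congrArg φ (Subtype.ext k)⟩

theorem Sys.nVL (h : Sys σ x) {l : G} (hl : l ∈ LL x) (hn : l ∈ Ns (VV x)) :
    ∃ c, σ c = c ∧ c ≠ 0 ∧ ∃ p ∈ PB x, l = hh σ x 1 c * p := by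
  have k : ∀ v ∈ VV x, ∃ d c r, σ d = d ∧ σ r = r ∧ v * l = l * vv x d c r := fun v hv => by
    obtain ⟨d, c, r, hd, hr, e⟩ := h.s.mem_VV.1 ((mem_normalizer_iff''.1 hn v).1 hv)
    exact ⟨d, c, r, hd, hr, by rw [← e]; group⟩
  obtain ⟨d, c, r, hd, hr, k1⟩ := k _ (R_le_VV (x_mem_rt 1 1))
  obtain ⟨d', c', r', hd', hr', k3⟩ := k _ (X3_le_VV (x_mem_rt 3 1))
  obtain ⟨φ, g, hφ, rfl, rfl⟩ := ex h hl
  rw [vv_map] at k1 k3
  obtain ⟨e, he, h0, p, hp, k⟩ := nvM h.qd g.2 hd hr hd' hr' (tr hφ k1) (tr hφ k3)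
  obtain ⟨p, hp', rfl⟩ := (PB_map (Y σ) (LL (X4 σ)).subtype).le hp
  exact ⟨e, he, h0, φ p, (PB_map _ φ).ge (mem_map_of_mem φ hp'), by
    rw [hh_map, ← map_mul]; exact congrArg φ (Subtype.ext k)⟩

theorem Sys.cVL (h : Sys σ x) {l : G} (hl : l ∈ LL x) (h1 : Commute l (x 1 1))
    (h2 : Commute l (x 2 1)) (h3 : Commute l (x 3 1)) : l ∈ VV x := by
  obtain ⟨φ, g, hφ, rfl, rfl⟩ := ex h hl
  obtain ⟨d, c, r, hd, hr, k⟩ := cvM h.qd g.2 (tr hφ h1) (tr hφ h2) (tr hφ h3)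
  exact h.s.mem_VV.2 ⟨d, c, r, hd, hr, by
    rw [← h.s.uu_zero, uu_map]; exact congrArg φ (Subtype.ext k)⟩

theorem Sys.fa (h : Sys σ x) {l : G} (hl : l ∈ LL x) (h1 : Commute l (x 1 1))
    (h0 : ⁅l, x 0 1⁆ ∈ rt x 1) (h2 : ⁅l, x 2 1⁆ ∈ rt x 1) : l ∈ QQ x := by
  obtain ⟨r, hr, k0⟩ := (h.s.mem_rtl (by decide)).1 h0
  obtain ⟨r', hr', k2⟩ := (h.s.mem_rtl (by decide)).1 h2
  rw [commutatorElement_def, mul_inv_eq_iff_eq_mul, mul_inv_eq_iff_eq_mul] at k0 k2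
  obtain ⟨φ, g, hφ, rfl, rfl⟩ := ex h hl
  rw [← map_mul φ (Y σ 1 _)] at k0 k2
  obtain ⟨a, c, s, hs, k⟩ := faM h.qd g.2 hr hr' (tr hφ h1) (tr hφ k0) (tr hφ k2)
  exact h.s.mem_QQ.2 ⟨a, c, s, hs, by rw [uu_map]; exact congrArg φ (Subtype.ext k)⟩

end Cfsg.Lib.SU4
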