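import Cfsg.Agent.SU4.Defs

/-!
# Systems of type `²A₃`: the elements `n` and `h`
-/

set_option autoImplicit false
set_option linter.unusedSectionVars false

namespace Cfsg.Lib.SU4

open Subgroup Cfsg.Lib.Trans Cfsg.Lib.Gold Cfsg.Lib.Chev
open scoped commutatorElement MatrixGroups

namespace M1n

variable {E : Type*} [Field E] {σ : E ≃+* E} {g k : SL(4, E)} {π ρ : Equiv.Perm (Fin 4)}
  {d e : Fin 4 → E}

/-- Monomial matrices. -/
def Mn (g : SL(4, E)) (π : Equiv.Perm (Fin 4)) (d : Fin 4 → E) : Prop :=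
  ∀ i j, g.1 i j = if i = π j then d j else 0
theorem Mn_eq_1' : type_of% @Mn.eq_1 := @Mn.eq_1

theorem Mn.mul (a : Mn g π d) (b : Mn k ρ e) : Mn (g * k) (π * ρ) fun j => d (ρ j) * e j :=
  fun i j => by
    change (g.1 * k.1) i j = _
    rw [Matrix.mul_apply, Finset.sum_eq_single (ρ j) (fun l _ h => by rw [b, if_neg h, mul_zero])
      (by simp), a, b, if_pos rfl, ite_mul, zero_mul]
    rfl

theorem Mn.congr (a : Mn g π d) (h : π = ρ) (h' : ∀ j, d j = e j) : Mn g ρ e := by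
  rw [← h, ← funext h']; exact a

theorem Mn.eq (a : Mn g π d) (b : Mn k π e) (h : ∀ j, d j = e j) : g = k :=
  Subtype.ext (Matrix.ext fun i j => by rw [a, b, h])

theorem Mn.conj (h : Mn g π d) (hd : ∀ j, d j ≠ 0) {a b : Fin 4} (hab : a ≠ b) (t : E) :
    g * slE a b t * g⁻¹ = slE (π a) (π b) (d a / d b * t) := by
  rw [mul_inv_eq_iff_eq_mul]
  refine Subtype.ext ?_
  change g.1 * (slE a b t).1 = (slE _ _ _).1 * g.1
  rw [coe_slE hab, coe_slE (π.injective.ne hab), mul_add, add_mul, mul_one, one_mul, add_right_inj]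
  ext i j
  by_cases h1 : j = b <;> by_cases h2 : i = π a
  · subst h1 h2
    rw [Matrix.mul_single_apply_same, Matrix.single_mul_apply_same, h, h, if_pos rfl, if_pos rfl]
    field_simp [hd j]
  · subst h1
    rw [Matrix.mul_single_apply_same, Matrix.single_mul_apply_of_ne _ _ _ _ _ h2, h, if_neg h2,
      zero_mul]
  · subst h2
    rw [Matrix.mul_single_apply_of_ne _ _ _ _ _ h1, Matrix.single_mul_apply_same, h,
      if_neg (π.injective.ne (Ne.symm h1)), mul_zero]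
  · rw [Matrix.mul_single_apply_of_ne _ _ _ _ _ h1, Matrix.single_mul_apply_of_ne _ _ _ _ _ h2]

/-- The Kronecker delta. -/
def dl (a b : Fin 4) : ℤ := if a = b then 1 else 0
theorem dl_eq_1' : type_of% @dl.eq_1 := @dl.eq_1

theorem mn_w (h2 : (2 : E) = 0) {a b : Fin 4} (hab : a ≠ b) {t : E} (ht : t ≠ 0) :
    Mn (slE a b t * slE b a t⁻¹ * slE a b t) (Equiv.swap a b) fun j => t ^ (dl j b - dl j a) :=
  fun i j => by
    have e : -t⁻¹ = t⁻¹ := by linear_combination (-t⁻¹) * h2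
    have := coe_stW_slE hab ht
    rw [e] at this
    rw [this]
    by_cases h1 : j = a
    · subst h1
      by_cases h3 : i = b
      · simp [dl, h3, hab, hab.symm]
      by_cases h4 : i = j
      · simp [dl, h4, hab, hab.symm]
      · simp [h3, h4, hab.symm, Ne.symm h3, Ne.symm h4]
    by_cases h1' : j = b
    · subst h1'
      by_cases h3 : i = a
      · simp [dl, h3, hab, hab.symm]
      by_cases h4 : i = j
      · simp [dl, h4, hab, hab.symm]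
      · simp [h3, h4, hab, Ne.symm h3, Ne.symm h4]
    · simp [dl, Matrix.single_apply, Matrix.one_apply, Equiv.swap_apply_of_ne_of_ne h1 h1', h1, h1',
        Ne.symm h1, Ne.symm h1']

/-- The exponents of `s` in `h_i(s)`. -/
def al (i : ZMod 8) (j : Fin 4) : ℤ := dl j (ra i) - dl j (rb i)
theorem al_eq_1' : type_of% @al.eq_1 := @al.eq_1

/-- The exponents of `σ s` in `h_i(s)`. -/
def be (i : ZMod 8) (j : Fin 4) : ℤ := if Ev i then dl j (rb i).rev - dl j (ra i).rev else 0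
theorem be_eq_1' : type_of% @be.eq_1 := @be.eq_1

/-- The permutation of `n_i`. -/
def pm (i : ZMod 8) : Equiv.Perm (Fin 4) :=
  if Ev i then Equiv.swap (ra i) (rb i) * Equiv.swap (rb i).rev (ra i).rev
  else Equiv.swap (ra i) (rb i)
theorem pm_eq_1' : type_of% @pm.eq_1 := @pm.eq_1

theorem idx : ∀ i : ZMod 8, ra i ≠ rb i ∧ (rb i).rev ≠ (ra i).rev ∧ ra (i + 4) = (ra i).rev ∧
    rb (i + 4) = (rb i).rev ∧ (Ev (i + 4) ↔ Ev i) ∧
    (Ev i → rb i ≠ (rb i).rev ∧ ra i ≠ (ra i).rev ∧ rb i ≠ (ra i).rev ∧ ra i ≠ (rb i).rev) ∧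
    (¬ Ev i → (ra i).rev = rb i ∧ (rb i).rev = ra i) := by decide

theorem idx_n : ∀ i j : ZMod 8, (Ev (2 * i + 4 - j) ↔ Ev j) ∧
    pm i (ra j) = (rb (2 * i + 4 - j)).rev ∧ pm i (rb j) = (ra (2 * i + 4 - j)).rev ∧
    pm i (rb j).rev = ra (2 * i + 4 - j) ∧ pm i (ra j).rev = rb (2 * i + 4 - j) := by
  decide +kernel

theorem idx_h : ∀ i : ZMod 8, pm i * pm i = 1 ∧ ∀ j, -al i (pm i j) = al i j ∧
    -be i (pm i j) = be i j ∧ (Ev i → dl (Equiv.swap (rb i).rev (ra i).rev j) (rb i) -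
      dl (Equiv.swap (rb i).rev (ra i).rev j) (ra i) = -al i j) := by decide +kernel

theorem idx_p : ∀ i j : ZMod 8, (al i (ra j) - al i (rb j) = pa i j ∧
    be i (ra j) - be i (rb j) = pb i j) ∧
    ((Ev i → al i (rb j).rev - al i (ra j).rev = pb i j ∧
      be i (rb j).rev - be i (ra j).rev = pa i j) ∧
    al i (rb j).rev - al i (ra j).rev + (be i (rb j).rev - be i (ra j).rev) = pb i j + pa i j) ∧
    (¬ Ev j → Ev i → pb i j = pa i j ∧ pa i j = pb i j) := by decide +kernel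

theorem X4_ev {i : ZMod 8} (hi : Ev i) (s : E) :
    X4 σ i s = slE (ra i) (rb i) s * slE (rb i).rev (ra i).rev (σ s) := if_pos hi

theorem X4_od {i : ZMod 8} (hi : ¬ Ev i) {s : E} (hs : σ s = s) : X4 σ i s = slE (ra i) (rb i) s :=
  (if_neg hi).trans (if_pos hs)

theorem X4_junk {i : ZMod 8} (hi : ¬ Ev i) {s : E} (hs : σ s ≠ s) : X4 σ i s = 1 :=
  (if_neg hi).trans (if_neg hs)

theorem cm {i : ZMod 8} (hi : Ev i) (s u : E) :
    Commute (slE (ra i) (rb i) s) (slE (rb i).rev (ra i).rev u) :=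
  stA_slE.commute _ _ _ _ (idx i).1 (idx i).2.1 ((idx i).2.2.2.2.2.1 hi).1
    ((idx i).2.2.2.2.2.1 hi).2.1 _ _

variable (h2 : (2 : E) = 0) (ss : ∀ s, σ (σ s) = s)
include h2 ss

theorem mn_nn {i : ZMod 8} {s : E} (hs : s ≠ 0) (hi : Ev i ∨ σ s = s) :
    Mn (nn σ (X4 σ) i s) (pm i) fun j => s ^ (-al i j) * σ s ^ (-be i j) := by
  obtain ⟨a1, a2, a3, a4, a5, a6, a7⟩ := idx i
  by_cases he : Ev i
  · obtain ⟨b1, b2, b3, b4⟩ := a6 he
    have e : nn σ (X4 σ) i s = slE (ra i) (rb i) s * slE (rb i) (ra i) s⁻¹ * slE (ra i) (rb i) s *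
        (slE (rb i).rev (ra i).rev (σ s) * slE (ra i).rev (rb i).rev (σ s)⁻¹ *
          slE (rb i).rev (ra i).rev (σ s)) := by
      have c1 : ∀ t u : E, Commute (slE (rb i) (ra i) t) (slE (rb i).rev (ra i).rev u) :=
        stA_slE.commute _ _ _ _ a1.symm a2 b4 b3
      have c2 : ∀ t u : E, Commute (slE (rb i) (ra i) t) (slE (ra i).rev (rb i).rev u) :=
        stA_slE.commute _ _ _ _ a1.symm a2.symm b2 b1
      have c3 : ∀ t u : E, Commute (slE (ra i) (rb i) t) (slE (ra i).rev (rb i).rev u) :=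
        stA_slE.commute _ _ _ _ a1 a2.symm b3 b4
      have := (((c1 s⁻¹ (σ s)).mul_right (c2 _ (σ s)⁻¹)).mul_left
        ((cm he s (σ s)).mul_right (c3 _ (σ s)⁻¹))).eq
      rw [nn, X4_ev he, X4_ev (a5.2 he), a3, a4, Fin.rev_rev, Fin.rev_rev, map_inv₀, ss]
      have key : ∀ a b p q : SL(4, E), b * a * (p * q) = p * q * (b * a) →
          a * p * (q * b) * (a * p) = a * b * a * (p * q * p) := fun a b p q e => by
        calc _ = a * (p * q * (b * a)) * p := by group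
          _ = _ := by rw [← e]; group
      exact key _ _ _ _ this
    rw [e]
    refine ((mn_w h2 a1 hs).mul (mn_w h2 a2 ((map_ne_zero σ).2 hs))).congr (if_pos he).symm
      fun j => ?_
    rw [((idx_h i).2 j).2.2 he, be, if_pos he, neg_sub]
  · have fs := hi.resolve_left he
    rw [nn, X4_od he fs, X4_od (mt a5.1 he) (by rw [map_inv₀, ss, fs]), a3, a4, (a7 he).1,
      (a7 he).2, fs]
    refine (mn_w h2 a1 hs).congr (if_neg he).symm fun j => ?_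
    rw [be, if_neg he, al, neg_sub, neg_zero, zpow_zero, mul_one]

theorem mn_n1 (i : ZMod 8) : Mn (nn σ (X4 σ) i 1) (pm i) fun _ => 1 :=
  (mn_nn h2 ss one_ne_zero (Or.inr (map_one σ))).congr rfl fun j => by simp

theorem mn_hh {i : ZMod 8} {s : E} (hs : s ≠ 0) (hi : Ev i ∨ σ s = s) :
    Mn (hh σ (X4 σ) i s) 1 fun j => s ^ al i j * σ s ^ be i j :=
  ((mn_nn h2 ss hs hi).mul (mn_n1 h2 ss i)).congr (idx_h i).1 fun j => by
    rw [((idx_h i).2 j).1, ((idx_h i).2 j).2.1, mul_one]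

theorem nn_one (i j : ZMod 8) (u : E) :
    nn σ (X4 σ) i 1 * X4 σ j u * (nn σ (X4 σ) i 1)⁻¹ = X4 σ (2 * i + 4 - j) (σ u) := by
  obtain ⟨a1, a2, a3, a4, a5⟩ := idx_n i j
  have c := fun a b hab t => (mn_n1 h2 ss i).conj (fun _ => one_ne_zero) (a := a) (b := b) hab t
  simp only [div_one, one_mul] at c
  by_cases he : Ev j
  · rw [X4_ev he, X4_ev (a1.2 he), ← conj_mul, c _ _ (idx j).1, c _ _ (idx j).2.1, a2, a3, a4, a5,
      ss, (cm (a1.2 he) _ _).eq]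
  · have he' := mt a1.1 he
    by_cases fu : σ u = u
    · rw [fu, X4_od he fu, X4_od he' fu, c _ _ (idx j).1, a2, a3, ((idx _).2.2.2.2.2.2 he').1,
        ((idx _).2.2.2.2.2.2 he').2]
    · rw [X4_junk he fu, X4_junk he' (by rw [ss]; exact Ne.symm fu), mul_one, mul_inv_cancel]

omit h2 ss in
theorem zz {i : ZMod 8} {s : E} (hs : s ≠ 0) (hi : Ev i ∨ σ s = s) {p q p' q' : ℤ}
    (h : Ev i → p = p' ∧ q = q') (h' : p + q = p' + q') : s ^ p * σ s ^ q = s ^ p' * σ s ^ q' := by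
  rcases hi with hi | hi
  · rw [(h hi).1, (h hi).2]
  · rw [hi, ← zpow_add₀ hs, ← zpow_add₀ hs, h']

theorem hh_conj (i j : ZMod 8) {s : E} (hs : s ≠ 0) (hi : Ev i ∨ σ s = s) (u : E) :
    hh σ (X4 σ) i s * X4 σ j u * (hh σ (X4 σ) i s)⁻¹ = X4 σ j (s ^ pa i j * σ s ^ pb i j * u) := by
  obtain ⟨a1, a2, a3⟩ := idx_p i j
  have hσ : σ s ≠ 0 := (map_ne_zero σ).2 hs
  have c : ∀ a b, a ≠ b → ∀ t, hh σ (X4 σ) i s * slE a b t * (hh σ (X4 σ) i s)⁻¹ =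
      slE a b (s ^ (al i a - al i b) * σ s ^ (be i a - be i b) * t) := fun a b hab t => by
    rw [(mn_hh h2 ss hs hi).conj (fun _ => mul_ne_zero (zpow_ne_zero _ hs) (zpow_ne_zero _ hσ)) hab,
      zpow_sub₀ hs, zpow_sub₀ hσ, div_mul_div_comm]
    rfl
  have e : σ (s ^ pa i j * σ s ^ pb i j) = s ^ pb i j * σ s ^ pa i j := by
    rw [map_mul, map_zpow₀, map_zpow₀, ss, mul_comm]
  by_cases he : Ev j
  · rw [X4_ev he, X4_ev he, ← conj_mul, c _ _ (idx j).1, c _ _ (idx j).2.1, a1.1, a1.2, map_mul σ, e,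
      zz hs hi a2.1 a2.2]
  · rw [zz hs hi (a3 he) (add_comm _ _)] at e
    by_cases fu : σ u = u
    · rw [X4_od he fu, X4_od he (fx_mul e fu), c _ _ (idx j).1, a1.1, a1.2]
    · rw [X4_junk he fu, X4_junk he, mul_one, mul_inv_cancel]
      rw [map_mul, e]
      exact mt (mul_left_cancel₀ (mul_ne_zero (zpow_ne_zero _ hs) (zpow_ne_zero _ hσ))) fu

theorem hh_mul (i : ZMod 8) {s u : E} (hs : s ≠ 0) (hu : u ≠ 0)
    (hi : Ev i ∨ σ s = s ∧ σ u = u) :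
    hh σ (X4 σ) i (s * u) = hh σ (X4 σ) i s * hh σ (X4 σ) i u :=
  (mn_hh h2 ss (mul_ne_zero hs hu) (hi.imp_right fun h => fx_mul h.1 h.2)).eq
    ((mn_hh h2 ss hs (hi.imp_right And.left)).mul (mn_hh h2 ss hu (hi.imp_right And.right)))
    fun j => by
      rw [map_mul, mul_zpow, mul_zpow, Equiv.Perm.one_apply]; ring

theorem hh_comm (i j : ZMod 8) {s u : E} (hs : s ≠ 0) (hi : Ev i ∨ σ s = s)
    (hu : u ≠ 0) (hj : Ev j ∨ σ u = u) :
    hh σ (X4 σ) i s * hh σ (X4 σ) j u = hh σ (X4 σ) j u * hh σ (X4 σ) i s :=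
  ((mn_hh h2 ss hs hi).mul (mn_hh h2 ss hu hj)).eq ((mn_hh h2 ss hu hj).mul (mn_hh h2 ss hs hi))
    fun _ => mul_comm _ _

omit h2 ss in
theorem entry {i : ZMod 8} {s : E} (hi : Ev i ∨ σ s = s) : (X4 σ i s).1 (ra i) (rb i) = s := by
  obtain ⟨a1, a2, -, -, -, a6, -⟩ := idx i
  by_cases he : Ev i
  · obtain ⟨b1, -, -, b4⟩ := a6 he
    rw [X4_ev he, Matrix.SpecialLinearGroup.coe_mul, coe_slE a1, coe_slE a2, mul_add, mul_one, add_mul, one_mul,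
      Matrix.single_mul_single_of_ne _ _ _ _ b1]
    simp [a1, b4.symm]
  · rw [X4_od he (hi.resolve_left he), coe_slE a1]
    simp [a1]

end M1n

variable {G E : Type*} [Group G] [Finite G] [Field E] [Finite E] {σ : E ≃+* E}
  {x : ZMod 8 → E → G}

theorem nn_mem_SL (i : ZMod 8) (s : E) : nn σ x i s ∈ SL x i :=
  mul_mem (mul_mem (mem_sup_left (x_mem_rt _ _)) (mem_sup_right (x_mem_rt _ _)))
    (mem_sup_left (x_mem_rt _ _))

theorem hh_mem_SL (i : ZMod 8) (s : E) : hh σ x i s ∈ SL x i :=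
  mul_mem (nn_mem_SL i s) (nn_mem_SL i 1)

theorem nn_mem_LL (i : ZMod 8) (s : E) : nn σ x i s ∈ LL x := SL_le_LL i (nn_mem_SL i s)

theorem hh_mem_LL (i : ZMod 8) (s : E) : hh σ x i s ∈ LL x := SL_le_LL i (hh_mem_SL i s)

theorem M1n.tr (h : Sys σ x) : ∃ φ : LL (X4 σ) →* G, Function.Injective φ ∧
    (∀ i s, x i s = φ ⟨X4 σ i s, x_mem_LL i s⟩) ∧
    (∀ i s, nn σ x i s = φ (nn σ (fun i s => ⟨X4 σ i s, x_mem_LL i s⟩) i s)) ∧
    ∀ i s, hh σ x i s = φ (hh σ (fun i s => ⟨X4 σ i s, x_mem_LL i s⟩) i s) := by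
  obtain ⟨φ, h1, h2⟩ := h.mod
  exact ⟨φ, h1, fun i s => (h2 i s).symm, fun i s => by simp only [nn, map_mul, h2],
    fun i s => by simp only [hh, nn, map_mul, h2]⟩

theorem Sys.nn_one (h : Sys σ x) (i j : ZMod 8) (u : E) :
    nn σ x i 1 * x j u * (nn σ x i 1)⁻¹ = x (2 * i + 4 - j) (σ u) := by
  obtain ⟨φ, -, e1, e2, -⟩ := M1n.tr h
  rw [e2, e1, e1, ← map_inv, ← map_mul, ← map_mul]
  exact congrArg φ (Subtype.ext (M1n.nn_one h.s.two h.s.ss i j u))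

theorem M1n.nn_sq (h : Sys σ x) (i : ZMod 8) (s : E) : nn σ x i s * nn σ x i s = 1 := by
  rw [nn, mul_assoc, mul_assoc, ← mul_assoc (x i s) (x i s * _), ← mul_assoc (x i s) (x i s),
    h.s.mul_self, one_mul, ← mul_assoc (x (i + 4) _), h.s.mul_self, one_mul, h.s.mul_self]

theorem Sys.nn_sq (h : Sys σ x) (i : ZMod 8) : nn σ x i 1 * nn σ x i 1 = 1 := M1n.nn_sq h i 1

theorem Sys.nn_inv (h : Sys σ x) (i : ZMod 8) : (nn σ x i 1)⁻¹ = nn σ x i 1 :=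
  inv_eq_of_mul_eq_one_right (h.nn_sq i)

theorem Sys.nn_eq (h : Sys σ x) (i : ZMod 8) (s : E) : nn σ x i s = hh σ x i s * nn σ x i 1 := by
  rw [hh, mul_assoc, h.nn_sq, mul_one]

theorem Sys.hh_conj (h : Sys σ x) (i j : ZMod 8) {s : E} (hs : s ≠ 0) (hi : Ev i ∨ σ s = s) (u : E) :
    hh σ x i s * x j u * (hh σ x i s)⁻¹ = x j (s ^ pa i j * σ s ^ pb i j * u) := by
  obtain ⟨φ, -, e1, -, e2⟩ := M1n.tr h
  rw [e2, e1, e1, ← map_inv, ← map_mul, ← map_mul]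
  exact congrArg φ (Subtype.ext (M1n.hh_conj h.s.two h.s.ss i j hs hi u))

theorem Sys.hh_mul (h : Sys σ x) (i : ZMod 8) {s u : E} (hs : s ≠ 0) (hu : u ≠ 0)
    (hi : Ev i ∨ σ s = s ∧ σ u = u) : hh σ x i (s * u) = hh σ x i s * hh σ x i u := by
  obtain ⟨φ, -, -, -, e2⟩ := M1n.tr h
  rw [e2, e2, e2, ← map_mul]
  exact congrArg φ (Subtype.ext (M1n.hh_mul h.s.two h.s.ss i hs hu hi))

theorem Sys.hh_one (h : Sys σ x) (i : ZMod 8) : hh σ x i 1 = 1 := h.nn_sq i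

theorem Sys.hh_inv (h : Sys σ x) (i : ZMod 8) {s : E} (hs : s ≠ 0) (hi : Ev i ∨ σ s = s) :
    (hh σ x i s)⁻¹ = hh σ x i s⁻¹ := by
  rw [inv_eq_iff_mul_eq_one, ← h.hh_mul i hs (inv_ne_zero hs)
    (hi.imp_right fun e => ⟨e, by rw [map_inv₀, e]⟩), mul_inv_cancel₀ hs, h.hh_one]

theorem Sys.hh_comm (h : Sys σ x) (i j : ZMod 8) {s u : E} (hs : s ≠ 0) (hi : Ev i ∨ σ s = s)
    (hu : u ≠ 0) (hj : Ev j ∨ σ u = u) : Commute (hh σ x i s) (hh σ x j u) := by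
  obtain ⟨φ, -, -, -, e2⟩ := M1n.tr h
  rw [e2, e2]
  exact Commute.map (Subtype.ext (M1n.hh_comm h.s.two h.s.ss i j hs hi hu hj)) φ

theorem M1n.hh_pow (h : Sys σ x) (i : ZMod 8) {s : E} (hs : s ≠ 0) (hi : Ev i ∨ σ s = s) (n : ℕ) :
    hh σ x i s ^ n = hh σ x i (s ^ n) := by
  induction n with
  | zero => rw [pow_zero, pow_zero, h.hh_one]
  | succ n ih =>
    rw [pow_succ, pow_succ, ih, h.hh_mul i (pow_ne_zero n hs) hs
      (hi.imp_right fun e => ⟨fx_pow e n, e⟩)]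

theorem Sys.hh_odd (h : Sys σ x) (i : ZMod 8) {s : E} (hs : s ≠ 0) (hi : Ev i ∨ σ s = s) :
    Odd (orderOf (hh σ x i s)) := by
  have := Fintype.ofFinite E
  have h1 : hh σ x i s ^ (Fintype.card E - 1) = 1 := by
    rw [M1n.hh_pow h i hs hi, FiniteField.pow_card_sub_one_eq_one s hs, h.hh_one]
  refine Odd.of_dvd_nat ?_ (orderOf_dvd_of_pow_eq_one h1)
  have h2 : addOrderOf (1 : E) = 2 :=
    addOrderOf_eq_prime (by rw [two_nsmul, h.s.add_self]) one_ne_zero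
  exact Nat.Even.sub_odd Fintype.card_pos (even_iff_two_dvd.2 (h2 ▸ addOrderOf_dvd_card)) odd_one

theorem Sys.hh_Ns (h : Sys σ x) (i : ZMod 8) {s : E} (hs : s ≠ 0) (hi : Ev i ∨ σ s = s)
    (j : ZMod 8) : hh σ x i s ∈ Ns (rt x j) :=
  mem_normalizer_fintype fun u hu => by
    obtain ⟨v, rfl⟩ := h.s.mem_rt.1 hu
    rw [h.hh_conj i j hs hi]
    exact x_mem_rt _ _

theorem Sys.nn_hh (h : Sys σ x) (i : ZMod 8) {s : E} (hs : s ≠ 0) (hi : Ev i ∨ σ s = s) :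
    nn σ x i 1 * hh σ x i s * (nn σ x i 1)⁻¹ = hh σ x i s⁻¹ := by
  rw [← h.hh_inv i hs hi, hh, mul_inv_rev, inv_eq_of_mul_eq_one_right (M1n.nn_sq h i s),
    ← mul_assoc, mul_inv_cancel_right, h.nn_inv]

theorem M1n.nn_hh' (h : Sys σ x) (i j : ZMod 8) (s : E) :
    nn σ x i 1 * hh σ x j s * (nn σ x i 1)⁻¹ = hh σ x (2 * i + 4 - j) (σ s) := by
  have key : ∀ s, nn σ x i 1 * nn σ x j s * (nn σ x i 1)⁻¹ = nn σ x (2 * i + 4 - j) (σ s) :=
    fun s => by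
      rw [nn.eq_1 σ x j, ← conj_mul, ← conj_mul, h.nn_one, h.nn_one, nn.eq_1 σ x (2 * i + 4 - j),
        map_inv₀, (by decide : ∀ i j : ZMod 8, 2 * i + 4 - (j + 4) = 2 * i + 4 - j + 4)]
  rw [hh, ← conj_mul, key, key, map_one, hh]

theorem Sys.n0_h1 (h : Sys σ x) {c : E} (hc : c ≠ 0) (fc : σ c = c) :
    nn σ x 0 1 * hh σ x 1 c * (nn σ x 0 1)⁻¹ = hh σ x 3 c := by
  rw [M1n.nn_hh' h, fc]; rfl

theorem Sys.n0_h3 (h : Sys σ x) {c : E} (hc : c ≠ 0) (fc : σ c = c) :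
    nn σ x 0 1 * hh σ x 3 c * (nn σ x 0 1)⁻¹ = hh σ x 1 c := by
  rw [M1n.nn_hh' h, fc]; rfl

theorem M1n.hc (h : Sys σ x) (i j : ZMod 8) {s : E} (hs : s ≠ 0) (hi : Ev i ∨ σ s = s) {p q : ℤ}
    (e : pa i j = p ∧ pb i j = q) (u : E) :
    hh σ x i s * x j u * (hh σ x i s)⁻¹ = x j (s ^ p * σ s ^ q * u) := by
  rw [h.hh_conj i j hs hi, e.1, e.2]

theorem Sys.h0_uu (h : Sys σ x) {s : E} (hs : s ≠ 0) (a d c r : E) :
    hh σ x 0 s * uu x a d c r * (hh σ x 0 s)⁻¹ =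
      uu x (s ^ 2 * a) ((s * σ s)⁻¹ * d) (s⁻¹ * σ s * c) (s * σ s * r) := by
  have hi : Ev 0 ∨ σ s = s := Or.inl (by decide)
  rw [uu, vv, ← conj_mul, ← conj_mul, ← conj_mul, M1n.hc h 0 0 hs hi ⟨rfl, rfl⟩ (p := 2) (q := 0),
    M1n.hc h 0 3 hs hi ⟨rfl, rfl⟩ (p := -1) (q := -1),
    M1n.hc h 0 2 hs hi ⟨rfl, rfl⟩ (p := -1) (q := 1),
    M1n.hc h 0 1 hs hi ⟨rfl, rfl⟩ (p := 1) (q := 1), uu, vv]
  simp only [zpow_ofNat, zpow_neg, pow_one, pow_zero, mul_one, mul_inv]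

theorem Sys.h1_uu (h : Sys σ x) {s : E} (hs : s ≠ 0) (fs : σ s = s) (a d c r : E) :
    hh σ x 1 s * uu x a d c r * (hh σ x 1 s)⁻¹ = uu x (s * a) d (s * c) (s ^ 2 * r) := by
  have hi : Ev 1 ∨ σ s = s := Or.inr fs
  rw [uu, vv, ← conj_mul, ← conj_mul, ← conj_mul, M1n.hc h 1 0 hs hi ⟨rfl, rfl⟩ (p := 1) (q := 0),
    M1n.hc h 1 3 hs hi ⟨rfl, rfl⟩ (p := 0) (q := 0),
    M1n.hc h 1 2 hs hi ⟨rfl, rfl⟩ (p := 1) (q := 0),
    M1n.hc h 1 1 hs hi ⟨rfl, rfl⟩ (p := 2) (q := 0), uu, vv]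
  simp only [zpow_ofNat, pow_one, pow_zero, mul_one, one_mul]

theorem Sys.h3_uu (h : Sys σ x) {s : E} (hs : s ≠ 0) (fs : σ s = s) (a d c r : E) :
    hh σ x 3 s * uu x a d c r * (hh σ x 3 s)⁻¹ = uu x (s⁻¹ * a) (s ^ 2 * d) (s * c) r := by
  have hi : Ev 3 ∨ σ s = s := Or.inr fs
  rw [uu, vv, ← conj_mul, ← conj_mul, ← conj_mul, M1n.hc h 3 0 hs hi ⟨rfl, rfl⟩ (p := -1) (q := 0),
    M1n.hc h 3 3 hs hi ⟨rfl, rfl⟩ (p := 2) (q := 0),
    M1n.hc h 3 2 hs hi ⟨rfl, rfl⟩ (p := 1) (q := 0),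
    M1n.hc h 3 1 hs hi ⟨rfl, rfl⟩ (p := 0) (q := 0), uu, vv]
  simp only [zpow_ofNat, zpow_neg, pow_one, pow_zero, mul_one, one_mul]

theorem Sys.n0_vv (h : Sys σ x) {d r : E} (hd : σ d = d) (hr : σ r = r) (c : E) :
    nn σ x 0 1 * vv x d c r * (nn σ x 0 1)⁻¹ = vv x r (σ c) d := by
  rw [vv, ← conj_mul, ← conj_mul, h.nn_one, h.nn_one, h.nn_one, hd, hr, vv]
  change x 1 d * x 2 (σ c) * x 3 r = _
  rw [(h.s.c12 _ _).eq, mul_assoc, (h.s.c13 _ _).eq, ← mul_assoc, (h.s.c23 _ _).eq]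

theorem M1n.mem_Cs_SL {g : G} {i : ZMod 8} (h1 : ∀ u, g * x i u * g⁻¹ = x i u)
    (h2 : ∀ u, g * x (i + 4) u * g⁻¹ = x (i + 4) u) : g ∈ Cs (SL x i) := by
  have : SL x i ≤ C1 g := sup_le
    (rt_le.2 fun u => mem_C1.2 (mul_inv_eq_iff_eq_mul.1 (h1 u)).symm)
    (rt_le.2 fun u => mem_C1.2 (mul_inv_eq_iff_eq_mul.1 (h2 u)).symm)
  exact mem_Cs.2 fun y hy => mem_C1.1 (this hy)

theorem Sys.h13_SL (h : Sys σ x) {c : E} (hc : c ≠ 0) (fc : σ c = c) :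
    hh σ x 1 c * hh σ x 3 c ∈ Cs (SL x 0) := by
  have e : ∀ y, hh σ x 1 c * hh σ x 3 c * y * (hh σ x 1 c * hh σ x 3 c)⁻¹ =
    hh σ x 1 c * (hh σ x 3 c * y * (hh σ x 3 c)⁻¹) * (hh σ x 1 c)⁻¹ := fun y => by group
  refine M1n.mem_Cs_SL (fun u => ?_) fun u => ?_
  · rw [e, M1n.hc h 3 0 hc (Or.inr fc) ⟨rfl, rfl⟩ (p := -1) (q := 0),
      M1n.hc h 1 0 hc (Or.inr fc) ⟨rfl, rfl⟩ (p := 1) (q := 0)]
    simp [hc]
  · rw [e, M1n.hc h 3 (0 + 4) hc (Or.inr fc) ⟨rfl, rfl⟩ (p := 1) (q := 0),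
      M1n.hc h 1 (0 + 4) hc (Or.inr fc) ⟨rfl, rfl⟩ (p := -1) (q := 0)]
    simp [hc]

theorem Sys.h1_SL (h : Sys σ x) {c : E} (hc : c ≠ 0) (fc : σ c = c) : hh σ x 1 c ∈ Cs (SL x 3) := by
  refine M1n.mem_Cs_SL (fun u => ?_) fun u => ?_
  · rw [M1n.hc h 1 3 hc (Or.inr fc) ⟨rfl, rfl⟩ (p := 0) (q := 0)]
    simp
  · rw [M1n.hc h 1 (3 + 4) hc (Or.inr fc) ⟨rfl, rfl⟩ (p := 0) (q := 0)]
    simp

theorem Sys.h0_SL (h : Sys σ x) {e : E} (he : e * σ e = 1) :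
    hh σ x 0 e ∈ Cs (SL x 3) ⊓ Cs (SL x 1) := by
  have h0 : e ≠ 0 := left_ne_zero_of_mul_eq_one he
  have key : ∀ j, (pa 0 j = 1 ∧ pb 0 j = 1) ∨ (pa 0 j = -1 ∧ pb 0 j = -1) → ∀ u,
      hh σ x 0 e * x j u * (hh σ x 0 e)⁻¹ = x j u := fun j hj u => by
    rcases hj with hj | hj <;> rw [M1n.hc h 0 j h0 (Or.inl (by decide)) hj, ← mul_zpow, he, one_zpow,
      one_mul]
  exact ⟨M1n.mem_Cs_SL (key _ (by decide)) (key _ (by decide)),
    M1n.mem_Cs_SL (key _ (by decide)) (key _ (by decide))⟩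

theorem M1n.nn_nn (h : Sys σ x) (m k i : ZMod 8) (s : E) :
    nn σ x m 1 * nn σ x k 1 * x i s * (nn σ x m 1 * nn σ x k 1)⁻¹ = x (i + 2 * (m - k)) s := by
  have e : nn σ x m 1 * nn σ x k 1 * x i s * (nn σ x m 1 * nn σ x k 1)⁻¹ =
      nn σ x m 1 * (nn σ x k 1 * x i s * (nn σ x k 1)⁻¹) * (nn σ x m 1)⁻¹ := by group
  rw [e, h.nn_one, h.nn_one, h.s.ss, show 2 * m + 4 - (2 * k + 4 - i) = i + 2 * (m - k) by ring]

theorem Sys.rho (h : Sys σ x) (i : ZMod 8) (s : E) :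
    nn σ x 0 1 * nn σ x 3 1 * x i s * (nn σ x 0 1 * nn σ x 3 1)⁻¹ = x (i + 2) s :=
  M1n.nn_nn h 0 3 i s

theorem Sys.exists_rot (h : Sys σ x) {j : ZMod 8} (hj : Ev j) :
    ∃ w ∈ LL x, ∀ i s, w * x i s * w⁻¹ = x (i + j) s := by
  obtain ⟨m, rfl⟩ := (by decide : ∀ j, Ev j → ∃ m : ZMod 8, j = 2 * (m - 0)) j hj
  exact ⟨_, mul_mem (nn_mem_LL _ _) (nn_mem_LL _ _), M1n.nn_nn h m 0⟩

theorem M1n.inj (h : Sys σ x) {i : ZMod 8} {s u : E} (hs : Ev i ∨ σ s = s) (hu : Ev i ∨ σ u = u)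
    (e : x i s = x i u) : s = u := by
  obtain ⟨φ, h1, e1, -⟩ := M1n.tr h
  rw [e1, e1] at e
  rw [← M1n.entry hs, show X4 σ i s = X4 σ i u from congrArg Subtype.val (h1 e), M1n.entry hu]

theorem Sys.ev_inj (h : Sys σ x) {i : ZMod 8} (hi : Ev i) {s u : E} (e : x i s = x i u) : s = u :=
  M1n.inj h (Or.inl hi) (Or.inl hi) e

theorem Sys.od_inj (h : Sys σ x) (i : ZMod 8) {s u : E} (hs : σ s = s) (hu : σ u = u)
    (e : x i s = x i u) : s = u := M1n.inj h (Or.inr hs) (Or.inr hu) e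

theorem Sys.x_ne (h : Sys σ x) (i : ZMod 8) : x i 1 ≠ 1 := fun e =>
  one_ne_zero (h.od_inj i (map_one σ) (map_zero σ) (e.trans (h.s.zero i).symm))

theorem Sys.SL_eq (h : Sys σ x) (i : ZMod 8) : SL x i = rt x i ⊔ zpowers (nn σ x i 1) := by
  refine le_antisymm (sup_le le_sup_left (rt_le.2 fun s => ?_))
    (sup_le le_sup_left (zpowers_le.2 (nn_mem_SL i 1)))
  rw [show i + 4 = 2 * i + 4 - i by ring, ← h.s.ss s, ← h.nn_one]
  exact mul_mem (mul_mem (mem_sup_right (mem_zpowers _)) (mem_sup_left (x_mem_rt _ _)))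
    (mem_sup_right (inv_mem (mem_zpowers _)))

end Cfsg.Lib.SU4
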