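import Cfsg.Agent.SU4.M2b
import Cfsg.Agent.SU4.M1

/-!
# Standard subgroups of type `U₄(2ⁿ)`: centralisers in `U` of outer elements
-/

set_option autoImplicit false
set_option linter.unusedSectionVars false

namespace Cfsg.Lib.SU4

open Subgroup Cfsg.Lib.Trans Cfsg.Lib.Gold
open scoped commutatorElement

variable {G E : Type*} [Group G] [Finite G] [Field E] [Finite E] {σ τ : E ≃+* E}
  {x : ZMod 8 → E → G} {u g₀ : G} {D : Subgroup G}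

namespace M3d

theorem fix (h : Sys σ x) (hu : u ∈ UU x) (hg : Acts x g₀ τ) {a d c r : E} (hd : σ d = d)
    (hr : σ r = r) (e : uu x a d c r ∈ C1 (u * g₀)) :
    τ a = a ∧ τ d = d ∧ (a = 0 → d = 0 → τ c = c ∧ (c = 0 → τ r = r)) := by
  obtain ⟨a', d', c', r', hd', hr', rfl⟩ := h.s.mem_UU.1 hu
  have k : ∀ {s}, σ s = s → σ (τ s) = τ s := fun e => by rw [← aut_σ, e]
  have e1 : uu x a' d' c' r' * uu x (τ a) (τ d) (τ c) (τ r) = uu x a d c r * uu x a' d' c' r' := by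
    rw [← hg.uu, ← mul_assoc, ← mul_assoc, ← mem_centralizer_singleton_iff.1 e]; group
  rw [h.s.uu_mul hd' hr' (k hd) (k hr), h.s.uu_mul hd hr hd' hr'] at e1
  obtain ⟨h1, h2, h3, h4⟩ := h.s.uu_inj h.inj (fx_add hd' (k hd))
    (fx_add (fx_add (fx_add hr' (fx_mul (h.s.fxN _) hd')) (h.s.fxT' _ _)) (k hr)) (fx_add hd hd')
    (fx_add (fx_add (fx_add hr (fx_mul (h.s.fxN _) hd)) (h.s.fxT' _ _)) hr') e1
  refine ⟨by linear_combination h1, by linear_combination h2, ?_⟩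
  rintro rfl rfl
  simp only [map_zero, zero_mul, mul_zero, add_zero] at h3 h4
  refine ⟨by linear_combination h3, ?_⟩
  rintro rfl
  simp only [map_zero, mul_zero, add_zero] at h4
  linear_combination h4

theorem cover {B : Subgroup G} (f : E → G) (h : ∀ g ∈ D, ∃ s, τ s = s ∧ (f s)⁻¹ * g ∈ B) :
    Nat.card D ≤ Nat.card (fixF τ) * Nat.card ↥(D ⊓ B) :=
  (SG2.card_le_cover (f '' fixF τ) fun g hg =>
    (h g hg).elim fun s e => ⟨f s, ⟨s, e.1, rfl⟩, e.2⟩).trans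
    (Nat.mul_le_mul_right _ (Nat.card_image_le (Set.toFinite _)))

variable (h : Sys σ x) (hu : u ∈ UU x) (hg : Acts x g₀ τ) (hD : D ≤ C1 (u * g₀))
include h hu hg hD

theorem cardR (h1 : D ≤ rt x 1) : Nat.card D ≤ Nat.card (fixF τ) := by
  simpa using cover (B := ⊥) (x 1) fun g e => by
    obtain ⟨r, hr, rfl⟩ := (h.s.mem_rtl (by decide)).1 (h1 e)
    have := fix h hu hg (a := 0) (c := 0) (map_zero σ) hr (by rw [h.s.uu_zero, h.s.vv_1]; exact hD e)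
    exact ⟨r, (this.2.2 rfl rfl).2 rfl, by simp⟩

theorem cardN (h1 : D ≤ NN x) : Nat.card D ≤ Nat.card (fixF τ) ^ 2 := by
  refine (cover (B := rt x 1) (x 2) fun g e => ?_).trans
    ((Nat.mul_le_mul_left _ (cardR h hu hg (inf_le_left.trans hD) inf_le_right)).trans_eq (by ring))
  obtain ⟨c, r, hr, rfl⟩ := h.s.mem_NN.1 (h1 e)
  have := fix h hu hg (a := 0) (map_zero σ) hr (by rw [h.s.uu_zero]; exact hD e)
  exact ⟨c, (this.2.2 rfl rfl).1, by rw [h.s.vv_21, inv_mul_cancel_left]; exact x_mem_rt _ _⟩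

theorem cardV (h1 : D ≤ VV x) : Nat.card D ≤ Nat.card (fixF τ) ^ 3 := by
  refine (cover (B := NN x) (x 3) fun g e => ?_).trans
    ((Nat.mul_le_mul_left _ (cardN h hu hg (inf_le_left.trans hD) inf_le_right)).trans_eq (by ring))
  obtain ⟨d, c, r, hd, hr, rfl⟩ := h.s.mem_VV.1 (h1 e)
  have := fix h hu hg (a := 0) hd hr (by rw [h.s.uu_zero]; exact hD e)
  exact ⟨d, this.2.1, by
    rw [vv, mul_assoc, inv_mul_cancel_left]
    exact mul_mem (X2_le_NN (x_mem_rt _ _)) (R_le_NN (x_mem_rt _ _))⟩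

theorem cardU (h1 : D ≤ UU x) : Nat.card D ≤ Nat.card (fixF τ) * Nat.card ↥(D ⊓ VV x) := by
  refine cover (x 0) fun g e => ?_
  obtain ⟨a, d, c, r, hd, hr, rfl⟩ := h.s.mem_UU.1 (h1 e)
  exact ⟨a, (fix h hu hg hd hr (hD e)).1, by rw [uu, inv_mul_cancel_left]; exact vv_mem_VV _ _ _⟩

end M3d

open M3d

theorem Sys.rankU (h : Sys σ x) {u g₀ : G} (hu : u ∈ UU x) (hg : Acts x g₀ σ) {A : Subgroup G}
    (hA : A ≤ UU x ⊓ C1 (u * g₀)) (h2 : ∀ a ∈ A, a * a = 1) : Nat.card A ≤ qn σ ^ 3 :=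
  (h.elem_le (hA.trans inf_le_left) h2).elim (cardV h hu hg (hA.trans inf_le_right)) id

theorem Sys.class2 (h : Sys σ x) {u g₀ : G} (hu : u ∈ UU x) (hg : Acts x g₀ σ) {a b c : G}
    (ha : a ∈ UU x ⊓ C1 (u * g₀)) (hb : b ∈ UU x ⊓ C1 (u * g₀)) (hc : c ∈ UU x ⊓ C1 (u * g₀)) :
    ⁅⁅a, b⁆, c⁆ = 1 := by
  have a1 : ⁅a, b⁆ ∈ C1 (u * g₀) :=
    mul_mem (mul_mem (mul_mem ha.2 hb.2) (inv_mem ha.2)) (inv_mem hb.2)
  obtain ⟨c₁, r₁, h1, e⟩ := h.s.mem_NN.1 (h.s.comm_UU ha.1 hb.1)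
  obtain ⟨a₂, d₂, c₂, r₂, h2, h3, rfl⟩ := h.s.mem_UU.1 hc.1
  rw [e, ← h.s.uu_zero] at a1 ⊢
  have b1 := ((fix h hu hg (map_zero σ) h1 a1).2.2 rfl rfl).1
  have b2 := (fix h hu hg h2 h3 hc.2).1
  rw [h.s.uu_comm (map_zero σ) h1 h2 h3, b1, b2, ← h.s.vv_zero]
  simp [h.s.add_self]

theorem Sys.emb4 (h : Sys σ x) {u g₀ : G} (hu : u ∈ UU x) {τ : E ≃+* E} (hτ : τ * τ = σ)
    (hg : Acts x g₀ τ) : Nat.card ↥(UU x ⊓ C1 (u * g₀)) ≤ qn σ ^ 2 ∧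
      (Nat.card ↥(UU x ⊓ C1 (u * g₀)) = qn σ ^ 2 → ∃ w ∈ UU x ⊓ C1 (u * g₀),
        w ∉ Cs (UU x ⊓ C1 (u * g₀)) ∧
        qn σ ^ 3 ≤ Nat.card ↥(UU x ⊓ C1 (u * g₀) ⊓ C1 w) ^ 2) := by
  have a0 := h.four
  have a1 := cardU h hu hg inf_le_right (inf_le_left : UU x ⊓ C1 (u * g₀) ≤ _)
  have a2 := cardV h hu hg (inf_le_left.trans inf_le_right)
    (inf_le_right : UU x ⊓ C1 (u * g₀) ⊓ VV x ≤ _)
  have a3 := cardV h hu hg (inf_le_right : UU x ⊓ C1 (u * g₀) ≤ _)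
  have a4 := cardN h hu hg (inf_le_left.trans inf_le_right : UU x ⊓ C1 (u * g₀) ⊓ VV x ≤ _)
  rw [← h.qd.card_fix4 hτ] at a0 ⊢
  generalize Nat.card (fixF τ) = ρ at a0 a1 a2 a3 a4
  have b0 : 1 < ρ := by nlinarith
  refine ⟨a1.trans ((Nat.mul_le_mul_left _ a2).trans_eq (by ring)), fun e => ?_⟩
  have b1 : ρ ^ 3 ≤ Nat.card ↥(UU x ⊓ C1 (u * g₀) ⊓ VV x) :=
    Nat.le_of_mul_le_mul_left ((show ρ * ρ ^ 3 = (ρ ^ 2) ^ 2 by ring).trans_le (e ▸ a1))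
      (Nat.zero_lt_of_lt b0)
  obtain ⟨g, g1, g2⟩ := SetLike.not_le_iff_exists.1 fun k => by
    have := a3 k
    rw [e, ← pow_mul, Nat.pow_le_pow_iff_right b0] at this
    omega
  obtain ⟨w, w1, w2⟩ := SetLike.not_le_iff_exists.1 fun k => by
    have := b1.trans (a4 k)
    rw [Nat.pow_le_pow_iff_right b0] at this
    omega
  refine ⟨w, w1.1, fun k => ?_, ?_⟩
  · obtain ⟨a, d, c, r, hd, hr, rfl⟩ := h.s.mem_UU.1 g1.1
    obtain ⟨d', c', r', hd', hr', rfl⟩ := h.s.mem_VV.1 w1.2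
    have c1 := commutatorElement_eq_one_iff_mul_comm.2 (mem_centralizer_iff.1 k _ g1)
    rw [← h.s.uu_zero, h.s.uu_comm hd hr hd' hr', ← h.s.vv_zero] at c1
    have c2 := (h.s.vv_inj h.inj (map_zero σ) ?_ (map_zero σ) (map_zero σ) c1).2.1
    · rw [map_zero, zero_mul, add_zero, mul_eq_zero, map_eq_zero] at c2
      rcases c2 with rfl | rfl
      · exact g2 (by rw [h.s.uu_zero]; exact vv_mem_VV _ _ _)
      · exact w2 (h.s.mem_NN.2 ⟨c', r', hr', rfl⟩)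
    · simp only [map_add, map_mul, h.s.ss, hd, hd', map_zero]
      ring
  · refine (show (ρ ^ 2) ^ 3 = (ρ ^ 3) ^ 2 by ring).trans_le (Nat.pow_le_pow_left (b1.trans
      (Subgroup.card_le_of_le (inf_le_inf_left _ fun v hv => mem_centralizer_singleton_iff.2 ?_))) 2)
    exact mem_centralizer_iff.1 (h.s.VV_comm w1.2) v hv

end Cfsg.Lib.SU4
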