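import Cfsg.Agent.SU4.M2A
import Cfsg.Agent.SG2.SY0

/-!
# Standard subgroups of type `U₄(2ⁿ)`: centres and elementary subgroups of `U`
-/

set_option autoImplicit false
set_option linter.unusedSectionVars false

namespace Cfsg.Lib.SU4

open Subgroup Cfsg.Lib.Trans Cfsg.Lib.Gold
open scoped commutatorElement MatrixGroups

variable {G E : Type*} [Group G] [Finite G] [Field E] [Finite E] {σ : E ≃+* E}
  {x : ZMod 8 → E → G}

namespace M2b

theorem inj (h : Sys σ x) : Inj x σ := fun a d c r hd hr e => by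
  obtain ⟨φ, h1, h2⟩ := h.mod
  have e1 : uu (X4 σ) a d c r = 1 := by
    have := h1 (a₁ := ⟨_, x_mem_LL 0 a⟩ * (⟨_, x_mem_LL 3 d⟩ * ⟨_, x_mem_LL 2 c⟩ * ⟨_, x_mem_LL 1 r⟩))
      (a₂ := 1) (by rw [map_mul, map_mul, map_mul, h2, h2, h2, h2, map_one]; exact e)
    exact congrArg Subtype.val this
  have e0 : X4 σ 0 a = Chev.slE 0 1 a * Chev.slE 2 3 (σ a) := by
    rw [X4, xe, if_pos (by decide)]; rfl
  have e2 : X4 σ 2 c = Chev.slE 1 3 c * Chev.slE 0 2 (σ c) := by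
    rw [X4, xe, if_pos (by decide)]; rfl
  have e3 : X4 σ 3 d = Chev.slE 1 2 d := by rw [X4, xe, if_neg (by decide), if_pos hd]; rfl
  have e4 : X4 σ 1 r = Chev.slE 0 3 r := by rw [X4, xe, if_neg (by decide), if_pos hr]; rfl
  rw [uu, vv, e0, e2, e3, e4] at e1
  have k := fun i j => congrArg (fun g : SL(4, E) => g.1 i j) e1
  have k1 := k 0 1
  have k2 := k 1 2
  have k3 := k 1 3
  have k4 := k 0 3
  simp [Chev.coe_slE, Matrix.mul_apply, Fin.sum_univ_four, Matrix.one_apply, Matrix.single_apply]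
    at k1 k2 k3 k4
  subst k1 k2
  simp_all

theorem card_le {ι : Type*} [Finite ι] {H : Subgroup G} (f : ι → G) (h : ∀ g ∈ H, ∃ i, g = f i) :
    Nat.card H ≤ Nat.card ι := by
  choose k hk using h
  exact Nat.card_le_card_of_injective (fun g : H => k g g.2) fun g g' e =>
    Subtype.ext ((hk _ g.2).trans ((congrArg f e).trans (hk _ g'.2).symm))

variable (h : Sys σ x) {a d c r a' d' c' r' : E}
include h

theorem vv_one (hr : σ r = r) : vv x 0 c r = 1 ↔ c = 0 ∧ r = 0 :=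
  ⟨fun e => (inj h 0 0 c r (map_zero σ) hr ((h.s.uu_zero ..).trans e)).2.2,
    by rintro ⟨rfl, rfl⟩; exact h.s.vv_zero⟩

theorem comm (hd : σ d = d) (hr : σ r = r) (hd' : σ d' = d') (hr' : σ r' = r') :
    uu x a d c r * uu x a' d' c' r' = uu x a' d' c' r' * uu x a d c r ↔ σ a * d' + σ a' * d = 0 ∧
      a * σ a * d' + a' * σ a' * d + (a * σ a' + σ a * a') * (d + d') +
        (a * c' + σ a * σ c') + (a' * c + σ a' * σ c) = 0 := by
  rw [← commutatorElement_eq_one_iff_mul_comm, h.s.uu_comm hd hr hd' hr', vv_one h]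
  simp only [map_add, map_mul, h.s.ss, hd, hd']
  ring

theorem a_zero (hd : σ d = d) (hr : σ r = r) (e : ∀ v ∈ NN x, v * uu x a d c r = uu x a d c r * v) :
    a = 0 := h.qd.T_nondeg fun s => by
  have z := map_zero σ
  simpa using ((comm h z z hd hr).1 (e _ ((M2.uu_mem_NN h.s (inj h) (c := s) z z).2 ⟨rfl, rfl⟩))).2

theorem mem_R (hd : σ d = d) (hr : σ r = r) (e : ∀ v ∈ QQ x, v * uu x a d c r = uu x a d c r * v) :
    uu x a d c r ∈ rt x 1 := by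
  have z := map_zero σ
  obtain rfl := a_zero h hd hr fun v hv => e v (NN_le_QQ hv)
  have k := fun s => (comm h z z hd hr).1
    (e _ ((M2.uu_mem_QQ h.s (inj h) (a := s) (c := 0) z z).2 rfl))
  obtain rfl : d = 0 := by simpa using (k 1).1
  exact (M2.uu_mem_R h.s (inj h) hd hr).2 ⟨rfl, rfl, h.qd.T_nondeg fun s => by
    simpa [mul_comm] using (k s).2⟩

end M2b

open M2b

theorem Sys.z1 (h : Sys σ x) : UU x ⊓ Cs (UU x) = rt x 1 :=
  le_antisymm (fun g hg => by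
    obtain ⟨a, d, c, r, hd, hr, rfl⟩ := h.s.mem_UU.1 hg.1
    exact mem_R h hd hr fun v hv => mem_Cs.1 hg.2 v (QQ_le_UU hv))
    (le_inf R_le_UU (h.s.R_le_Cs.trans (Cs_anti UU_le_PA)))

theorem Sys.zQ (h : Sys σ x) : QQ x ⊓ Cs (QQ x) = rt x 1 :=
  le_antisymm (fun g hg => by
    obtain ⟨a, d, c, r, hd, hr, rfl⟩ := h.s.mem_UU.1 (QQ_le_UU hg.1)
    exact mem_R h hd hr (mem_Cs.1 hg.2))
    (le_inf R_le_QQ (h.s.R_le_Cs.trans (Cs_anti QQ_le_PA)))

theorem Sys.cVU (h : Sys σ x) : UU x ⊓ Cs (VV x) = VV x :=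
  le_antisymm (fun g hg => by
    obtain ⟨a, d, c, r, hd, hr, rfl⟩ := h.s.mem_UU.1 hg.1
    exact (M2.uu_mem_VV h.s (inj h) hd hr).2
      (a_zero h hd hr fun v hv => mem_Cs.1 hg.2 v (NN_le_VV hv)))
    (le_inf VV_le_UU h.s.VV_comm)

theorem Sys.inv_U (h : Sys σ x) {a d c r : E} (hd : σ d = d) (hr : σ r = r) :
    uu x a d c r * uu x a d c r = 1 ↔ a = 0 ∨ d = 0 ∧ a * c + σ a * σ c = 0 := by
  rw [h.s.uu_sq hd hr, vv_one h (fx_add (fx_mul (h.s.fxN a) hd) (h.s.fxT' a c))]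
  by_cases ha : a = 0
  · simp [ha]
  · by_cases h0 : d = 0 <;> simp [ha, h0]

theorem Sys.elem_le (h : Sys σ x) {A : Subgroup G} (hA : A ≤ UU x) (h2 : ∀ a ∈ A, a * a = 1) :
    A ≤ VV x ∨ Nat.card A ≤ qn σ ^ 3 := by
  refine or_iff_not_imp_left.2 fun hn => ?_
  have z := map_zero σ
  obtain ⟨g, hg, hn⟩ := SetLike.not_le_iff_exists.1 hn
  obtain ⟨a, d, c, r, hd, hr, rfl⟩ := h.s.mem_UU.1 (hA hg)
  rw [M2.uu_mem_VV h.s (inj h) hd hr] at hn
  obtain rfl : d = 0 := (((h.inv_U hd hr).1 (h2 _ hg)).resolve_left hn).1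
  have hc : ∀ u ∈ A, ∀ v ∈ A, u * v = v * u := fun u hu v hv => by
    rw [← inv_eq_of_mul_eq_one_right (h2 _ (mul_mem hu hv)), mul_inv_rev,
      inv_eq_of_mul_eq_one_right (h2 _ hu), inv_eq_of_mul_eq_one_right (h2 _ hv)]
  have hq : ∀ u ∈ A, ∃ a c r, σ r = r ∧ u = uu x a 0 c r := fun u hu => by
    obtain ⟨a', d', c', r', hd', hr', rfl⟩ := h.s.mem_UU.1 (hA hu)
    obtain rfl : d' = 0 := by simpa [hn] using ((comm h hd hr hd' hr').1 (hc _ hg _ hu)).1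
    exact ⟨a', c', r', hr', rfl⟩
  have key : ∀ P Q : E → Prop, (∀ a c r, σ r = r → uu x a 0 c r ∈ A → P a) →
      (∀ c r, σ r = r → uu x 0 0 c r ∈ A → Q c) →
      Nat.card A ≤ Nat.card {s // P s} * (Nat.card {s // Q s} * qn σ) := fun P Q hP hQ => by
    refine (SG2.card_le_cover (B := NN x) (Set.range fun s : {s // P s} => x 0 s)
      fun u hu => ?_).trans (Nat.mul_le_mul (Finite.card_range_le _) ?_)
    · obtain ⟨a, c, r, hr, rfl⟩ := hq u hu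
      refine ⟨_, ⟨⟨a, hP a c r hr hu⟩, rfl⟩, ?_⟩
      rw [uu, inv_mul_cancel_left]
      exact h.s.mem_NN.2 ⟨c, r, hr, rfl⟩
    · rw [qn, ← Nat.card_prod]
      refine card_le (fun p => vv x 0 p.1 p.2) fun u hu => ?_
      obtain ⟨c, r, hr, rfl⟩ := h.s.mem_NN.1 hu.2
      exact ⟨(⟨c, hQ c r hr ((h.s.uu_zero ..).symm ▸ hu.1)⟩, ⟨r, hr⟩), rfl⟩
  by_cases e : ∃ c' r', σ r' = r' ∧ uu x 0 0 c' r' ∈ A ∧ c' ≠ 0
  · obtain ⟨c', r', hr', h3, h4⟩ := e
    refine (key (fun s => c' * s + σ c' * σ s = 0) (fun s => a * s + σ a * σ s = 0)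
      (fun a c r hr hu => ?_) fun c r hr' hu => ?_).trans_eq ?_
    · simpa [mul_comm] using ((comm h z hr z hr').1 (hc _ hu _ h3)).2
    · simpa using ((comm h z hr z hr').1 (hc _ hg _ hu)).2
    · rw [h.qd.card_T0 h4, h.qd.card_T0 hn]; ring
  · refine (key (fun _ => True) (fun s => s = 0) (fun _ _ _ _ _ => trivial)
      fun c r hr' hu => by_contra fun h0 => e ⟨c, r, hr', hu, h0⟩).trans_eq ?_
    rw [Nat.card_congr (Equiv.subtypeUnivEquiv fun _ => trivial), h.qd.card, Nat.card_unique]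
    ring

theorem Sys.elem_le4 (h : Sys σ x) {A : Subgroup G} (hA : A ≤ UU x) (h2 : ∀ a ∈ A, a * a = 1) :
    Nat.card A ≤ qn σ ^ 4 :=
  (h.elem_le hA h2).elim (fun e => (Subgroup.card_le_of_le e).trans_eq (M2.card_VV h (inj h)))
    fun e => e.trans (Nat.pow_le_pow_right (by have := h.four; omega) (by omega))

theorem Sys.elem_eq (h : Sys σ x) {A : Subgroup G} (hA : A ≤ UU x) (h2 : ∀ a ∈ A, a * a = 1)
    (hc : qn σ ^ 4 ≤ Nat.card A) : A = VV x :=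
  (h.elem_le hA h2).elim (fun e => eq_of_le_of_card_ge e ((M2.card_VV h (inj h)).trans_le hc))
    fun e => absurd (hc.trans e) (not_le.2 (Nat.pow_lt_pow_right (by have := h.four; omega) (by omega)))

theorem Sys.u0_index (h : Sys σ x) {g : G} (hg : g ∈ U0 x σ) (hn : g ∉ Cs (U0 x σ)) :
    Nat.card ↥(U0 x σ ⊓ C1 g) ≤ qn σ ^ 3 := by
  obtain ⟨a, d, c, r, ha, hd, hc, hr, rfl⟩ := h.s.mem_U0.1 hg
  have k : ∀ u ∈ U0 x σ ⊓ C1 (uu x a d c r), ∃ a' d' c' r', σ a' = a' ∧ σ d' = d' ∧ σ c' = c' ∧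
      σ r' = r' ∧ u = uu x a' d' c' r' ∧ a' * d = a * d' := fun u hu => by
    obtain ⟨a', d', c', r', ha', hd', hc', hr', rfl⟩ := h.s.mem_U0.1 hu.1
    exact ⟨a', d', c', r', ha', hd', hc', hr', rfl,
      h.s.eq_of_add (ha ▸ ha' ▸ ((comm h hd' hr' hd hr).1 (mem_C1.1 hu.2)).1)⟩
  have e : Nat.card (fixF σ × fixF σ × fixF σ) = qn σ ^ 3 := by
    rw [Nat.card_prod, Nat.card_prod, qn]; ring
  rw [← e]
  by_cases h1 : a = 0
  · by_cases h2 : d = 0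
    · refine absurd (mem_Cs.2 fun u hu => ?_) hn
      obtain ⟨a', d', c', r', ha', hd', -, hr', rfl⟩ := h.s.mem_U0.1 hu
      rw [comm h hd' hr' hd hr]
      simp [h1, h2, ha', hc, h.s.add_self]
    · refine card_le (fun p => uu x 0 p.1 p.2.1 p.2.2) fun u hu => ?_
      obtain ⟨a', d', c', r', -, hd', hc', hr', rfl, e⟩ := k u hu
      obtain rfl : a' = 0 := by simpa [h1, h2] using e
      exact ⟨(⟨d', hd'⟩, ⟨c', hc'⟩, ⟨r', hr'⟩), rfl⟩
  · refine card_le (fun p => uu x p.1 (a⁻¹ * (p.1 * d)) p.2.1 p.2.2) fun u hu => ?_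
    obtain ⟨a', d', c', r', ha', -, hc', hr', rfl, e⟩ := k u hu
    exact ⟨(⟨a', ha'⟩, ⟨c', hc'⟩, ⟨r', hr'⟩), by rw [e, inv_mul_cancel_left₀ h1]⟩

end Cfsg.Lib.SU4
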