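import Cfsg.Agent.SU4.Fld

/-!
# Standard subgroups of type `U₄(2ⁿ)`: the group `U`
-/

set_option autoImplicit false
set_option linter.unusedSectionVars false

namespace Cfsg.Lib.SU4

open Subgroup Cfsg.Lib.Trans Cfsg.Lib.Gold
open scoped commutatorElement

section Ring

variable {B Γ : Type*} [CommRing B] [Group Γ] {ρ : B ≃+* B} {y z : ZMod 8 → B → Γ}

theorem U4S.mul (hy : U4S ρ y) (hz : U4S ρ z) (hc : ∀ i j s u, Commute (y i s) (z j u)) :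
    U4S ρ fun i s => y i s * z i s := by
  have h1 : ∀ a ∈ LL y, ∀ b ∈ LL z, Commute a b := fun a ha b hb =>
    mem_centralizer_singleton_iff.1 ((LL_le (H := C1 b)).2 (fun i s =>
      mem_centralizer_singleton_iff.2 (mem_centralizer_singleton_iff.1 ((LL_le (H := C1 (y i s))).2
        (fun j u => mem_centralizer_singleton_iff.2 (hc i j s u).symm.eq) hb)).symm) ha)
  let φ : LL y × LL z →* Γ := (LL y).subtype.noncommCoprod (LL z).subtype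
    fun a b => h1 a a.2 b b.2
  have hp : U4S ρ fun i s => ((⟨y i s, x_mem_LL i s⟩, ⟨z i s, x_mem_LL i s⟩) : LL y × LL z) :=
    { two := hy.two
      ss := hy.ss
      junk := fun i hi s u => Prod.ext (Subtype.ext (hy.junk i hi s u)) (Subtype.ext (hz.junk i hi s u))
      adds := fun i hi s u => Prod.ext (Subtype.ext (hy.adds i hi s u)) (Subtype.ext (hz.adds i hi s u))
      addl := fun i hi s u a b =>
        Prod.ext (Subtype.ext (hy.addl i hi s u a b)) (Subtype.ext (hz.addl i hi s u a b))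
      c1 := fun i s u => Prod.ext (Subtype.ext (hy.c1 i s u)) (Subtype.ext (hz.c1 i s u))
      c2l := fun i hi s u => Prod.ext (Subtype.ext (hy.c2l i hi s u)) (Subtype.ext (hz.c2l i hi s u))
      c2s := fun i hi s u => Prod.ext (Subtype.ext (hy.c2s i hi s u)) (Subtype.ext (hz.c2s i hi s u))
      c3p := fun i hi s u a =>
        Prod.ext (Subtype.ext (hy.c3p i hi s u a)) (Subtype.ext (hz.c3p i hi s u a))
      c3m := fun i hi s u a =>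
        Prod.ext (Subtype.ext (hy.c3m i hi s u a)) (Subtype.ext (hz.c3m i hi s u a)) }
  exact hp.map φ

theorem U4S.conj4 (h : U4S ρ y) (s : B) {d r : B} (hd : ρ d = d) (hr : ρ r = r) (c : B) :
    y 4 s * vv y d c r * (y 4 s)⁻¹ =
      vv y (d + s * ρ s * r + (s * c + ρ s * ρ c)) (c + ρ s * r) r := by
  have e : ∀ {d r : B} (c : B), vv y d c r = vv (fun i => y (-i + 4)) r c d := fun {d r} c => by
    change _ = y 1 r * y 2 c * y 3 d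
    rw [vv, ← (h.c23 c d).eq, mul_assoc, ← (h.c13 r d).eq, ← mul_assoc, ← (h.c12 r c).eq]
  rw [e, e]
  exact ((h.rot (j := 4) (by decide)).neg).conj0 s hr hd

theorem U4S.r30 (h : U4S ρ y) (s : B) {d : B} (hd : ρ d = d) :
    y 3 d * y 0 s * (y 3 d)⁻¹ = y 0 s * y 2 (ρ s * d) * y 1 (s * ρ s * d) :=
  (swap_comm (h.mul_self _ _) (h.mul_self _ _) ((h.c23 _ _).symm.mul_right (h.c13 _ _).symm)
    ((h.r03 s hd).trans (mul_assoc _ _ _))).trans (mul_assoc _ _ _).symm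

theorem U4S.sq_VV (h : U4S ρ y) {v : Γ} (hv : v ∈ VV y) : v * v = 1 := by
  obtain ⟨d, c, r, -, -, rfl⟩ := h.mem_VV.1 hv
  exact h.vv_sq d c r

theorem U4S.VV_comm (h : U4S ρ y) : VV y ≤ Cs (VV y) := fun a ha => mem_Cs.2 fun b hb => by
  rw [← inv_eq_of_mul_eq_one_right (h.sq_VV (mul_mem hb ha)), mul_inv_rev,
    inv_eq_of_mul_eq_one_right (h.sq_VV ha), inv_eq_of_mul_eq_one_right (h.sq_VV hb)]

theorem U4S.R_le_Cs (h : U4S ρ y) : rt y 1 ≤ Cs (PA y) := by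
  have k : ∀ i, (∀ s u, Commute (y 1 s) (y i u)) → rt y i ≤ Cs (rt y 1) := fun i e =>
    rt_le.2 fun u => le_Cs_comm.1 (rt_le.2 fun s => mem_Cs.2 fun _ hb => mem_C1.1
      ((zpowers_le (H := C1 (y 1 s))).2 (mem_C1.2 (e s u).symm) hb)) (mem_zpowers _)
  exact le_Cs_comm.1 (sup_le (sup_le (k 0 fun s u => (h.c01 u s).symm)
    (sup_le (k 2 h.c12) (k 1 (h.c0 1)))) (sup_le (k 3 h.c13) (k 7 h.c17)))

theorem U4S.comm_UU (h : U4S ρ y) {u v : Γ} (hu : u ∈ UU y) (hv : v ∈ UU y) : ⁅u, v⁆ ∈ NN y := by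
  obtain ⟨a, d, c, r, hd, hr, rfl⟩ := h.mem_UU.1 hu
  obtain ⟨a', d', c', r', hd', hr', rfl⟩ := h.mem_UU.1 hv
  rw [h.uu_comm hd hr hd' hr', h.vv_21]
  exact mul_mem (X2_le_NN (x_mem_rt _ _)) (R_le_NN (x_mem_rt _ _))

theorem U4S.comm_NN (h : U4S ρ y) {u v : Γ} (hu : u ∈ UU y) (hv : v ∈ NN y) : ⁅u, v⁆ ∈ rt y 1 := by
  obtain ⟨a, d, c, r, hd, hr, rfl⟩ := h.mem_UU.1 hu
  obtain ⟨c', r', hr', rfl⟩ := h.mem_NN.1 hv
  rw [← h.uu_zero, h.uu_comm hd hr (map_zero ρ) hr', mul_zero, map_zero, zero_mul, add_zero, h.vv_1]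
  exact x_mem_rt _ _

theorem U4S.qq_comm (h : U4S ρ y) (a c a' c' : B) {r r' : B} (hr : ρ r = r) (hr' : ρ r' = r') :
    ⁅uu y a 0 c r, uu y a' 0 c' r'⁆ = y 1 (a * c' + ρ a * ρ c' + (a' * c + ρ a' * ρ c)) := by
  rw [h.uu_comm (map_zero ρ) hr (map_zero ρ) hr']
  simp [h.vv_1]

theorem U4S.comm_QQ (h : U4S ρ y) {u v : Γ} (hu : u ∈ QQ y) (hv : v ∈ QQ y) : ⁅u, v⁆ ∈ rt y 1 := by
  obtain ⟨a, c, r, hr, rfl⟩ := h.mem_QQ.1 hu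
  obtain ⟨a', c', r', hr', rfl⟩ := h.mem_QQ.1 hv
  exact h.qq_comm a c a' c' hr hr' ▸ x_mem_rt _ _

theorem U4S.sq_UU (h : U4S ρ y) {u : Γ} (hu : u ∈ UU y) : u * u ∈ NN y := by
  obtain ⟨a, d, c, r, hd, hr, rfl⟩ := h.mem_UU.1 hu
  rw [h.uu_sq hd hr, h.vv_21]
  exact mul_mem (X2_le_NN (x_mem_rt _ _)) (R_le_NN (x_mem_rt _ _))

theorem U4S.sq_QQ (h : U4S ρ y) {u : Γ} (hu : u ∈ QQ y) : u * u ∈ rt y 1 := by
  obtain ⟨a, c, r, hr, rfl⟩ := h.mem_QQ.1 hu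
  rw [h.uu_sq (map_zero ρ) hr, mul_zero, h.vv_1]
  exact x_mem_rt _ _

theorem U4S.two_UU (h : U4S ρ y) : IsPGroup 2 (UU y) := fun g => ⟨2, Subtype.ext (by
  rw [coe_pow, show 2 ^ 2 = 2 * 2 from rfl, pow_mul, sq, sq]
  exact h.sq_VV (NN_le_VV (h.sq_UU g.2)))⟩

theorem U4S.UU_le_Ns (h : U4S ρ y) {H : Subgroup Γ} (h1 : NN y ≤ H) (h2 : H ≤ UU y) :
    UU y ≤ Ns H := le_normalizer_iff_commutator_le_right.2
  (commutator_le.2 fun _ ha _ hb => h1 (h.comm_UU ha (h2 hb)))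

theorem U4S.UU_le_Ns_VV (h : U4S ρ y) : UU y ≤ Ns (VV y) := h.UU_le_Ns NN_le_VV VV_le_UU

theorem U4S.UU_le_Ns_QQ (h : U4S ρ y) : UU y ≤ Ns (QQ y) := h.UU_le_Ns NN_le_QQ QQ_le_UU

theorem U4S.UU_le_Ns_NN (h : U4S ρ y) : UU y ≤ Ns (NN y) :=
  h.UU_le_Ns le_rfl (NN_le_VV.trans VV_le_UU)

theorem U4S.c300 (h : U4S ρ y) {u : B} (hu : ρ u = u) (s s' : B) :
    ⁅⁅y 3 u, y 0 s⁆, y 0 s'⁆ = y 1 (u * (s' * ρ s + ρ s' * s)) := by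
  have z := map_zero ρ
  rw [← h.vv_3, ← h.uu_zero, ← h.uu_0 s, h.uu_comm hu z z z, ← h.uu_zero, ← h.uu_0 s',
    h.qq_comm _ _ _ _ (by simp [h.ss, hu, mul_comm]) z]
  congr 1
  simp only [map_add, map_mul, h.ss, hu, z]; ring

theorem U4S.mem_U0 (h : U4S ρ y) {g : Γ} :
    g ∈ U0 y ρ ↔ ∃ a d c r, ρ a = a ∧ ρ d = d ∧ ρ c = c ∧ ρ r = r ∧ g = uu y a d c r := by
  have z := map_zero ρ
  refine ⟨fun hg => ?_, ?_⟩
  · let H : Subgroup Γ :=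
      { carrier := {g | ∃ a d c r, ρ a = a ∧ ρ d = d ∧ ρ c = c ∧ ρ r = r ∧ g = uu y a d c r}
        one_mem' := ⟨0, 0, 0, 0, z, z, z, z, h.uu_one.symm⟩
        mul_mem' := by
          rintro _ _ ⟨a, d, c, r, ha, hd, hc, hr, rfl⟩ ⟨a', d', c', r', ha', hd', hc', hr', rfl⟩
          exact ⟨_, _, _, _, fx_add ha ha', fx_add hd hd',
            fx_add (fx_add hc (fx_mul (congrArg ρ ha') hd)) hc',
            fx_add (fx_add (fx_add hr (fx_mul (h.fxN _) hd)) (h.fxT' _ _)) hr',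
            h.uu_mul hd hr hd' hr'⟩
        inv_mem' := by
          rintro _ ⟨a, d, c, r, ha, hd, hc, hr, rfl⟩
          exact ⟨_, _, _, _, ha, hd, fx_add hc (fx_mul (congrArg ρ ha) hd),
            fx_add (fx_add hr (fx_mul (h.fxN _) hd)) (h.fxT' _ _), h.uu_inv hd hr⟩ }
    refine (closure_le H).2 ?_ hg
    rintro _ ⟨i, s, hi, hs, rfl⟩
    rcases (by decide : ∀ i : ZMod 8, i.val ≤ 3 → i = 0 ∨ i = 1 ∨ i = 2 ∨ i = 3) i hi with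
      rfl | rfl | rfl | rfl
    exacts [⟨s, 0, 0, 0, hs, z, z, z, (h.uu_0 s).symm⟩,
      ⟨0, 0, 0, s, z, z, z, hs, by rw [h.uu_zero, h.vv_1]⟩,
      ⟨0, 0, s, 0, z, z, hs, z, by rw [h.uu_zero, h.vv_2]⟩,
      ⟨0, s, 0, 0, z, hs, z, z, by rw [h.uu_zero, h.vv_3]⟩]
  · rintro ⟨a, d, c, r, ha, hd, hc, hr, rfl⟩
    exact mul_mem (subset_closure ⟨0, a, by decide, ha, rfl⟩) (mul_mem (mul_mem
      (subset_closure ⟨3, d, by decide, hd, rfl⟩) (subset_closure ⟨2, c, by decide, hc, rfl⟩))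
      (subset_closure ⟨1, r, by decide, hr, rfl⟩))

theorem U0_le_UU : U0 y ρ ≤ UU y := (closure_le _).2 (by
  rintro _ ⟨i, s, hi, -, rfl⟩
  rcases (by decide : ∀ i : ZMod 8, i.val ≤ 3 → i = 0 ∨ i = 1 ∨ i = 2 ∨ i = 3) i hi with
    rfl | rfl | rfl | rfl
  exacts [QQ_le_UU (X0_le_QQ (x_mem_rt _ _)), R_le_UU (x_mem_rt _ _),
    QQ_le_UU (NN_le_QQ (X2_le_NN (x_mem_rt _ _))), VV_le_UU (X3_le_VV (x_mem_rt _ _))])

theorem U0_cx (g : Γ) : U0 (cx y g) ρ = cj g (U0 y ρ) := by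
  rw [U0, U0, cj_closure]
  congr 1
  ext a
  constructor
  · rintro ⟨i, s, h1, h2, rfl⟩
    exact ⟨_, ⟨i, s, h1, h2, rfl⟩, rfl⟩
  · rintro ⟨_, ⟨i, s, h1, h2, rfl⟩, rfl⟩
    exact ⟨i, s, h1, h2, rfl⟩

theorem Acts.uu {g : Γ} {τ : B → B} (h : Acts y g τ) (a d c r : B) :
    g * uu y a d c r * g⁻¹ = uu y (τ a) (τ d) (τ c) (τ r) := by
  simp only [SU4.uu, vv, ← h _ _, conj_mul]

namespace M2

variable (h : U4S ρ y) (hi : Inj y ρ) {a d c r : B}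
include h hi

theorem uu_mem_VV (hd : ρ d = d) (hr : ρ r = r) : uu y a d c r ∈ VV y ↔ a = 0 :=
  ⟨fun e => by
    obtain ⟨d', c', r', h1, h2, e⟩ := h.mem_VV.1 e
    exact (h.uu_inj hi hd hr h1 h2 (e.trans (h.uu_zero ..).symm)).1,
  by rintro rfl; exact h.mem_VV.2 ⟨d, c, r, hd, hr, h.uu_zero ..⟩⟩

theorem uu_mem_QQ (hd : ρ d = d) (hr : ρ r = r) : uu y a d c r ∈ QQ y ↔ d = 0 :=
  ⟨fun e => by
    obtain ⟨a', c', r', h2, e⟩ := h.mem_QQ.1 e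
    exact (h.uu_inj hi hd hr (map_zero ρ) h2 e).2.1,
  by rintro rfl; exact h.mem_QQ.2 ⟨a, c, r, hr, rfl⟩⟩

theorem uu_mem_NN (hd : ρ d = d) (hr : ρ r = r) : uu y a d c r ∈ NN y ↔ a = 0 ∧ d = 0 :=
  ⟨fun e => ⟨(uu_mem_VV h hi hd hr).1 (NN_le_VV e), (uu_mem_QQ h hi hd hr).1 (NN_le_QQ e)⟩,
  by rintro ⟨rfl, rfl⟩; exact h.mem_NN.2 ⟨c, r, hr, h.uu_zero ..⟩⟩

theorem uu_mem_R (hd : ρ d = d) (hr : ρ r = r) : uu y a d c r ∈ rt y 1 ↔ a = 0 ∧ d = 0 ∧ c = 0 :=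
  ⟨fun e => by
    obtain ⟨r', h2, e⟩ := (h.mem_rtl (by decide)).1 e
    obtain ⟨h3, h4, h5, -⟩ := h.uu_inj hi hd hr (map_zero ρ) h2
      (e.trans ((h.uu_zero ..).trans (h.vv_1 r')).symm)
    exact ⟨h3, h4, h5⟩,
  by rintro ⟨rfl, rfl, rfl⟩; rw [h.uu_zero, h.vv_1]; exact x_mem_rt _ _⟩

end M2

end Ring

namespace M2

variable {G E : Type*} [Group G] [Field E] [Finite E] {σ : E ≃+* E} {x : ZMod 8 → E → G}
  (h : Sys σ x) (hi : Inj x σ)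
include h hi

theorem card_VV : Nat.card (VV x) = qn σ ^ 4 := by
  rw [SG2.card_of_param (fun p : fixF σ × E × fixF σ => vv x p.1 p.2.1 p.2.2) (fun p p' e => by
      obtain ⟨h1, h2, h3⟩ := h.s.vv_inj hi p.1.2 p.2.2.2 p'.1.2 p'.2.2.2 e
      ext <;> assumption) fun g => h.s.mem_VV.trans ⟨fun ⟨d, c, r, h1, h2, e⟩ =>
        ⟨(⟨d, h1⟩, c, ⟨r, h2⟩), e⟩, fun ⟨p, e⟩ => ⟨_, _, _, p.1.2, p.2.2.2, e⟩⟩]
  simp only [Nat.card_prod, h.qd.card, qn]; ring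

theorem card_QQ : Nat.card (QQ x) = qn σ ^ 5 := by
  rw [SG2.card_of_param (fun p : E × E × fixF σ => uu x p.1 0 p.2.1 p.2.2) (fun p p' e => by
      obtain ⟨h1, -, h2, h3⟩ := h.s.uu_inj hi (map_zero σ) p.2.2.2 (map_zero σ) p'.2.2.2 e
      ext <;> assumption) fun g => h.s.mem_QQ.trans ⟨fun ⟨d, c, r, h2, e⟩ =>
        ⟨(d, c, ⟨r, h2⟩), e⟩, fun ⟨p, e⟩ => ⟨_, _, _, p.2.2.2, e⟩⟩]
  simp only [Nat.card_prod, h.qd.card, qn]; ring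

theorem card_NN : Nat.card (NN x) = qn σ ^ 3 := by
  rw [SG2.card_of_param (fun p : E × fixF σ => vv x 0 p.1 p.2) (fun p p' e => by
      obtain ⟨-, h2, h3⟩ := h.s.vv_inj hi (map_zero σ) p.2.2 (map_zero σ) p'.2.2 e
      ext <;> assumption) fun g => h.s.mem_NN.trans ⟨fun ⟨c, r, h2, e⟩ =>
        ⟨(c, ⟨r, h2⟩), e⟩, fun ⟨p, e⟩ => ⟨_, _, p.2.2, e⟩⟩]
  simp only [Nat.card_prod, h.qd.card, qn]; ring

theorem card_R : Nat.card (rt x 1) = qn σ :=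
  SG2.card_of_param (fun p : fixF σ => x 1 p) (fun p p' e => Subtype.ext (h.s.x1_inj hi p.2 p'.2 e))
    fun _ => (h.s.mem_rtl (by decide)).trans ⟨fun ⟨r, h2, e⟩ => ⟨⟨r, h2⟩, e⟩,
      fun ⟨p, e⟩ => ⟨_, p.2, e⟩⟩

theorem card_U0 : Nat.card (U0 x σ) = qn σ ^ 4 := by
  rw [SG2.card_of_param (fun p : fixF σ × fixF σ × fixF σ × fixF σ =>
    uu x p.1 p.2.1 p.2.2.1 p.2.2.2) (fun p p' e => by
      obtain ⟨h1, h2, h3, h4⟩ := h.s.uu_inj hi p.2.1.2 p.2.2.2.2 p'.2.1.2 p'.2.2.2.2 e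
      ext <;> assumption) fun g => h.s.mem_U0.trans ⟨fun ⟨a, d, c, r, h1, h2, h3, h4, e⟩ =>
        ⟨(⟨a, h1⟩, ⟨d, h2⟩, ⟨c, h3⟩, ⟨r, h4⟩), e⟩,
        fun ⟨p, e⟩ => ⟨_, _, _, _, p.1.2, p.2.1.2, p.2.2.1.2, p.2.2.2.2, e⟩⟩]
  simp only [Nat.card_prod, qn]; ring

end M2

end Cfsg.Lib.SU4
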