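import Cfsg.Agent.SU4.M2A
import Cfsg.Agent.SU4.M1n
import Cfsg.Agent.Chev.MultSL
import Cfsg.Agent.Class.PSLSimple
import Cfsg.Agent.Trans.Quasisimple

/-!
# Standard subgroups of type `U₄(2ⁿ)`: the field case of the dichotomy
-/

set_option autoImplicit false
set_option linter.unusedSectionVars false

namespace Cfsg.Lib.SU4

open Subgroup Cfsg.Lib.Trans Cfsg.Lib.Gold
open scoped commutatorElement MatrixGroups

namespace E1

/-- The root of type `²A₃` under a root of type `A₃`. -/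
def ix (a b : Fin 4) : ZMod 8 := ![![0, 0, 2, 1], ![4, 0, 3, 2], ![6, 7, 0, 0], ![5, 6, 4, 0]] a b

/-- The kind of a root of type `A₃`. -/
def ty (a b : Fin 4) : Fin 3 := ![![0, 0, 1, 2], ![1, 0, 2, 0], ![0, 2, 0, 1], ![2, 1, 0, 0]] a b

theorem ix_eq_1' : type_of% @ix.eq_1 := @ix.eq_1
theorem ty_eq_1' : type_of% @ty.eq_1 := @ty.eq_1

theorem tab_add : ∀ a b : Fin 4, a ≠ b → Ev (ix a b) ∨ ty a b = 2 := by decide

set_option synthInstance.maxSize 2000 in
theorem tab_comm : ∀ a b c : Fin 4, a ≠ b → b ≠ c → a ≠ c → ∃ i, Ev i ∧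
    ((ix a b = i ∧ ix b c = i + 3 ∧ ix a c = i + 2 ∧ ty a b = 0 ∧ ty b c = 2 ∧ ty a c = 1) ∨
    (ix b c = i ∧ ix a b = i + 3 ∧ ix a c = i + 2 ∧ ty b c = 1 ∧ ty a b = 2 ∧ ty a c = 0) ∨
    (ix a b = i ∧ ix b c = i + 2 ∧ ix a c = i + 1 ∧ ty a b = 0 ∧ ty b c = 0 ∧ ty a c = 2) ∨
    (ix b c = i ∧ ix a b = i + 2 ∧ ix a c = i + 1 ∧ ty b c = 1 ∧ ty a b = 1 ∧ ty a c = 2) ∨
    (ix a b = i ∧ ix b c = i - 3 ∧ ix a c = i - 2 ∧ ty a b = 1 ∧ ty b c = 2 ∧ ty a c = 0) ∨
    (ix b c = i ∧ ix a b = i - 3 ∧ ix a c = i - 2 ∧ ty b c = 0 ∧ ty a b = 2 ∧ ty a c = 1)) := by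
  decide

/-- The commutation relations which are read off directly. -/
def Gd (i j : ZMod 8) (p q : Fin 3) : Prop :=
  j = i ∨ j = i + 1 ∨ (¬ Ev i ∧ j = i + 2) ∨ (Ev i ∧ j = i + 2 ∧ (p = 0 ∧ q = 1 ∨ p = 1 ∧ q = 0))

theorem Gd_eq_1' : type_of% @Gd.eq_1 := @Gd.eq_1

instance instDecGd (i j : ZMod 8) (p q : Fin 3) : Decidable (Gd i j p q) := by
  unfold Gd; infer_instance

theorem tab_commute : ∀ a b c d : Fin 4, a ≠ b → c ≠ d → b ≠ c → a ≠ d →
    Gd (ix a b) (ix c d) (ty a b) (ty c d) ∨ Gd (ix c d) (ix a b) (ty c d) (ty a b) ∨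
      (a ≠ c ∧ b ≠ d ∧ Ev (ix a b) ∧ ix c d = ix a b + 4 ∧ ty c d = ty a b ∧
        (ty a b = 0 ∨ ty a b = 1)) := by
  decide

theorem tab_res : ∀ i : ZMod 8, ra i ≠ rb i ∧ (rb i).rev ≠ (ra i).rev ∧ ix (ra i) (rb i) = i ∧
    (Ev i → ty (ra i) (rb i) = 0 ∧ ix (rb i).rev (ra i).rev = i ∧ ty (rb i).rev (ra i).rev = 1) ∧
    (¬ Ev i → ty (ra i) (rb i) = 2) := by decide

theorem tab_act : ∀ a b : Fin 4, a ≠ b → ix b.rev a.rev = ix a b ∧
    (ty a b = 0 ∧ ty b.rev a.rev = 1 ∨ ty a b = 1 ∧ ty b.rev a.rev = 0 ∨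
      ty a b = 2 ∧ ty b.rev a.rev = 2) := by decide

section Ring

variable {B Γ : Type*} [CommRing B] [Group Γ]

/-- The three kinds of parameters. -/
def cf (ρ : B ≃+* B) (j : Fin 3) (k : B) : B := ![k, ρ k, k + ρ k] j

theorem cf_eq_1' : type_of% @cf.eq_1 := @cf.eq_1

variable {ρ : B ≃+* B} {y : ZMod 8 → B → Γ}

theorem cf0 (k : B) : cf ρ 0 k = k := rfl
theorem cf1 (k : B) : cf ρ 1 k = ρ k := rfl
theorem cf2 (k : B) : cf ρ 2 k = k + ρ k := rfl

theorem cf_add (j : Fin 3) (k m : B) : cf ρ j (k + m) = cf ρ j k + cf ρ j m := by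
  fin_cases j
  · rfl
  · exact map_add ρ k m
  · change k + m + ρ (k + m) = k + ρ k + (m + ρ m)
    rw [map_add]; ring

theorem hz {a b c : Γ} (hc : Commute b c) (e : a * b * a⁻¹ = b * c) : a * b = c * b * a := by
  rw [← hc.eq, ← e, inv_mul_cancel_right]

theorem hz' {a b c : Γ} (h2 : c * c = 1) (e : a * b = c * b * a) : b * a = c * a * b := by
  rw [mul_assoc, e, mul_assoc c b, ← mul_assoc, h2, one_mul]

variable (h : U4S ρ y)
include h

theorem h3p {i : ZMod 8} (hi : Ev i) {s u v : B} (hs : s * ρ s = 0) (hu : ρ u = u)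
    (hv : ρ s * u = v) : y i s * y (i + 3) u = y (i + 2) v * y (i + 3) u * y i s := by
  have c := h.c1 (i + 2) v u
  rw [add_assoc, show (2 + 1 : ZMod 8) = 3 from rfl] at c
  refine hz c.symm ?_
  rw [h.c3p i hi s u hu, hs, zero_mul, h.zero, mul_one, hv]

theorem h3m {i : ZMod 8} (hi : Ev i) {s u v : B} (hs : s * ρ s = 0) (hu : ρ u = u)
    (hv : ρ s * u = v) : y i s * y (i - 3) u = y (i - 2) v * y (i - 3) u * y i s := by
  have c := h.c1 (i - 3) u v
  rw [show i - 3 + 1 = i - 2 by ring] at c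
  refine hz c ?_
  rw [h.c3m i hi s u hu, hs, zero_mul, h.zero, mul_one, hv]

theorem h2s {i : ZMod 8} (hi : Ev i) {s u v : B} (hv : s * u + ρ s * ρ u = v) :
    y i s * y (i + 2) u = y (i + 1) v * y (i + 2) u * y i s := by
  have c := h.c1 (i + 1) v u
  rw [add_assoc, one_add_one_eq_two] at c
  refine hz c.symm ?_
  rw [h.c2s i hi s u, hv]

theorem gd {i j : ZMod 8} {p q : Fin 3} (g : Gd i j p q) {k m : B} (e : k * ρ m = 0) :
    Commute (y i (cf ρ p k)) (y j (cf ρ q m)) := by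
  have e' : ρ k * m = 0 := by rw [← h.ss m, ← map_mul, e, map_zero]
  rcases g with rfl | rfl | ⟨hi, rfl⟩ | ⟨hi, rfl, g⟩
  · exact h.c0 _ _ _
  · exact h.c1 _ _ _
  · exact h.c2l _ hi _ _
  · have : cf ρ p k * cf ρ q m + ρ (cf ρ p k) * ρ (cf ρ q m) = 0 := by
      rcases g with ⟨rfl, rfl⟩ | ⟨rfl, rfl⟩ <;> simp only [cf0, cf1, h.ss, e, e', add_zero]
    rw [Commute, SemiconjBy, h2s h hi this, h.zero, one_mul]

theorem cenV {k m : B} (e : k * ρ m = 0) (hk : k * ρ k = 0) (hm : m * ρ m = 0) {v : Γ}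
    (hv : v ∈ VV y) : Commute (y 0 k * y 4 m * (y 0 k * y 4 m)) v := by
  have e' : ρ k * m = 0 := by rw [← h.ss m, ← map_mul, e, map_zero]
  obtain ⟨d, c, r, hd, hr, rfl⟩ := h.mem_VV.1 hv
  have k1 : y 0 k * (y 4 m * vv y d c r * (y 4 m)⁻¹) * (y 0 k)⁻¹ =
      y 4 m * (y 0 k * vv y d c r * (y 0 k)⁻¹) * (y 4 m)⁻¹ := by
    rw [h.conj4 m hd hr, h.conj0 k hd hr,
      h.conj0 k (fx_add (fx_add hd (fx_mul (h.fxN m) hr)) (h.fxT' m c)) hr,
      h.conj4 m hd (fx_add (fx_add hr (fx_mul (h.fxN k) hd)) (h.fxT' k c))]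
    simp only [map_add, map_mul, h.ss, hd, hr, hk, hm, zero_mul, add_zero]
    congr 1
    · linear_combination (-d) * e' - d * e
    · linear_combination c * e' - c * e
    · linear_combination r * e + r * e'
  rw [h.inv, h.inv] at k1
  have a2 := h.mul_self 0 k
  have b2 := h.mul_self 4 m
  generalize y 0 k = a at *
  generalize y 4 m = b at *
  generalize vv y d c r = v at *
  calc a * b * (a * b) * v = a * b * (a * (b * v * b) * a) * ((a * a)⁻¹ * a * (b * b)⁻¹ * b) := by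
        group
    _ = (a * (b * b) * a) * v * (a * b * (a * b)) := by
        rw [k1, a2, show (b * b)⁻¹ = 1 by rw [b2, inv_one]]; group
    _ = _ := by rw [b2, mul_one, a2, one_mul]

theorem cen0 {k m : B} (e : k * ρ m = 0) (hk : k * ρ k = 0) (hm : m * ρ m = 0) :
    LL y ≤ C1 (y 0 k * y 4 m * (y 0 k * y 4 m)) := by
  have e' : m * ρ k = 0 := by rw [← h.ss m, ← map_mul, mul_comm, e, map_zero]
  have k1 : VV y ≤ C1 (y 0 k * y 4 m * (y 0 k * y 4 m)) := fun v hv =>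
    mem_C1.2 (cenV h e hk hm hv).symm
  have k2 : VV (fun i => y (i + 4)) ≤ C1 (y 0 k * y 4 m * (y 0 k * y 4 m)) := fun v hv => by
    have := (cenV (h.rot (j := 4) (by decide)) e' hm hk hv).inv_left
    change Commute (y 4 m * y 0 k * (y 4 m * y 0 k))⁻¹ v at this
    simp only [mul_inv_rev, h.inv] at this
    exact mem_C1.2 this.symm
  generalize C1 (y 0 k * y 4 m * (y 0 k * y 4 m)) = H at k1 k2
  have a1 : ∀ s, y 1 s ∈ H := fun s => k1 (R_le_VV (x_mem_rt 1 s))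
  have a2 : ∀ s, y 2 s ∈ H := fun s => k1 (NN_le_VV (X2_le_NN (x_mem_rt 2 s)))
  have a3 : ∀ s, y 3 s ∈ H := fun s => k1 (X3_le_VV (x_mem_rt 3 s))
  have a5 : ∀ s, y 5 s ∈ H := fun s => k2 (R_le_VV (x_mem_rt 1 s))
  have a6 : ∀ s, y 6 s ∈ H := fun s => k2 (NN_le_VV (X2_le_NN (x_mem_rt 2 s)))
  have a7 : ∀ s, y 7 s ∈ H := fun s => k2 (X3_le_VV (x_mem_rt 3 s))
  have a0 : ∀ s, y 0 s ∈ H := fun s => by
    have : y 2 (ρ s) * y 7 1 * (y 2 (ρ s))⁻¹ = y 7 1 * y 0 (ρ (ρ s) * 1) * y 1 _ :=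
      h.c3m 2 (by decide) (ρ s) 1 (map_one ρ)
    rw [h.ss, mul_one] at this
    exact (H.mul_mem_cancel_left (a7 1)).1 ((H.mul_mem_cancel_right (a1 _)).1
      (this ▸ H.mul_mem (H.mul_mem (a2 _) (a7 _)) (H.inv_mem (a2 _))))
  have a4 : ∀ s, y 4 s ∈ H := fun s => by
    have : y 2 (ρ s) * y 5 1 * (y 2 (ρ s))⁻¹ = y 5 1 * y 4 (ρ (ρ s) * 1) * y 3 _ :=
      h.c3p 2 (by decide) (ρ s) 1 (map_one ρ)
    rw [h.ss, mul_one] at this
    exact (H.mul_mem_cancel_left (a5 1)).1 ((H.mul_mem_cancel_right (a3 _)).1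
      (this ▸ H.mul_mem (H.mul_mem (a2 _) (a5 _)) (H.inv_mem (a2 _))))
  refine LL_le.2 fun i => ?_
  obtain rfl | rfl | rfl | rfl | rfl | rfl | rfl | rfl :
    i = 0 ∨ i = 1 ∨ i = 2 ∨ i = 3 ∨ i = 4 ∨ i = 5 ∨ i = 6 ∨ i = 7 := by revert i; decide
  exacts [a0, a1, a2, a3, a4, a5, a6, a7]

theorem cen {i : ZMod 8} (hi : Ev i) {k m : B} (e : k * ρ m = 0) (hk : k * ρ k = 0)
    (hm : m * ρ m = 0) : LL y ≤ C1 (y i k * y (i + 4) m * (y i k * y (i + 4) m)) := by
  have := cen0 (h.rot hi) e hk hm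
  simp only [zero_add, add_comm 4 i] at this
  refine LL_le.2 fun j s => ?_
  simpa only [sub_add_cancel] using LL_le.1 this (j - i) s

end Ring

section St

variable {F B Γ : Type*} [Field F] [CommRing B] [Group Γ]

/-- The system of type `A₃` attached to a system of type `²A₃` over `F × F`. -/
def ee (ρ : B ≃+* B) (κ : F → B) (y : ZMod 8 → B → Γ) (a b : Fin 4) (s : F) : Γ :=
  y (ix a b) (cf ρ (ty a b) (κ s))

theorem ee_eq_1' : type_of% @ee.eq_1 := @ee.eq_1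

variable {ρ : B ≃+* B} {κ : F → B} {y : ZMod 8 → B → Γ} (h : U4S ρ y)
  (ka : ∀ s u, κ (s + u) = κ s + κ u) (km : ∀ s u, κ (s * u) = κ s * κ u)
  (k0 : ∀ s u, κ s * ρ (κ u) = 0)
include h ka km k0

theorem stA_of (ho : ∀ a b c d : Fin 4, a ≠ b → c ≠ d → a ≠ c → a ≠ d → b ≠ c → b ≠ d →
    Ev (ix a b) → ix c d = ix a b + 4 → ty c d = ty a b → ty a b = 0 ∨ ty a b = 1 →
      ∀ s u, Commute (ee ρ κ y a b s) (ee ρ κ y c d u)) : Chev.StA (ee ρ κ y) where
  add a b hab s u := by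
    rw [ee, ee, ee, ka, cf_add, h.add]
    refine (tab_add a b hab).imp id fun e => ?_
    rw [e]
    exact ⟨h.fxT _, h.fxT _⟩
  comm a b c h1 h2 h3 s u := by
    have k1 : ∀ s u, ρ (κ s) * κ u = 0 := fun s u => by rw [mul_comm, k0]
    obtain ⟨i, hi, e | e | e | e | e | e⟩ := tab_comm a b c h1 h2 h3 <;>
      obtain ⟨e1, e2, e3, e4, e5, e6⟩ := e <;>
      simp only [ee, e1, e2, e3, e4, e5, e6, cf0, cf1, cf2, km]
    · exact h3p h hi (k0 s s) (h.fxT _) (by rw [mul_add, k1, zero_add, map_mul])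
    · exact hz' (h.mul_self _ _) (h3p h hi (by rw [h.ss, k1]) (h.fxT _)
        (by rw [h.ss, mul_add, k0, add_zero, mul_comm]))
    · exact h2s h hi (by rw [map_mul])
    · exact hz' (h.mul_self _ _) (h2s h hi (by rw [h.ss, h.ss, map_mul]; ring))
    · exact h3m h hi (by rw [h.ss, k1]) (h.fxT _) (by rw [h.ss, mul_add, k0, add_zero])
    · exact hz' (h.mul_self _ _) (h3m h hi (k0 u u) (h.fxT _)
        (by rw [mul_add, k1, zero_add, map_mul, mul_comm]))
  commute a b c d h1 h2 h3 h4 s u := by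
    rcases tab_commute a b c d h1 h2 h3 h4 with g | g | ⟨g1, g2, g3, g4, g5, g6⟩
    · exact gd h g (k0 s u)
    · exact (gd h g (k0 u s)).symm
    · exact ho a b c d h1 h2 g1 h4 h3 g2 g3 g4 g5 g6 s u

theorem stA [Finite F] (hq : Nat.card F ≠ 2) : Chev.StA (ee ρ κ y) := by
  let y' : ZMod 8 → B → LL y := fun i s => ⟨y i s, x_mem_LL i s⟩
  have h' : U4S ρ y' :=
    { two := h.two
      ss := h.ss
      junk := fun i hi s u => Subtype.ext (h.junk i hi s u)
      adds := fun i hi s u => Subtype.ext (h.adds i hi s u)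
      addl := fun i hi s u a b => Subtype.ext (h.addl i hi s u a b)
      c1 := fun i s u => Subtype.ext (h.c1 i s u)
      c2l := fun i hi s u => Subtype.ext (h.c2l i hi s u)
      c2s := fun i hi s u => Subtype.ext (h.c2s i hi s u)
      c3p := fun i hi s u a => Subtype.ext (h.c3p i hi s u a)
      c3m := fun i hi s u a => Subtype.ext (h.c3m i hi s u a) }
  let π := QuotientGroup.mk' (center (LL y))
  have hπ : Chev.CExt π := ⟨QuotientGroup.mk'_surjective _, (QuotientGroup.ker_mk' _).le⟩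
  have k1 : ∀ s u, ρ (κ s) * ρ (ρ (κ u)) = 0 := fun s u => by rw [← map_mul, k0, map_zero]
  have he : Chev.StA (ee ρ κ fun i s => π (y' i s)) := by
    refine stA_of (h'.map π) ka km k0 fun a b c d _ _ _ _ _ _ g3 g4 g5 g6 s u => ?_
    have key : ∀ k m : B, k * ρ m = 0 → k * ρ k = 0 → m * ρ m = 0 →
        Commute (π (y' (ix a b) k)) (π (y' (ix a b + 4) m)) := fun k m e1 e2 e3 => by
      have c : π (y' (ix a b) k * y' (ix a b + 4) m * (y' (ix a b) k * y' (ix a b + 4) m)) = 1 :=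
        (QuotientGroup.eq_one_iff _).2 (mem_center_iff.2 fun g =>
          Subtype.ext (mem_C1.1 (cen h g3 e1 e2 e3 g.2)))
      rw [map_mul, map_mul] at c
      rw [Commute, SemiconjBy, ← inv_eq_of_mul_eq_one_right c, mul_inv_rev, (h'.map π).inv,
        (h'.map π).inv]
    rw [ee, ee, g4, g5]
    rcases g6 with g6 | g6 <;> rw [g6]
    · exact key _ _ (k0 s u) (k0 s s) (k0 u u)
    · exact key _ _ (k1 s u) (k1 s s) (k1 u u)
  refine stA_of h ka km k0 fun a b c d h1 h2 h3 h4 h5 h6 _ _ _ _ s u => ?_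
  exact (hπ.commute_of_cm (e := ee ρ κ y' a b s) (f := ee ρ κ y' c d u) rfl rfl
    (he.cm_orth hπ hq h1 h2 h3 h4 h5 h6 s u)).map (LL y).subtype

end St

end E1

variable {G E : Type*} [Group G] [Finite G] [Field E] [Finite E] {σ : E ≃+* E}
  {x : ZMod 8 → E → G} {t : G}

theorem E1.inj_of (h : Qd σ) {Γ : Type*} [Group Γ] {φ : SL(4, E) →* Γ} {g : SL(4, E)}
    (hg : φ g ≠ 1) : Function.Injective φ := by
  have hq : IsQuasisimple SL(4, E) :=
    ⟨⟨Class.SL_commutator_eq_top (by simp)⟩, Class.PSL_isSimpleGroup (by simp)⟩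
  have hk : φ.ker ≤ center _ :=
    (IsQuasisimple.eq_top_or_le_center hq _ inferInstance).resolve_left fun e => hg (by
      rw [← MonoidHom.mem_ker, e]; trivial)
  refine (injective_iff_map_eq_one φ).2 fun a ha => ?_
  obtain ⟨r, h1, h2⟩ := Matrix.SpecialLinearGroup.mem_center_iff.1 (hk ha)
  obtain rfl : r = 1 := h.eq_one_of (by simpa using h1)
  exact Subtype.ext (h2.symm.trans (map_one _))

open E1 in
theorem H4.field {β : E} {hβ : σ β = β} {y : ZMod 8 → EK β → G} (h : H4 σ x t hβ y) {γ : E}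
    (hγ : γ * γ = γ + β) (fγ : σ γ ≠ γ) : ∃ φ, EF σ x t φ := by
  have hq := h.toSys.qd
  have h2 := hq.two
  have sγ : σ γ = γ + 1 := by
    have e := congrArg σ hγ
    rw [map_mul, map_add, hβ] at e
    have : (σ γ - γ) * (σ γ - (γ + 1)) = 0 := by
      linear_combination e + hγ + (β + γ - γ * σ γ) * h2
    exact sub_eq_zero.1 ((mul_eq_zero.1 this).resolve_left (sub_ne_zero.2 fγ))
  let κ : E → EK β := fun s => ⟨s * γ, s⟩
  have ka : ∀ s u, κ (s + u) = κ s + κ u := fun s u => by ext <;> simp [κ, add_mul]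
  have km : ∀ s u, κ (s * u) = κ s * κ u := fun s u => by
    ext <;> simp only [κ, QuadraticAlgebra.re_mul, QuadraticAlgebra.im_mul]
    · linear_combination (-(s * u)) * hγ - s * u * β * h2
    · linear_combination (-(s * u * γ)) * h2
  have k0 : ∀ s u, κ s * qb σ hβ (κ u) = 0 := fun s u => by
    ext <;> simp only [κ, QuadraticAlgebra.re_mul, QuadraticAlgebra.im_mul, qb_re, qb_im, map_mul,
      sγ, QuadraticAlgebra.re_zero, QuadraticAlgebra.im_zero]
    · linear_combination (s * σ u) * hγ + s * σ u * (γ + β) * h2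
    · linear_combination (s * σ u * (γ + 1)) * h2
  have ks : ∀ s, star (κ s) = qb σ hβ (κ (σ s)) := fun s => by
    ext <;> simp only [κ, QuadraticAlgebra.re_star, QuadraticAlgebra.im_star, qb_re, qb_im, map_mul,
      sγ, hq.ss]
    · ring
    · linear_combination (-s) * h2
  have kr : ∀ s, κ s + qb σ hβ (κ (σ s)) = algebraMap E (EK β) s := fun s => by
    ext <;> simp only [κ, QuadraticAlgebra.re_add, QuadraticAlgebra.im_add, qb_re, qb_im, map_mul,
      sγ, hq.ss, QuadraticAlgebra.algebraMap_eq]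
    · linear_combination (s * γ) * h2
    · linear_combination s * h2
  have kd : ∀ k : EK β, k = κ (k.re + k.im * (γ + 1)) + qb σ hβ (κ (σ k.re + σ k.im * (γ + 1))) :=
    fun k => by
    ext <;> simp only [κ, QuadraticAlgebra.re_add, QuadraticAlgebra.im_add, qb_re, qb_im, map_mul,
      map_add, map_one, sγ, hq.ss]
    · linear_combination (-(k.re * γ + k.im * (γ + 1) * (γ + 1))) * h2
    · linear_combination (-(k.re + k.im * (γ + 1))) * h2
  have hc : Nat.card E ≠ 2 := by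
    rw [hq.card]
    have := h.four
    nlinarith
  obtain ⟨φ, hφ⟩ := Known.stA_exists_hom (stA h.gs ka km k0 hc) (by simp)
  have ev : ∀ i, Ev i → ∀ s u, φ (Chev.slE (ra i) (rb i) s * Chev.slE (rb i).rev (ra i).rev u) =
      y i (κ s + qb σ hβ (κ u)) := fun i hi s u => by
    obtain ⟨t1, t2, t3, t4, -⟩ := tab_res i
    obtain ⟨t4, t5, t6⟩ := t4 hi
    rw [map_mul, hφ _ _ _ t1, hφ _ _ _ t2, ee, ee, t3, t4, t5, t6, cf0, cf1, h.gs.adds i hi]
  have od : ∀ i, ¬ Ev i → ∀ s, φ (Chev.slE (ra i) (rb i) s) = y i (κ s + qb σ hβ (κ s)) :=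
    fun i hi s => by
    obtain ⟨t1, -, t3, -, t4⟩ := tab_res i
    rw [hφ _ _ _ t1, ee, t3, t4 hi, cf2]
  have res : ∀ i s, φ (X4 σ i s) = x i s := fun i s => by
    by_cases hi : Ev i
    · rw [M1n.X4_ev hi, ev i hi, kr, h.res]
    by_cases hs : σ s = s
    · rw [M1n.X4_od hi hs, od i hi, ← h.res, ← kr, hs]
    · rw [M1n.X4_junk hi hs, map_one, h.s.junk i hi s hs]
  have hr : φ.range = LL y := by
    refine le_antisymm ?_ (LL_le.2 fun i k => ?_)
    · rw [MonoidHom.range_eq_map, map_le_iff_le_comap, top_le_iff]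
      refine Chev.closure_slE _ fun a b hab s => ?_
      rw [mem_comap, hφ a b s hab]
      exact x_mem_LL _ _
    by_cases hi : Ev i
    · exact ⟨_, (ev i hi _ _).trans (congrArg (y i) (kd k).symm)⟩
    by_cases hk : qb σ hβ k = k
    · refine ⟨_, (od i hi (k.re + k.im * (γ + 1))).trans (congrArg (y i) ?_)⟩
      have := kd k
      rw [(qb_fix.1 hk).1, (qb_fix.1 hk).2] at this
      exact this.symm
    · rw [h.gs.junk i hi k hk]
      exact one_mem _
  refine ⟨φ, h.toH1, inj_of hq (g := X4 σ 1 1) (by rw [res]; exact h.toSys.x_ne 1), res,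
    fun g => ?_, hr ▸ h.cO, hr ▸ h.nL⟩
  refine (Chev.closure_slE (((MulAut.conj t).toMonoidHom.comp φ).eqLocus
    (φ.comp (Chev.suσ (σ : E →+* E)))) fun a b hab s => ?_).ge (mem_top g)
  change t * φ (Chev.slE a b s) * t⁻¹ = φ (Chev.suσ (σ : E →+* E) (Chev.slE a b s))
  have e : -(σ : E →+* E) s = σ s := h.s.neg_eq _
  obtain ⟨t1, t2⟩ := tab_act a b hab
  rw [Chev.suσ_slE _ hab, e, hφ a b s hab, hφ _ _ _ (Fin.rev_injective.ne hab.symm), ee, ee, h.st, t1]
  congr 1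
  rcases t2 with ⟨t2, t3⟩ | ⟨t2, t3⟩ | ⟨t2, t3⟩ <;> rw [t2, t3]
  · exact ks s
  · rw [cf0, cf1, ← qb_star, ks, h.gs.ss]
  · rw [cf2, cf2, star_add, ← qb_star, ks, h.gs.ss, add_comm]

theorem Qd.exists_root (h : Qd σ) {β : E} (hβ : σ β = β) : ∃ γ : E, γ * γ = γ + β := by
  have h2 := h.two
  let f : fixF σ →+ fixF σ := AddMonoidHom.mk' (fun c => c * c + c) fun a b => Subtype.ext (by
    push_cast
    linear_combination (a * b : E) * h2)
  have hk : Nat.card f.ker = 2 := by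
    refine Nat.card_eq_two_iff.2 ⟨0, ⟨1, Subtype.ext ?_⟩, fun e => ?_, ?_⟩
    · change (1 * 1 + 1 : E) = 0
      linear_combination h2
    · exact zero_ne_one (congrArg (fun c => (c.1.1 : E)) e)
    · refine Set.eq_univ_of_forall fun c => ?_
      have e : (c.1.1 * c.1.1 + c.1.1 : E) = 0 := congrArg Subtype.val c.2
      have : (c.1.1 : E) * (c.1.1 - 1) = 0 := by linear_combination e - c.1.1 * h2
      rcases mul_eq_zero.1 this with e | e
      · exact Or.inl (Subtype.ext (Subtype.ext e))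
      · exact Or.inr (Subtype.ext (Subtype.ext (sub_eq_zero.1 e)))
  rw [← AddSubgroup.index_range] at hk
  obtain ⟨θ, hθ⟩ := h.exists_th
  have hN : σ (θ * σ θ) = θ * σ θ := by rw [map_mul, h.ss, mul_comm]
  by_cases h1 : (⟨β, hβ⟩ : fixF σ) ∈ f.range
  · obtain ⟨c, hc⟩ := h1
    have e : (c * c + c : E) = β := congrArg Subtype.val hc
    exact ⟨c, by linear_combination e - (c : E) * h2⟩
  by_cases h3 : (⟨_, hN⟩ : fixF σ) ∈ f.range
  · obtain ⟨c, hc⟩ := h3
    have e : (c * c + c : E) = θ * σ θ := congrArg Subtype.val hc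
    have fc : σ (c : E) = c := c.2
    have : (θ - c) * (σ θ - c) = 0 := by linear_combination e - c * hθ + (θ * σ θ - c) * h2
    rcases mul_eq_zero.1 this with e | e <;> rw [sub_eq_zero] at e
    · rw [e, fc] at hθ
      exact absurd (by linear_combination c * h2 - hθ : (1 : E) = 0) one_ne_zero
    · rw [← h.ss θ, e, fc, fc] at hθ
      exact absurd (by linear_combination c * h2 - hθ : (1 : E) = 0) one_ne_zero
  obtain ⟨c, hc⟩ := (AddSubgroup.add_mem_iff_of_index_two hk).2 (iff_of_false h1 h3)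
  have e : (c * c + c : E) = β + θ * σ θ := congrArg Subtype.val hc
  exact ⟨c + θ, by linear_combination e + θ * hθ + (c * θ - c) * h2⟩

end Cfsg.Lib.SU4
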