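import Cfsg.Agent.SU4.M1
import Cfsg.Agent.SU4.M1n
import Cfsg.Agent.SU4.M2A
import Cfsg.Agent.SU4.SY0
import Cfsg.Agent.Chev.MultSU
import Cfsg.Agent.Chev.MultSL

/-!
# Systems of type `²A₃`: central extensions, field automorphisms and diagonal systems
-/

set_option autoImplicit false
set_option linter.unusedSectionVars false

namespace Cfsg.Lib.SU4

open Subgroup Cfsg.Lib.Trans Cfsg.Lib.Gold
open scoped commutatorElement MatrixGroups

variable {G E : Type*} [Group G] [Finite G] [Field E] [Finite E] {σ : E ≃+* E}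
  {x : ZMod 8 → E → G}

namespace M1s

theorem inj {P H : Type*} [Group P] [Group H] (hm : HasCyclicSchurMultiplier P 1) (π : H →* P)
    (hs : Function.Surjective π) (hk : π.ker ≤ center H) (hp : commutator H = ⊤) :
    Function.Injective π := by
  obtain ⟨ρ, hρ⟩ := Solv.exists_surjective_ker_of_hasSchurMultiplier hm π
    ⟨hs, hk, le_top.trans hp.ge⟩
  have : Subsingleton (Multiplicative (ZMod 1)) := inferInstanceAs (Subsingleton (Fin 1))
  have := hρ.subsingleton
  exact (MonoidHom.ker_eq_bot_iff π).1 (eq_bot_of_subsingleton _)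

theorem top_of_perf {Γ : Type*} [Group Γ] {M : Subgroup Γ} (h : ⁅M, M⁆ = M) :
    commutator M = ⊤ :=
  map_injective M.subtype_injective (by
    rw [map_subtype_commutator, h, ← MonoidHom.range_eq_map, range_subtype])

theorem LL_top {Γ : Type*} [Group Γ] (w : ZMod 8 → E → Γ) :
    LL (fun i s => (⟨w i s, x_mem_LL i s⟩ : LL w)) = ⊤ :=
  map_injective (LL w).subtype_injective (by
    rw [← LL_map, ← MonoidHom.range_eq_map, range_subtype]; rfl)

theorem le_Cs {y z : ZMod 8 → E → G} (hc : ∀ i j s u, Commute (y i s) (z j u)) :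
    LL y ≤ Cs (LL z) :=
  LL_le.2 fun i s => mem_Cs.2 fun _ hb => mem_C1.1
    ((LL_le (H := C1 (y i s))).2 (fun j u => mem_C1.2 (hc i j s u).eq.symm) hb)

theorem sub (h : Sys σ x) {K : Subgroup G} (hK : ∀ i s, x i s ∈ K) :
    Sys σ fun i s => (⟨x i s, hK i s⟩ : K) := by
  obtain ⟨y, hy, e⟩ := h.pull K.subtype K.subtype_injective (by rw [range_subtype]; exact LL_le.2 hK)
  convert hy using 2 with i s
  exact funext fun s => Subtype.ext (e i s).symm

theorem map_X4 (τ : E ≃+* E) (i : ZMod 8) (s : E) :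
    Matrix.SpecialLinearGroup.map (τ : E →+* E) (X4 σ i s) = X4 σ i (τ s) := by
  have h1 : ra i ≠ rb i := by revert i; decide
  have h2 : (rb i).rev ≠ (ra i).rev := fun e => h1 (Fin.rev_injective e).symm
  have h3 : σ (τ s) = τ s ↔ σ s = s := by rw [← aut_σ, τ.injective.eq_iff]
  rw [X4, xe, xe]
  by_cases h4 : Ev i
  · rw [if_pos h4, if_pos h4, map_mul, Chev.map_slE _ h1, Chev.map_slE _ h2, ← aut_σ]; rfl
  · rw [if_neg h4, if_neg h4]
    by_cases h5 : σ s = s
    · rw [if_pos h5, if_pos (h3.2 h5), Chev.map_slE _ h1]; rfl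
    · rw [if_neg h5, if_neg (mt h3.1 h5), map_one]

end M1s

open M1s

theorem Sys.stem {H : Type*} [Group H] [Finite H] (h : Sys σ x) (π : H →* G)
    (hr : π.range = LL x) (hk : π.ker ≤ center H) (hp : commutator H = ⊤) :
    Function.Injective π := by
  have := Fintype.ofFinite E
  obtain ⟨e⟩ := h.equiv
  obtain ⟨n, hn, hq⟩ := h.qd.two_pow
  have hm := Chev.multiplier_PSU (Fintype.card_eq_nat_card.trans h.qd.card) (n := 4) (by omega)
    (by omega) fun _ => h.four
  have hg : Nat.gcd 4 (qn σ + 1) = 1 :=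
    Nat.Coprime.pow_left 2 (Nat.coprime_two_left.2
      (hq ▸ (Nat.even_pow.2 ⟨even_two, by omega⟩).add_one))
  rw [hg] at hm
  let ρ := π.codRestrict (LL x) fun g => hr ▸ ⟨g, rfl⟩
  have := M1s.inj hm (e.toMonoidHom.comp ρ) (e.surjective.comp fun l => by
    obtain ⟨g, hg⟩ := hr.ge l.2
    exact ⟨g, Subtype.ext hg⟩)
    (fun g hg => hk (congrArg Subtype.val (e.map_eq_one_iff.1 (show e (ρ g) = 1 from hg)))) hp
  exact fun a b k => this (congrArg e (Subtype.ext k : ρ a = ρ b))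

theorem sl_stem {H : Type*} [Group H] [Finite H] (h : Qd σ) (π : H →* SL(4, E))
    (hr : Function.Surjective π) (hk : π.ker ≤ center H) (hp : commutator H = ⊤) :
    Function.Injective π := by
  obtain ⟨n, hn, hq⟩ := h.two_pow
  refine inj (Chev.multiplier_SL_of_three_le (by omega) (by omega) fun _ e => ?_) π hr hk hp
  rw [h.card, hq, ← pow_mul] at e
  have := Nat.pow_right_injective le_rfl (e.trans (pow_one 2).symm)
  omega

theorem U4S.perf (h : U4S σ x) (hq : Qd σ) : ⁅LL x, LL x⁆ = LL x := by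
  have k : ∀ i, Ev i → ∀ s, x (i + 1) s ∈ ⁅LL x, LL x⁆ := fun i hi s => by
    by_cases hs : σ s = s
    · obtain ⟨u, rfl⟩ := hq.T_surj hs
      have e := h.c2s i hi 1 u
      rw [map_one, one_mul, one_mul] at e
      rw [show x (i + 1) (u + σ u) = ⁅(x (i + 2) u)⁻¹, x i 1⁆ by
        rw [eq_inv_mul_iff_mul_eq.2 e.symm]; group]
      exact commutator_mem_commutator (inv_mem (x_mem_LL _ _)) (x_mem_LL _ _)
    · rw [h.junk _ (fun e => ev_succ.1 e hi) s hs]
      exact one_mem _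
  refine le_antisymm (commutator_le.2 fun a ha b hb =>
    mul_mem (mul_mem (mul_mem ha hb) (inv_mem ha)) (inv_mem hb)) (LL_le.2 fun j s => ?_)
  by_cases hj : Ev j
  · obtain ⟨i, hi, rfl⟩ := (by decide : ∀ j, Ev j → ∃ i, Ev i ∧ j = i + 2) j hj
    have e := h.c3p i hi (σ s) 1 (map_one σ)
    rw [h.ss, mul_one, mul_assoc (x (i + 3) 1)] at e
    refine (mul_mem_cancel_right (k i hi (σ s * s * 1))).1 ?_
    rw [show x (i + 2) s * x (i + 1) (σ s * s * 1) = ⁅(x (i + 3) 1)⁻¹, x i (σ s)⁆ by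
      rw [eq_inv_mul_iff_mul_eq.2 e.symm]; group]
    exact commutator_mem_commutator (inv_mem (x_mem_LL _ _)) (x_mem_LL _ _)
  · obtain ⟨i, hi, rfl⟩ := (by decide : ∀ j, ¬ Ev j → ∃ i, Ev i ∧ j = i + 1) j hj
    exact k i hi s

theorem Sys.of_diag {y z : ZMod 8 → E → G} (h : Sys σ x) (hy : U4S σ y) (hz : U4S σ z)
    (hc : ∀ i j s u, Commute (y i s) (z j u)) (e : ∀ i s, x i s = y i s * z i s)
    (ne : y 1 1 ≠ 1) : Sys σ y := by
  let w : ZMod 8 → E → G × G := fun i s => (y i s, z i s)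
  have hw : U4S σ w := by
    simpa using (hy.map (MonoidHom.inl G G)).mul (hz.map (MonoidHom.inr G G))
      fun i j s u => MonoidHom.commute_inl_inr _ _
  have hle : LL w ≤ (LL y).prod (LL z) := LL_le.2 fun i s => ⟨x_mem_LL i s, x_mem_LL i s⟩
  have k : ∀ a b : LL w, b.1.2 * a.1.1 = a.1.1 * b.1.2 := fun a b =>
    mem_Cs.1 (le_Cs hc (hle a.2).1) _ (hle b.2).2
  let μ : LL w →* G := MonoidHom.mk' (fun g => g.1.1 * g.1.2) fun a b => by
    change a.1.1 * b.1.1 * (a.1.2 * b.1.2) = _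
    rw [mul_assoc, mul_assoc, ← mul_assoc b.1.1, ← k, mul_assoc]
  have hr : μ.range = LL x := by
    rw [MonoidHom.range_eq_map, ← LL_top, ← LL_map, funext₂ e]; rfl
  have hi := h.stem μ hr (fun a ha => mem_center_iff.2 fun b => Subtype.ext (Prod.ext ?_ ?_))
    (top_of_perf (hw.perf h.qd))
  · obtain ⟨v, hv, ev⟩ := h.pull μ hi hr.ge
    obtain rfl : v = fun i s => ⟨w i s, x_mem_LL i s⟩ :=
      funext₂ fun i s => hi ((ev i s).trans (e i s))
    exact hv.map' ((MonoidHom.fst G G).comp (LL w).subtype) ne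
  · change b.1.1 * a.1.1 = a.1.1 * b.1.1
    rw [eq_inv_of_mul_eq_one_left (show a.1.1 * a.1.2 = 1 from ha)]
    exact (Commute.inv_left (k b a)).eq.symm
  · change b.1.2 * a.1.2 = a.1.2 * b.1.2
    rw [eq_inv_of_mul_eq_one_right (show a.1.1 * a.1.2 = 1 from ha)]
    exact (Commute.inv_right (k a b)).eq

theorem Sys.lift {H : Type*} [Group H] [Finite H] (h : Sys σ x) (π : H →* G) {K : Subgroup H}
    (hK : K ≤ Cs π.ker) (hle : LL x ≤ K.map π) :
    ∃ y : ZMod 8 → E → H, Sys σ y ∧ LL y ≤ K ∧ ∀ i s, π (y i s) = x i s := by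
  have hc : ∀ {M : Subgroup H}, M ≤ K → (π.comp M.subtype).ker ≤ center M := fun hM a ha =>
    mem_center_iff.2 fun b => Subtype.ext (mem_Cs.1 (hK (hM b.2)) _ ha).symm
  have h1 : (K ⊓ (LL x).comap π).map π = LL x :=
    le_antisymm (map_le_iff_le_comap.2 inf_le_right) fun l hl => by
      obtain ⟨g, hg, rfl⟩ := hle hl
      exact ⟨g, ⟨hg, hl⟩, rfl⟩
  generalize hM : ⁅K ⊓ (LL x).comap π, K ⊓ (LL x).comap π⁆ = M
  have h2 : M.map π = LL x := by rw [← hM, map_commutator, h1, h.perf]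
  have h3 : M ≤ K := hM ▸ commutator_le.2 fun a ha b hb =>
    mul_mem (mul_mem (mul_mem ha.1 hb.1) (inv_mem ha.1)) (inv_mem hb.1)
  have h4 : ⁅M, M⁆ = M := le_antisymm (commutator_le.2 fun a ha b hb =>
    mul_mem (mul_mem (mul_mem ha hb) (inv_mem ha)) (inv_mem hb))
    (hM.ge.trans (commutator_le.2 fun a ha b hb => by
      obtain ⟨a', ha', ea⟩ := h2.ge ha.2
      obtain ⟨b', hb', eb⟩ := h2.ge hb.2
      rw [← show ⁅a', b'⁆ = ⁅a, b⁆ from congrArg Subtype.val
        (Solv.commutatorElement_eq_of_central _ (hc le_rfl) (x := ⟨a', h3 ha'⟩) (y := ⟨b', h3 hb'⟩)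
          (x' := ⟨a, ha.1⟩) (y' := ⟨b, hb.1⟩) ea eb)]
      exact commutator_mem_commutator ha' hb'))
  have hr : (π.comp M.subtype).range = LL x := by rw [MonoidHom.range_comp, range_subtype, h2]
  obtain ⟨y, hy, e⟩ := h.pull _ (h.stem _ hr (hc h3) (top_of_perf h4)) hr.ge
  exact ⟨_, hy.map M.subtype_injective, LL_le.2 fun i s => h3 (y i s).2, e⟩

theorem Sys.tau (h : Sys σ x) (τ : E ≃+* E) : Sys σ fun i s => x i (τ s) := by
  have h0 := sys_X4 h.qd h.four
  have h1 := h0.map' (Matrix.SpecialLinearGroup.map (τ : E →+* E))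
    (by rw [map_X4, map_one]; exact h0.x_ne 1)
  simp only [map_X4] at h1
  obtain ⟨φ, hφ, e⟩ := h.mod
  simpa only [e] using (sub h1 (K := LL (X4 σ)) fun i s => x_mem_LL i _).map hφ

theorem Sys.diag {y z : ZMod 8 → E → G} (hy : Sys σ y) (hz : Sys σ z)
    (hc : ∀ i j s u, Commute (y i s) (z j u)) (τ : E ≃+* E) : Sys σ (dg y z τ) := by
  obtain ⟨e, he⟩ := hy.iso (hz.tau τ)
  have hl := le_Cs (z := fun i s => z i (τ s)) fun i j s u => hc i j s (τ u)
  let μ : LL y →* G := MonoidHom.mk' (fun g => g.1 * (e g).1) fun a b => by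
    rw [map_mul, coe_mul, coe_mul, mul_assoc, mul_assoc, ← mul_assoc b.1,
      ← mem_Cs.1 (hl b.2) _ (e a).2, mul_assoc]
  have k : ∀ i s, μ ⟨y i s, x_mem_LL i s⟩ = dg y z τ i s := fun i s =>
    congrArg (fun l : LL _ => y i s * l.1) (he i s)
  have := (sub hy x_mem_LL).map' μ fun e1 => hy.x_ne 1 (mem_bot.1 (hy.cent.le ⟨x_mem_LL _ _, by
    rw [eq_inv_of_mul_eq_one_left ((k 1 1).symm.trans e1)]
    exact (Cs _).inv_mem (le_Cs_comm.1 hl (x_mem_LL 1 1))⟩))
  simpa only [k] using this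

end Cfsg.Lib.SU4
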