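import Cfsg.Agent.SU4.EFa
import Cfsg.Agent.SU4.UFT

/-!
# Standard subgroups of type `U₄(2ⁿ)`: the field case, the Sylow subgroup
-/

set_option autoImplicit false
set_option linter.unusedSectionVars false

namespace Cfsg.Lib.SU4

open Subgroup Cfsg.Lib.Trans Cfsg.Lib.Gold
open Cfsg.Lib.SG2 (Uq Top)
open scoped commutatorElement MatrixGroups

variable {G E : Type*} [Group G] [Finite G] [Field E] [Finite E] {σ : E ≃+* E}
  {x : ZMod 8 → E → G} {t : G} {φ : SL(4, E) →* G} {X : Subgroup G}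

open EFa

namespace EFf

theorem mul0 {m m' : G} {τ τ' : E ≃+* E} {b : Bool} (h : Th φ m τ b) (h' : Th φ m' τ' b) :
    Th φ (m * m') (τ * τ') false := by
  have := h.mul h'
  rwa [Bool.xor_self] at this

/-- Elements inducing no graph automorphism. -/
def T0 (φ : SL(4, E) →* G) : Subgroup G where
  carrier := {m | ∃ τ, Th φ m τ false}
  one_mem' := ⟨1, Th.one⟩
  mul_mem' := fun ⟨_, h⟩ ⟨_, h'⟩ => ⟨_, mul0 h h'⟩
  inv_mem' := fun ⟨_, h⟩ => ⟨_, h.inv⟩

/-- Elements inducing the square of the automorphism of an element of `X`. -/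
def N0 (φ : SL(4, E) →* G) (X : Subgroup G) : Subgroup G where
  carrier := {m | ∃ m' ∈ X, ∃ τ b, Th φ m' τ b ∧ Th φ m (τ * τ) false}
  one_mem' := ⟨1, X.one_mem, 1, false, Th.one, by rw [mul_one]; exact Th.one⟩
  mul_mem' := by
    rintro _ _ ⟨m, hm, τ, b, h1, h2⟩ ⟨m', hm', τ', b', h1', h2'⟩
    refine ⟨_, X.mul_mem hm hm', _, _, h1.mul h1', ?_⟩
    rw [mul_assoc, ← mul_assoc τ', aut_comm τ' τ, mul_assoc, ← mul_assoc]
    exact mul0 h2 h2'
  inv_mem' := by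
    rintro _ ⟨m, hm, τ, b, h1, h2⟩
    exact ⟨_, X.inv_mem hm, _, _, h1.inv, by rw [← mul_inv_rev]; exact h2.inv⟩

theorem notX (h : EF σ x t φ) (hX : Top X t) : t ∉ X := by
  intro ht
  have ex := fun m hm => exists_Th (m := m) h.qd h.inj hm
  have hT : X = ⊤ := by rw [← hX.top, sup_eq_left.2 (zpowers_le.2 ht)]
  obtain ⟨S, hS, hSt⟩ := exists_isSylowIn_ge (Comp.Tw.of_sq h.t2).isPGroup (le_top (a := zpowers t))
  have hM : S ≤ Ns φ.range := h.uq.two_le (th_t h).mem hS.isPGroup (hSt (mem_zpowers t))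
  obtain ⟨a, h1, ⟨τ, h2⟩, -⟩ := thompson_transfer_involution (H := S) (T := T0 φ)
    (by simpa using hS.not_dvd)
    (fun u hu v hv => by
      obtain ⟨_, _, h1⟩ := ex u (hM hu)
      obtain ⟨_, _, h2⟩ := ex v (hM hv)
      exact ⟨1, h1.comm h2⟩)
    (fun u hu => by
      obtain ⟨k, hk⟩ := Comp.Tw.of_mem hS.isPGroup hu
      exact ⟨k, by rw [hk]; exact one_mem _⟩)
    t (Bender.orderOf_eq_two h.t1 h.t2)
    (fun u hu v hv _ _ un vn => by
      obtain ⟨_, b, h1⟩ := ex u (hM hu)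
      obtain ⟨_, b', h2⟩ := ex v (hM hv)
      cases b
      · exact absurd ⟨_, h1⟩ un
      cases b'
      · exact absurd ⟨_, h2⟩ vn
      exact ⟨_, mul0 h1 h2⟩)
    (mem_sup_left (by rw [_root_.commutator_def, ← hT, hX.perf]; exact ht)) ⊥ IsPGroup.of_bot
    (fun r hr => by rw [mem_bot.1 hr, one_mul, mul_one])
  obtain ⟨ρ, b, hρ⟩ := ex _ (h.uq a⁻¹ (by rw [inv_inv]; exact hM h1))
  have := (th_t h).conj hρ
  rw [inv_inv] at this
  exact Bool.noConfusion (this.uniq h.qd h.inj h2).2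

theorem le (h : EF σ x t φ) (hX : Top X t) : φ.range ≤ X := by
  rw [MonoidHom.range_eq_map, ← sl_perf h.qd, _root_.commutator_def, map_commutator]
  exact commutator_le.2 fun a _ b _ => hX.ef_comm h.t2 a b

theorem KC (h : EF σ x t φ) (hX : Top X t) : φ.range ⊔ Cs φ.range ≤ X :=
  sup_le (le h hX) fun _ hc => hX.ef_odd h.t2 (odd_orderOf_of_mem hc (odd h))

theorem root (h : EF σ x t φ) (hX : Top X t) {m : G} (hm : m ∈ X) {τ : E ≃+* E} {b : Bool}
    (hτ : Th φ m τ b) : b = false ∧ ∃ m' ∈ X, ∃ τ' b', Th φ m' τ' b' ∧ τ' * τ' = τ := by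
  have ex := fun m hm => exists_Th (m := m) h.qd h.inj hm
  obtain ⟨k, hk, e⟩ := h.conj_t (Comp.conj_sq h.t2 m) ((th_t h).conj hτ)
  obtain ⟨m', hm', τ', b', h1, h2⟩ := uft (N := N0 φ X) hX h.t2 (notX h hX) (th_t h).mem h.uq
    (fun a ha c hc => by
      obtain ⟨_, _, h1⟩ := ex a ha.1
      obtain ⟨_, _, h2⟩ := ex c hc.1
      exact ⟨1, X.one_mem, 1, false, Th.one, by rw [mul_one]; exact h1.comm h2⟩)
    (fun a ha hn => by
      obtain ⟨ρ, c, h1⟩ := ex a ha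
      refine ⟨_, (hX.ef_or h.t2 a).resolve_left hn, _, _, h1.mul (th_t h), ?_⟩
      rw [mul_assoc, ← mul_assoc σ, aut_comm σ ρ, mul_assoc, h.qd.mul_self, mul_one]
      exact mul0 h1 h1)
    (show k * m ∈ X ⊓ C1 t from ⟨mul_mem (KC h hX hk) hm, mem_C1.2 (by
      conv_rhs => rw [← e]
      group)⟩)
  have := ((one_iff.2 hk).mul hτ).uniq h.qd h.inj h2
  rw [one_mul, Bool.false_xor] at this
  exact ⟨this.2, m', hm', τ', b', h1, this.1.symm⟩

theorem two (h : EF σ x t φ) (hX : Top X t) {g : G} (hg : g ∈ X ⊓ Ns φ.range)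
    (h2 : Comp.Tw g) : g ∈ φ.range := by
  have : Finite (E ≃+* E) := DFunLike.finite _
  let S := {τ : E ≃+* E // ∃ m ∈ X, ∃ b, Th φ m τ b}
  let f : S → S := fun τ => ⟨τ.1 * τ.1, by
    obtain ⟨m, hm, b, h⟩ := τ.2
    exact ⟨_, mul_mem hm hm, _, h.mul h⟩⟩
  have hf : Function.Injective f := Finite.injective_iff_surjective.2 fun ⟨τ, m, hm, b, h1⟩ => by
    obtain ⟨-, m', hm', τ', b', h2, e⟩ := root h hX hm h1
    exact ⟨⟨τ', m', hm', b', h2⟩, Subtype.ext e⟩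
  have key : ∀ k : ℕ, ∀ m ∈ X, m ^ 2 ^ k = 1 → ∀ τ b, Th φ m τ b → τ = 1 := by
    intro k
    induction k with
    | zero =>
      intro m _ e τ b h1
      rw [pow_zero, pow_one] at e
      rw [e] at h1
      exact (h1.uniq h.qd h.inj Th.one).1
    | succ k ih =>
      intro m hm e τ b h1
      have := ih _ (mul_mem hm hm) (by rwa [← pow_two, ← pow_mul, ← pow_succ']) _ _ (h1.mul h1)
      exact congrArg Subtype.val (hf (a₁ := ⟨τ, m, hm, b, h1⟩)
        (a₂ := ⟨1, 1, X.one_mem, false, Th.one⟩) (Subtype.ext (this.trans (mul_one 1).symm)))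
  obtain ⟨τ, b, hτ⟩ := exists_Th h.qd h.inj hg.2
  obtain ⟨k, hk⟩ := h2
  obtain rfl := key k g hg.1 hk τ b hτ
  obtain rfl := (root h hX hg.1 hτ).1
  obtain ⟨l, hl, c, hc, rfl⟩ := (SG2.mem_sup_Cs (le_Cs_comm.1 le_rfl)).1 (one_iff.1 hτ)
  have hlc : Commute l c := mem_Cs.1 hc l hl
  rw [hlc.mul_pow] at hk
  have hd : φ.range ⊓ Cs φ.range = ⊥ := eq_bot_iff.2 (by
    rintro _ ⟨⟨a, rfl⟩, ha⟩
    rw [mem_bot.1 ((sl_center h.qd).le (mem_center_iff.2 fun g => h.inj (by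
      rw [map_mul, map_mul]; exact mem_Cs.1 ha _ ⟨g, rfl⟩) : a ∈ center _)), map_one]
    exact one_mem _)
  have h3 := (SG2.eq_one_of_mul hd (pow_mem hl _) (pow_mem hc _) hk).2
  obtain rfl : c = 1 := eq_one_of_mem_of_odd (Comp.Tw.isPGroup ⟨k, h3⟩) (odd h) (mem_zpowers c) hc
  rwa [mul_one]

end EFf

open EFf in
theorem EF.eq (h : EF σ x t φ) (hX : Top X t) : φ.range = X := by
  have hs := (sl_syl h.qd).map φ
  rw [← MonoidHom.range_eq_map] at hs
  refine sl_ident h.qd hX.simple h.inj (le h hX) ?_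
  obtain ⟨P, hP, -⟩ := exists_isSylowIn_ge hs.isPGroup (hs.le.trans (le h hX))
  obtain ⟨k, -, hk⟩ := h.uq.conj_le (th_t h).mem h.t2 (Y := ⊤) trivial hP.isPGroup le_top
  have h1 : cj k P ≤ φ.range := fun g hg => two h hX
    ⟨cj_le_iff.2 (fun p hp => hX.normal.conj_mem _ (hP.le hp) k) hg, hk hg⟩
    (Comp.Tw.of_mem (isPGroup_cj hP.isPGroup k) hg)
  refine hP.of_card_ge hs.isPGroup (hs.le.trans (le h hX)) ?_
  rw [← card_cj k P]
  exact hs.card_le (isPGroup_cj hP.isPGroup k) h1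

end Cfsg.Lib.SU4
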