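import Cfsg.Agent.SU4.P1a
import Cfsg.Agent.SU4.M3b
import Cfsg.Agent.SU4.M2
import Cfsg.Agent.SU4.M1n
import Cfsg.Agent.SG2.P3

/-!
# Standard subgroups of type `U₄(2ⁿ)`: phase 4b, the algebra `EK β`
-/

set_option autoImplicit false
set_option linter.unusedSectionVars false

namespace Cfsg.Lib.SU4

open Subgroup Cfsg.Lib.Trans Cfsg.Lib.Gold
open scoped commutatorElement

variable {G E : Type*} [Group G] [Finite G] [Field E] [Finite E] {σ : E ≃+* E}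
  {x : ZMod 8 → E → G} {t g p : G} {Y : ZMod 8 → E → E → G}

namespace P4b

/-- Coordinates on `X̃₀`. -/
def Y0 (σ : E ≃+* E) (x : ZMod 8 → E → G) (Y : ZMod 8 → E → E → G) (a b : E) : G :=
  nn σ x 3 1 * Y 2 (σ a) (σ b) * (nn σ x 3 1)⁻¹

theorem cjc {n a b c : G} (h : Commute n c) (e : a * b * a⁻¹ = b * c) :
    n * a * n⁻¹ * (n * b * n⁻¹) * (n * a * n⁻¹)⁻¹ = n * b * n⁻¹ * c := by
  calc _ = n * (a * b * a⁻¹) * n⁻¹ := by group
    _ = n * b * n⁻¹ * (n * c * n⁻¹) := by rw [e]; group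
    _ = _ := by rw [h.eq, mul_inv_cancel_right]

theorem cjc' {n a b c : G} (e : a * b * a⁻¹ = b * c) :
    n * a * n⁻¹ * (n * b * n⁻¹) * (n * a * n⁻¹)⁻¹ = n * b * n⁻¹ * (n * c * n⁻¹) := by
  calc _ = n * (a * b * a⁻¹) * n⁻¹ := by group
    _ = _ := by rw [e]; group

variable (h : H4a σ x t Y)
include h

theorem cPA (hp : p ∈ PA x) (hg : g ∈ RT x t 1) : Commute p g :=
  mem_centralizer_iff.1 (h.cP hg) p ⟨PA_le_LL hp, mem_centralizer_iff.2 fun _ hr =>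
    (mem_centralizer_iff.1 (h.s.R_le_Cs hr) p hp).symm⟩

theorem n3P : nn σ x 3 1 ∈ PA x := SL_le_PA (nn_mem_SL 3 1)

theorem y1 {a b : E} (ha : σ a = a) (hb : σ b = b) : Y 1 a b ∈ RT x t 1 :=
  (h.meml 1 (.inl rfl) _).2 ⟨a, b, ha, hb, rfl⟩

theorem y2 (a b : E) : Y 2 a b ∈ VT x t := ((h.mem2 _).2 ⟨a, b, rfl⟩).1

theorem c2 (a b : E) (hg : g ∈ RT x t 1) : Commute (Y 2 a b) g := h.abV _ (y2 h a b) g (le_ncl' hg)

theorem c0 (a b : E) (hg : g ∈ RT x t 1) : Commute (Y0 σ x Y a b) g :=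
  ((cPA h (n3P h) hg).mul_left (c2 h _ _ hg)).mul_left (cPA h (n3P h) hg).inv_left

theorem sq0 (a b : E) : Y0 σ x Y a b * Y0 σ x Y a b = 1 := by
  rw [Y0, conj_mul, h.el _ (y2 h _ _)]; simp

theorem n20 (s : E) : nn σ x 3 1 * x 2 s * (nn σ x 3 1)⁻¹ = x 0 (σ s) := h.toSys.nn_one 3 2 s

theorem n02 (s : E) : nn σ x 3 1 * x 0 s * (nn σ x 3 1)⁻¹ = x 2 (σ s) := h.toSys.nn_one 3 0 s

theorem add0 (a b a' b' : E) : Y0 σ x Y (a + a') (b + b') = Y0 σ x Y a b * Y0 σ x Y a' b' := by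
  simp only [Y0, map_add, h.add2, conj_mul]

theorem res0 (a : E) : Y0 σ x Y a 0 = x 0 a := by
  rw [Y0, map_zero, h.res 2 (by simp), n20 h, h.s.ss]

theorem tn : Commute t (nn σ x 3 1) := (mem_C1.1 (h.toHyp.L_le (nn_mem_LL 3 1))).symm

theorem st0 (a b : E) : t * Y0 σ x Y a b * t⁻¹ = Y0 σ x Y (a + b) b := by
  rw [Y0, Y0, map_add, ← h.st2, ← mul_assoc, ← mul_assoc, (tn h).eq, mul_assoc, ← mul_inv_rev,
    (tn h).eq]
  group

theorem nY0 (a b : E) : nn σ x 3 1 * Y0 σ x Y a b * (nn σ x 3 1)⁻¹ = Y 2 (σ a) (σ b) := by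
  rw [Y0, h.toSys.nn_inv]
  simp only [mul_assoc, h.toSys.nn_sq, mul_one]
  rw [← mul_assoc, h.toSys.nn_sq, one_mul]

theorem nY2 (a b : E) : nn σ x 3 1 * Y 2 a b * (nn σ x 3 1)⁻¹ = Y0 σ x Y (σ a) (σ b) := by
  rw [Y0, h.s.ss, h.s.ss]

theorem a0 (c a b : E) : x 2 c * Y0 σ x Y a b * (x 2 c)⁻¹ =
    Y0 σ x Y a b * Y 1 (a * c + σ a * σ c) (b * c + σ b * σ c) := by
  have := cjc (cPA h (n3P h) (y1 h (h.s.fxT' _ _) (h.s.fxT' _ _))) (h.a2 (σ c) (σ a) (σ b))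
  rw [n02 h] at this
  simp only [h.s.ss] at this
  rw [add_comm (a * c), add_comm (b * c), mul_comm a, mul_comm b, mul_comm (σ a), mul_comm (σ b)]
  exact this

theorem cx0 (s a b : E) : Commute (Y0 σ x Y a b) (x 0 s) := by
  have := (h.abV _ (y2 h (σ a) (σ b)) _ (h.leV (NN_le_VV (X2_le_NN (x_mem_rt 2 (σ s)))))).conj
    (nn σ x 3 1)
  rwa [n20 h, h.s.ss] at this

theorem cx2 (s a b : E) : Commute (Y 2 a b) (x 2 s) :=
  h.abV _ (y2 h a b) _ (h.leV (NN_le_VV (X2_le_NN (x_mem_rt 2 s))))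

theorem t0 (u : E) : Y0 σ x Y 0 u * t * (Y0 σ x Y 0 u)⁻¹ = t * x 0 u :=
  swap_comm h.t2 (sq0 h 0 u) (cx0 h u 0 u) (by rw [st0 h, ← res0 h, ← add0 h, add_zero])

theorem t2' (u : E) : Y 2 0 u * t * (Y 2 0 u)⁻¹ = t * x 2 u :=
  swap_comm h.t2 (h.el _ (y2 h _ _)) (cx2 h u 0 u)
    (by rw [h.st2, ← h.res 2 (by simp), ← h.add2, add_zero])

theorem t1' {a u : E} (ha : σ a = a) (hu : σ u = u) : Y 1 a u * t * (Y 1 a u)⁻¹ = t * x 1 u :=
  swap_comm h.t2 (h.el _ (le_ncl' (y1 h ha hu))) (h.ab _ (y1 h ha hu) _ (h.le (x_mem_rt 1 u)))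
    (by rw [h.stl 1 (.inl rfl) _ _ ha hu, ← h.res 1 (by simp),
      ← h.addl 1 (.inl rfl) _ _ _ _ ha hu hu (map_zero σ), add_zero])

theorem inj1 {a b a' : E} (ha : σ a = a) (hb : σ b = b) (ha' : σ a' = a')
    (e : Y 1 a b = Y 1 a' b) : a = a' := by
  have k : ∀ a, σ a = a → Y 1 a b = x 1 a * Y 1 0 b := fun a ha => by
    rw [← h.res 1 (by simp), ← h.addl 1 (.inl rfl) _ _ _ _ ha (map_zero σ) (map_zero σ) hb,
      add_zero, zero_add]
  rw [k a ha, k a' ha', mul_left_inj] at e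
  exact h.s.x1_inj h.toSys.inj ha ha' e

theorem r02 (u c : E) : Y0 σ x Y 0 u * x 2 c * (Y0 σ x Y 0 u)⁻¹ =
    x 2 c * Y 1 0 (u * c + σ u * σ c) :=
  swap_comm (h.s.mul_self _ _) (sq0 h 0 u) (c0 h _ _ (y1 h (map_zero σ) (h.s.fxT' _ _)))
    (by simpa using a0 h c 0 u)

theorem r20 (u c : E) : Y 2 0 u * x 0 c * (Y 2 0 u)⁻¹ = x 0 c * Y 1 0 (c * u + σ c * σ u) :=
  swap_comm (h.s.mul_self _ _) (h.el _ (y2 h _ _)) (c2 h _ _ (y1 h (map_zero σ) (h.s.fxT' _ _)))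
    (by simpa using h.a2 c 0 u)

/-- the commutator of `X̃₀` and `X̃₂` lies in `R̃` -/
theorem comm (u u' : E) : ∃ r, σ r = r ∧ Y0 σ x Y 0 u * Y 2 0 u' * (Y0 σ x Y 0 u)⁻¹ =
    Y 2 0 u' * Y 1 r (u * u' + σ u * σ u') := by
  have fm := h.s.fxT' u u'
  have hρ := y1 h (map_zero σ) fm
  have e0 := r02 h u u'
  have e2 := r20 h u' u
  have f0 := t0 h u
  have f2 := t2' h u'
  have f1 := t1' h (map_zero σ) fm
  have k0 := fun g hg => c0 h (g := g) 0 u hg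
  have k2 := fun g hg => c2 h (g := g) 0 u' hg
  have s0 := sq0 h 0 u
  have s2 := h.el _ (y2 h 0 u')
  have o0 : ∀ o ∈ Ot x t, Commute (Y0 σ x Y 0 u) o := fun o ho =>
    have k : Commute (nn σ x 3 1) o := mem_centralizer_iff.1 (Ot_le ho).2 _ (nn_mem_LL 3 1)
    (k.mul_left (mem_centralizer_iff.1 (h.cOV (y2 h _ _)) o ho).symm).mul_left k.inv_left
  have wQ : ⁅Y0 σ x Y 0 u, Y 2 0 u'⁆ ∈ Cs (QQ x) := by
    have kk : ∀ g ∈ RT x t 1, Commute ⁅Y0 σ x Y 0 u, Y 2 0 u'⁆ g := fun g hg =>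
      (((k0 g hg).mul_left (k2 g hg)).mul_left (k0 g hg).inv_left).mul_left (k2 g hg).inv_left
    refine le_centralizer_iff.1 (sup_le (rt_le.2 fun s => ?_) (sup_le (rt_le.2 fun s => ?_)
      (rt_le.2 fun s => ?_)) : QQ x ≤ centralizer (zpowers ⁅Y0 σ x Y 0 u, Y 2 0 u'⁆)) (mem_zpowers _)
    all_goals
      refine mem_centralizer_iff.2 ?_
      rintro _ ⟨n, rfl⟩
      refine (Commute.zpow_left ?_ n).eq
    · exact SG2.P3.comm_of_shift (cx0 h s 0 u) (r20 h u' s) (k0 _ (y1 h (map_zero σ) (h.s.fxT' _ _)))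
        (k2 _ (y1 h (map_zero σ) (h.s.fxT' _ _)))
    · rw [← commutatorElement_inv]
      exact (SG2.P3.comm_of_shift (cx2 h s 0 u') (r02 h u s)
        (k2 _ (y1 h (map_zero σ) (h.s.fxT' _ _))) (k0 _ (y1 h (map_zero σ) (h.s.fxT' _ _)))).inv_left
    · exact kk _ (h.le (x_mem_rt 1 s))
  have q0 := cx0 h u 0 u
  have q2 := cx2 h u' 0 u'
  have q1 := h.s.r02 u u'
  have p0 := cPA h (QQ_le_PA (X0_le_QQ (x_mem_rt 0 u))) hρ
  have p2 := cPA h (QQ_le_PA (NN_le_QQ (X2_le_NN (x_mem_rt 2 u')))) hρ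
  have sρ := h.el _ (le_ncl' hρ)
  have hr : ∀ r, σ r = r → x 1 r * Y 1 0 (u * u' + σ u * σ u') = Y 1 r (u * u' + σ u * σ u') :=
    fun r hr => by
      rw [← h.res 1 (by simp), ← h.addl 1 (.inl rfl) _ _ _ _ hr (map_zero σ) (map_zero σ) fm,
        add_zero, zero_add]
  generalize Y0 σ x Y 0 u = g at *
  generalize Y 2 0 u' = g' at *
  generalize Y 1 0 (u * u' + σ u * σ u') = ρ at *
  have i0 := inv_eq_of_mul_eq_one_right s0
  have i2 := inv_eq_of_mul_eq_one_right s2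
  have et : ⁅g, g'⁆ * t * ⁅g, g'⁆⁻¹ = t * x 1 (u * u' + σ u * σ u') := by
    have a1 : g * (t * x 2 u') * g⁻¹ = t * x 0 u * x 2 u' * ρ := by
      rw [← conj_mul, f0, e0, ← mul_assoc]
    have a2 : g' * (t * x 0 u * x 2 u' * ρ) * g'⁻¹ = t * x 2 u' * x 0 u * x 2 u' := by
      rw [← conj_mul, ← conj_mul, ← conj_mul, f2, e2, q2.eq, (k2 ρ hρ).eq, mul_inv_cancel_right,
        mul_inv_cancel_right, ← mul_assoc, mul_assoc _ ρ, ← p2.eq, ← mul_assoc, mul_assoc _ ρ, sρ,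
        mul_one]
    have a3 : g * (t * x 2 u' * x 0 u * x 2 u') * g⁻¹ =
        t * (x 0 u * x 2 u' * (x 0 u)⁻¹ * x 2 u') := by
      rw [← conj_mul, ← conj_mul, a1, e0, q0.eq, mul_inv_cancel_right, mul_assoc _ ρ, ← p0.eq,
        h.s.inv]
      simp only [mul_assoc]
      rw [← mul_assoc ρ, ← p2.eq, mul_assoc, sρ, mul_one]
    calc _ = g * (g' * (g⁻¹ * (g'⁻¹ * t * g') * g) * g'⁻¹) * g⁻¹ := by
          simp only [commutatorElement_def]; group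
      _ = g * (g' * (g * (g' * t * g'⁻¹) * g⁻¹) * g'⁻¹) * g⁻¹ := by rw [i0, i2]
      _ = _ := by
        rw [f2, a1, a2, a3, q1, mul_assoc (x 2 u'), (h.s.c12 _ _).eq, ← mul_assoc (x 2 u'),
          h.s.mul_self, one_mul]
  have ct : Commute (ρ⁻¹ * ⁅g, g'⁆) t := by
    rw [Commute, SemiconjBy, ← mul_inv_eq_iff_eq_mul]
    calc _ = ρ⁻¹ * (⁅g, g'⁆ * t * ⁅g, g'⁆⁻¹) * ρ := by group
      _ = t := by rw [et, ← f1]; group
  obtain ⟨p, hp, hc⟩ := h.toSys.cQ (h.cn (mem_C1.2 ct)) (mul_mem (inv_mem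
    (mem_centralizer_iff.2 fun q hq => cPA h (QQ_le_PA hq) hρ)) wQ)
  obtain ⟨o, ho, e | e⟩ := h.toH1.split ct (rt_le_LL 1 hp) hc
  · have e1 : ⁅g, g'⁆ = ρ * p * o := by rw [mul_assoc, ← e, mul_inv_cancel_left]
    have e2 : g * ⁅g, g'⁆ * g⁻¹ = ⁅g, g'⁆⁻¹ := by
      rw [commutatorElement_inv, commutatorElement_def, commutatorElement_def, ← mul_assoc,
        ← mul_assoc, ← mul_assoc, s0, one_mul, mul_assoc _ g'⁻¹, i0]
      simp only [mul_assoc]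
    have hρp := mul_mem hρ (h.le hp)
    rw [e1, ((k0 _ hρp).mul_right (o0 o ho)).eq, mul_inv_cancel_right, eq_inv_iff_mul_eq_one,
      (Commute.symm (mem_centralizer_iff.1 (h.cO hρp) o ho).symm).mul_mul_mul_comm,
      h.el _ (le_ncl' hρp), one_mul, ← pow_two] at e2
    have e3 : o = 1 := by
      have := (odd_Ot ho).coprime_two_right.eq_one_of_dvd (orderOf_dvd_of_pow_eq_one e2)
      exact orderOf_eq_one_iff.1 this
    obtain ⟨r, fr, rfl⟩ := (h.s.mem_rtl (by decide)).1 hp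
    refine ⟨r, fr, ?_⟩
    rw [← hr r fr, (h.ab _ (h.le hp) _ hρ).eq, (k2 _ hρp).eq, ← mul_one (ρ * _), ← e3, ← e1,
      commutatorElement_def, inv_mul_cancel_right]
  · exfalso
    obtain ⟨k, hk, ek⟩ := h.onto 1
    have e1 : t = p⁻¹ * (ρ⁻¹ * ⁅g, g'⁆) * o⁻¹ := by rw [e]; group
    have e2 : Commute t k := by
      rw [e1]
      exact ((h.ab _ (h.le hp) _ hk).inv_left.mul_left ((h.ab _ hρ _ hk).inv_left.mul_left
        ((((k0 k hk).mul_left (k2 k hk)).mul_left (k0 k hk).inv_left).mul_left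
          (k2 k hk).inv_left))).mul_left
        (Commute.inv_left (mem_centralizer_iff.1 (h.cO hk) o ho))
    rw [← e2.eq, mul_inv_cancel_right, left_eq_mul] at ek
    exact h.toSys.x_ne 1 ek

theorem hc0 {k k' : G} (e : nn σ x 3 1 * k * (nn σ x 3 1)⁻¹ = k') {l : E}
    (hk : ∀ a b, k * Y 2 a b * k⁻¹ = Y 2 (l * a) (l * b)) (a b : E) :
    k' * Y0 σ x Y a b * k'⁻¹ = Y0 σ x Y (σ l * a) (σ l * b) := by
  rw [← e, Y0, Y0, map_mul, map_mul, h.s.ss, ← hk]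
  group

theorem h00 {e : E} (he : e * σ e = 1) (a b : E) :
    hh σ x 0 e * Y0 σ x Y a b * (hh σ x 0 e)⁻¹ = Y0 σ x Y (e ^ 2 * a) (e ^ 2 * b) := by
  have := hc0 h (mul_inv_eq_iff_eq_mul.2 (mem_centralizer_iff.1 (h.toSys.h0_SL he).1 _
    (nn_mem_SL 3 1))) (fun a b => h.h02 e a b he) a b
  rwa [map_pow, h.s.ss] at this

/-- the structure constant -/
theorem exβ : ∃ β, σ β = β ∧ ∀ u u', Y0 σ x Y 0 u * Y 2 0 u' * (Y0 σ x Y 0 u)⁻¹ =
    Y 2 0 u' * Y 1 (β * (u * u' + σ u * σ u')) (u * u' + σ u * σ u') := by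
  choose f f1 f2 using comm h
  have q := h.toSys.qd
  have key : ∀ u u' v v' r, σ r = r → Y0 σ x Y 0 v * Y 2 0 v' * (Y0 σ x Y 0 v)⁻¹ =
      Y 2 0 v' * Y 1 r (u * u' + σ u * σ u') → u * u' + σ u * σ u' = v * v' + σ v * σ v' →
      f v v' = r := fun u u' v v' r hr e e' => by
    rw [f2, mul_right_inj, e'] at e
    exact inj1 h (f1 _ _) (h.s.fxT' _ _) hr e
  have hy := fun u u' => y1 h (f1 u u') (h.s.fxT' u u')
  have a1 : ∀ e u u', e * σ e = 1 → f (e ^ 2 * u) (σ e ^ 2 * u') = f u u' := fun e u u' he => by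
    refine key u u' _ _ _ (f1 _ _) ?_ ?_
    · have := cjc (mem_centralizer_iff.1 (h.cP (hy u u')) (hh σ x 0 e) ⟨hh_mem_LL 0 e,
        centralizer_le (SetLike.coe_subset_coe.2 le_sup_left) (h.toSys.h0_SL he).2⟩) (f2 u u')
      rwa [h00 h he, h.h02 e _ _ he, mul_zero, mul_zero] at this
    · simp only [map_mul, map_pow, h.s.ss]
      linear_combination -(u * u' + σ u * σ u') * (e * σ e + 1) * he
  have a2 : ∀ c u u', σ c = c → c ≠ 0 → f u (c * u') = f (c * u) u' := fun c u u' fc hc => by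
    refine key (c * u) u' _ _ _ (f1 _ _) ?_ (by simp only [map_mul]; ring)
    have := cjc (cPA h (SL_le_PA (hh_mem_SL (σ := σ) 3 c)) (hy (c * u) u')) (f2 (c * u) u')
    have e := h.toSys.nn_hh 3 (inv_ne_zero hc) (.inr (by rw [map_inv₀, fc]))
    rw [inv_inv] at e
    rwa [hc0 h e (fun a b => h.h32 c⁻¹ a b (by rw [map_inv₀, fc]) (inv_ne_zero hc)),
      h.h32 c _ _ fc hc, mul_zero, mul_zero, map_inv₀, fc, inv_mul_cancel_left₀ hc] at this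
  have a3 : ∀ c u u', σ c = c → c ≠ 0 → f (c * u) (c * u') = c ^ 2 * f u u' := fun c u u' fc hc => by
    refine key (c * u) (c * u') _ _ _ (fx_mul (fx_pow fc 2) (f1 _ _)) ?_ rfl
    have := cjc' (n := hh σ x 1 c) (f2 u u')
    rw [hc0 h (mul_inv_eq_iff_eq_mul.2 (mem_centralizer_iff.1 (h.toSys.h1_SL hc fc) _
      (nn_mem_SL 3 1))) (fun a b => h.h12 c a b fc hc), h.h12 c _ _ fc hc,
      h.h11 c _ _ fc hc (f1 _ _) (h.s.fxT' _ _), fc, mul_zero] at this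
    convert this using 3
    simp only [map_mul, fc]; ring
  have a4 : ∀ u v v', f u (v + v') = f u v + f u v' := fun u v v' => by
    refine key u (v + v') _ _ _ (fx_add (f1 _ _) (f1 _ _)) ?_ rfl
    have e := h.add2 0 v 0 v'
    rw [add_zero] at e
    rw [e, ← conj_mul, f2, f2, show u * (v + v') + σ u * σ (v + v') =
      (u * v + σ u * σ v) + (u * v' + σ u * σ v') by rw [map_add]; ring,
      h.addl 1 (.inl rfl) _ _ _ _ (f1 _ _) (h.s.fxT' _ _) (f1 _ _) (h.s.fxT' _ _),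
      (c2 h 0 v' (hy u v)).symm.mul_mul_mul_comm]
  have a5 : ∀ u u', f (σ u') (σ u) = f u u' := fun u u' => by
    refine key u u' _ _ _ (f1 _ _) ?_ (by simp only [h.s.ss]; ring)
    have := cjc (cPA h (n3P h) (hy u u')) (f2 u u')
    rw [nY0 h, nY2 h, map_zero] at this
    exact swap_comm (h.el _ (y2 h _ _)) (sq0 h _ _) (c0 h _ _ (hy u u')) this
  have b0 : ∀ u, f u 0 = 0 := fun u => by simpa using a4 u 0 0
  have b1 : ∀ u u', f u u' = f 1 (u * u') := fun u u' => by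
    by_cases hu : u = 0
    · rw [hu, zero_mul, b0, ← a5, map_zero, b0]
    obtain ⟨c, e, fc, hc, he, rfl⟩ := q.polar hu
    rw [← a2 c _ _ fc hc, ← a1 e 1 _ he, mul_one]
    congr 1
    linear_combination -c * u' * (e * σ e + 1) * he
  have b2 : ∀ l v, σ l = l → f 1 (l * v) = l * f 1 v := fun l v fl => by
    by_cases hl : l = 0
    · rw [hl, zero_mul, zero_mul, b0]
    obtain ⟨c, rfl, fc⟩ := q.sqrt l
    rw [← a3 c 1 v (fc fl) (fun e => hl (by rw [e]; ring)), b1 (c * 1)]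
    congr 1; ring
  have b3 : ∀ v, σ v = v → f 1 v = 0 := fun v fv => by
    obtain ⟨s, rfl⟩ := q.T_surj fv
    rw [a4, ← a5 1 (σ s), h.s.ss, map_one, b1 s, mul_one, h.s.add_self]
  obtain ⟨θ, hθ⟩ := q.exists_th
  refine ⟨f 1 θ, f1 _ _, fun u u' => ?_⟩
  rw [f2, b1, ← map_mul]
  generalize u * u' = v
  have e1 : v = (v + (v + σ v) * θ) + (v + σ v) * θ := by rw [add_assoc, h.s.add_self, add_zero]
  have e2 : f 1 v = f 1 θ * (v + σ v) := by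
    rw [e1, a4, b3, zero_add, b2 _ _ (h.s.fxT v), ← e1, mul_comm]
    simp only [map_add, map_mul, h.s.ss]
    linear_combination (σ v + v) * hθ + (σ v - (v + σ v) * θ) * h.s.two
  rw [e2]

theorem c02 {β : E} (hβ : σ β = β) (e : ∀ u u', Y0 σ x Y 0 u * Y 2 0 u' * (Y0 σ x Y 0 u)⁻¹ =
    Y 2 0 u' * Y 1 (β * (u * u' + σ u * σ u')) (u * u' + σ u * σ u')) (a b a' b' : E) :
    Y0 σ x Y a b * Y 2 a' b' * (Y0 σ x Y a b)⁻¹ = Y 2 a' b' *
      Y 1 (a * a' + σ a * σ a' + (0 + β * (b * b' + σ b * σ b')))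
        (a * b' + σ a * σ b' + (b * a' + σ b * σ a' + (b * b' + σ b * σ b'))) := by
  have e0 : Y0 σ x Y a b = x 0 a * Y0 σ x Y 0 b := by rw [← res0 h, ← add0 h, add_zero, zero_add]
  have e2 : Y 2 a' b' = x 2 a' * Y 2 0 b' := by
    rw [← h.res 2 (by simp), ← h.add2, add_zero, zero_add]
  have k := fx_mul hβ (h.s.fxT' b b')
  have e3 : Y0 σ x Y 0 b * Y 2 a' b' * (Y0 σ x Y 0 b)⁻¹ = Y 2 a' b' *
      Y 1 (0 + β * (b * b' + σ b * σ b')) (b * a' + σ b * σ a' + (b * b' + σ b * σ b')) := by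
    rw [h.addl 1 (.inl rfl) _ _ _ _ (map_zero σ) (h.s.fxT' _ _) k (h.s.fxT' _ _), e2, ← conj_mul,
      r02 h, e, (c2 h 0 b' (y1 h (map_zero σ) (h.s.fxT' _ _))).symm.mul_mul_mul_comm]
  have k1 := fx_add (map_zero σ) k
  have k2 := fx_add (h.s.fxT' b a') (h.s.fxT' b b')
  rw [h.addl 1 (.inl rfl) _ _ _ _ (h.s.fxT' _ _) (h.s.fxT' _ _) k1 k2, ← mul_assoc, ← h.a2, e0]
  calc _ = x 0 a * (Y0 σ x Y 0 b * Y 2 a' b' * (Y0 σ x Y 0 b)⁻¹) * (x 0 a)⁻¹ := by group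
    _ = _ := by
      rw [e3, ← conj_mul, (cPA h (QQ_le_PA (X0_le_QQ (x_mem_rt 0 a))) (y1 h k1 k2)).eq,
        mul_inv_cancel_right]

end P4b

open P4b Classical in
theorem H4a.h4b (h : H4a σ x t Y) :
    ∃ (β : E) (hβ : σ β = β) (y : ZMod 8 → EK β → G), H4b σ x t hβ y := by
  obtain ⟨β, hβ, e⟩ := exβ h
  obtain ⟨y, y0, y2, yl, yj⟩ : ∃ y : ZMod 8 → EK β → G, (∀ k, y 0 k = Y0 σ x Y k.re k.im) ∧
      (∀ k, y 2 k = Y 2 k.re k.im) ∧
      (∀ i, i = 1 ∨ i = 3 → ∀ k, qb σ hβ k = k → y i k = Y i k.re k.im) ∧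
      ∀ i, i = 1 ∨ i = 3 → ∀ k, qb σ hβ k ≠ k → y i k = 1 :=
    ⟨fun i k => if i = 0 then Y0 σ x Y k.re k.im else if i = 2 ∨ qb σ hβ k = k then Y i k.re k.im
      else 1, fun k => if_pos rfl, fun k => (if_neg (by decide)).trans (if_pos (.inl rfl)),
      fun i hi k hk => (if_neg (by rcases hi with rfl | rfl <;> decide)).trans (if_pos (.inr hk)),
      fun i hi k hk => (if_neg (by rcases hi with rfl | rfl <;> decide)).trans (if_neg (by
        rintro (e | e)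
        · rcases hi with rfl | rfl <;> exact absurd e (by decide)
        · exact hk e))⟩
  have cs : ∀ i : ZMod 8, i.val ≤ 3 → i = 0 ∨ i = 2 ∨ (i = 1 ∨ i = 3) := by decide
  refine ⟨β, hβ, y, h.toH3, yj, ?_, fun i hi k m hk hm => ?_, fun i hi s => ?_, fun i hi k => ?_,
    fun i hi g => ?_, fun g => ?_, fun s m hm => ?_, fun k m => ?_, fun k => ?_, fun k => ?_,
    fun k => ?_, fun e k he => ?_, fun e k he => ?_⟩
  · rintro i (rfl | rfl) k m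
    · simp only [y0, QuadraticAlgebra.re_add, QuadraticAlgebra.im_add, add0 h]
    · simp only [y2, QuadraticAlgebra.re_add, QuadraticAlgebra.im_add, h.add2]
  · rw [yl i hi _ (by rw [map_add, hk, hm]), yl i hi k hk, yl i hi m hm]
    exact h.addl i hi _ _ _ _ (qb_fix.1 hk).1 (qb_fix.1 hk).2 (qb_fix.1 hm).1 (qb_fix.1 hm).2
  · rcases cs i hi with rfl | rfl | hi
    · rw [y0]; exact res0 h s
    · rw [y2]; exact h.res 2 (by simp) s
    · by_cases hs : σ s = s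
      · rw [yl i hi _ (by rw [qb_alg, hs])]
        exact h.res i (by tauto) s
      · rw [yj i hi _ fun e => hs (qb_fix.1 e).1,
          h.s.junk i (by rcases hi with rfl | rfl <;> decide) s hs]
  · rcases cs i hi with rfl | rfl | hi
    · simp [y0, st0 h, h.s.neg_eq]
    · simp [y2, h.st2, h.s.neg_eq]
    · by_cases hk : qb σ hβ k = k
      · rw [yl i hi _ hk, yl i hi _ (by rw [qb_star, hk]),
          h.stl i hi _ _ (qb_fix.1 hk).1 (qb_fix.1 hk).2]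
        simp [h.s.neg_eq]
      · rw [yj i hi _ hk, yj i hi _ fun e => hk (star_injective (by rw [← qb_star, e]))]
        simp
  · rw [h.meml i hi]
    constructor
    · rintro ⟨a, b, ha, hb, rfl⟩
      exact ⟨⟨a, b⟩, qb_fix.2 ⟨ha, hb⟩, (yl i hi ⟨a, b⟩ (qb_fix.2 ⟨ha, hb⟩)).symm⟩
    · rintro ⟨k, hk, rfl⟩
      exact ⟨_, _, (qb_fix.1 hk).1, (qb_fix.1 hk).2, yl i hi k hk⟩
  · rw [h.mem2]
    exact ⟨fun ⟨a, b, e⟩ => ⟨⟨a, b⟩, e.trans (y2 ⟨a, b⟩).symm⟩, fun ⟨k, e⟩ => ⟨_, _, e.trans (y2 k)⟩⟩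
  · rw [yl 3 (.inr rfl) m hm, y2, yl 1 (.inl rfl) _ (by rw [qb_smul, h.s.fxN, hm])]
    exact h.a3 s _ _ (qb_fix.1 hm).1 (qb_fix.1 hm).2
  · rw [y0, y2, c02 h hβ e, yl 1 (.inl rfl) _ (by
      rw [← map_mul, map_add, add_comm]
      congr 1
      ext <;> simp only [qb_re, qb_im, h.s.ss])]
    congr 2 <;> simp <;> ring
  · by_cases hk : qb σ hβ k = k
    · rw [yl 1 (.inl rfl) k hk, yl 3 (.inr rfl) k hk]
      exact h.n1 _ _ (qb_fix.1 hk).1 (qb_fix.1 hk).2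
    · rw [yj 1 (.inl rfl) k hk, yj 3 (.inr rfl) k hk]; simp
  · rw [y2, y2]; exact h.n2 _ _
  · rw [y2, y0]; exact nY2 h _ _
  · rw [y0, y0]; exact h00 h he _ _
  · rw [y2, y2]; exact h.h02 e _ _ he

end Cfsg.Lib.SU4
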