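import Cfsg.Agent.SU4.M1s
import Cfsg.Agent.SU4.M4
import Cfsg.Agent.SG2.Red

/-!
# Standard subgroups of type `U₄(2ⁿ)`: reduction to the case `G = X ⟨t⟩` with `X` simple
-/

set_option autoImplicit false
set_option linter.unusedSectionVars false

namespace Cfsg.Lib.SU4

open Subgroup Cfsg.Lib.Trans Cfsg.Lib.StdSz
open Cfsg.Lib.SG2 (Top eq_of_mapR le_of_simpleR mem_fourR)
open Cfsg.Lib.Gold hiding mem_Cs mem_C1
open scoped commutatorElement MatrixGroups

universe u v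

/-- The core theorem. -/
def CoreP : Prop := ∀ (G : Type u) (E : Type v) [Group G] [Finite G] [Field E] [Finite E]
  (σ : E ≃+* E) (x : ZMod 8 → E → G) (t : G) (X : Subgroup G), Hyp σ x t → Top X t → LL x ≠ X →
    (∃ φ : SL(4, E) →* G, Function.Injective φ ∧ φ.range = X) ∧
    ∃ g, Commute g (x 1 1) ∧ g * t * g⁻¹ = t * x 1 1

theorem CoreP_eq_1' : type_of% @CoreP.eq_1 := @CoreP.eq_1

section A

variable {G G' F : Type*} [Group G] [Group G'] [Finite G] [Finite G'] [Field F] [Finite F]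
  {σ : F ≃+* F}

theorem LL_mapR (x : ZMod 8 → F → G) (π : G →* G') :
    (LL x).map π = LL fun i s => π (x i s) := (LL_map π).symm

theorem Sys.neR {x : ZMod 8 → F → G} (h : Sys σ x) : x 1 1 ≠ 1 := fun e =>
  one_ne_zero (h.s.x1_inj h.inj σ.map_one σ.map_zero (e.trans (h.s.zero 1).symm))

theorem sl_liftR (h : Qd σ) (π : G →* G') {K : Subgroup G} (hp : ⁅K, K⁆ = K) (hK : K ≤ Cs π.ker)
    {φ : SL(4, F) →* G'} (a : Function.Injective φ) (b : φ.range = K.map π) :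
    ∃ ψ : SL(4, F) →* G, Function.Injective ψ ∧ ψ.range = K := by
  let ρ : K →* SL(4, F) := (MonoidHom.ofInjective a).symm.toMonoidHom.comp
    ((π.comp K.subtype).codRestrict _ fun k => b ▸ ⟨k, k.2, rfl⟩)
  have h1 : ∀ k, φ (ρ k) = π k := fun k => MonoidHom.apply_ofInjective_symm a _
  have h2 : Function.Surjective ρ := fun g => by
    obtain ⟨k, hk, e⟩ := b.le ⟨g, rfl⟩
    exact ⟨⟨k, hk⟩, a ((h1 _).trans e)⟩
  have h3 := sl_stem h ρ h2 (fun k hk => mem_center_iff.2 fun l => Subtype.ext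
    (mem_Cs.1 (hK l.2) k (by rw [MonoidHom.mem_ker, ← h1, MonoidHom.mem_ker.1 hk, map_one])).eq)
    (map_injective K.subtype_injective (by
      rw [_root_.commutator_def, map_commutator, ← MonoidHom.range_eq_map, range_subtype, hp]))
  let e := MulEquiv.ofBijective ρ ⟨h3, h2⟩
  exact ⟨K.subtype.comp e.symm.toMonoidHom, K.subtype_injective.comp e.symm.injective, by
    rw [MonoidHom.range_comp, MonoidHom.range_eq_top.2 e.symm.surjective, ← MonoidHom.range_eq_map,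
      range_subtype]⟩

theorem Sys.inf_oddR {x : ZMod 8 → F → G} (h : Sys σ x) {N : Subgroup G} [N.Normal]
    (hN : Odd (Nat.card N)) : LL x ⊓ N = ⊥ := by_contra fun e =>
  h.neR (StdU3.eq_one_of_odd_two hN (h.le_of_normal ((normalizer_eq_top N).ge.trans' le_top) e
    (x_mem_LL 1 1)) (k := 1) (by rw [pow_one, sq, h.s.mul_self]))

theorem Sys.qsR {x : ZMod 8 → F → G} (h : Sys σ x) : IsQuasisimple (LL x) :=
  haveI := h.simple
  isQuasisimple_of_isSimpleGroup h.not_comm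

variable {x : ZMod 8 → F → G} {t : G}

namespace Hyp

theorem t_memR (h : Hyp σ x t) : t ∈ Cs (LL x) :=
  mem_Cs.2 fun _ hl => mem_C1.1 (LL_le.2 (fun i s => mem_C1.2 (h.tc i s).symm) hl) |>.symm

theorem pullR {x : ZMod 8 → F → G'} {t : G'} (h : Hyp σ x t) (φ : G →* G')
    (hφ : Function.Injective φ) {x' : ZMod 8 → F → G} {t' : G} (h' : Sys σ x')
    (hx : ∀ i s, φ (x' i s) = x i s) (ht : φ t' = t) : Hyp σ x' t' := by
  have e : (LL x').map φ = LL x := by rw [LL_mapR]; simp only [hx]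
  refine ⟨h', hφ (by rw [map_mul, ht, h.t2, map_one]), fun e => h.t1 (by rw [← ht, e, map_one]),
    fun i s => hφ (by rw [map_mul, map_mul, ht, hx, (h.tc i s).eq]), fun g hg => ?_,
    fun P hP hle => ?_⟩
  · refine Comp.mem_Ns_of fun l hl => (mem_map_iff_mem hφ).1 ?_
    rw [map_mul, map_mul, map_inv, e]
    exact mem_normalizer_conj (h.cn (mem_C1.2 (ht ▸ (mem_C1.1 hg).map φ))) (e ▸ ⟨l, hl, rfl⟩)
  · have := h.cyc (P.map φ) (hP.map φ) (by
      rintro _ ⟨g, hg, rfl⟩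
      rw [← e, mem_Cs]
      rintro _ ⟨l, hl, rfl⟩
      exact (mem_Cs.1 (hle hg) l hl).map φ)
    exact isCyclic_of_surjective _ (P.equivMapOfInjective φ hφ).symm.surjective

theorem stdR (h : Hyp σ x t) : IsStandardSubgroup (LL x) := by
  have comp : ∀ y ∈ Cs (LL x), C1 y ≤ Ns (LL x) →
      LL x ≤ C1 y ∧ IsComponent ((LL x).subgroupOf (C1 y)) := fun y hy hN =>
    have h1 : LL x ≤ C1 y := fun l hl => mem_C1.2 (mem_Cs.1 hy l hl).symm
    ⟨h1, isSubnormal_subgroupOf_of_le_normalizer hN, (isQuasisimple_subgroupOf_iff h1).2 h.qsR⟩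
  have : Fact (Nat.Prime 2) := ⟨Nat.prime_two⟩
  obtain ⟨h1, h2⟩ := comp t h.t_memR h.cn
  refine Cfsg.Agent.S1306.result t (StdU3.orderOf_two_of h.t2 h.t1) _ h1 h2
    (fun y hy hyL => comp y hyL fun g hg => ?_) fun g _ hc => ?_
  · obtain ⟨T, hT, hle⟩ := exists_isSylowIn_ge (p := 2) (Comp.Tw.of_sq h.t2).isPGroup
      (zpowers_le.2 h.t_memR)
    have y2 := StdU3.sq_of_orderOf_two hy
    obtain ⟨c, hc, h3⟩ := hT.exists_cj_le (Comp.Tw.of_sq y2).isPGroup (zpowers_le.2 hyL)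
    have h4 : c * y * c⁻¹ = t := invol_eq_of_cyclic (h.cyc T hT.isPGroup hT.le)
      (cj_le_iff.1 h3 y (mem_zpowers y)) (hle (mem_zpowers t)) (Comp.conj_sq y2 c) h.t2
      (by rw [Ne, conj_eq_one_iff]; exact StdU3.ne_one_of_orderOf_two hy) h.t1
    have h5 := h.cn (mem_C1.2 (h4 ▸ StdSz.commute_conj (mem_C1.1 hg) c))
    have h6 : c ∈ Ns (LL x) := centralizer_le_normalizer _ hc
    exact (Subgroup.mul_mem_cancel_left _ h6).1
      ((Subgroup.mul_mem_cancel_right _ (inv_mem h6)).1 h5)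
  · have h3 : cj g (NN x) ≤ Cs (LL x) := (map_mono NN_le_LL).trans
      (commutator_eq_bot_iff_le_centralizer.1 (commutator_eq_bot_symm hc))
    have h4 : g * x 2 1 * g⁻¹ = g * x 1 1 * g⁻¹ :=
      invol_eq_of_cyclic (h.cyc _ ((h.syl.isPGroup.to_le (NN_le_VV.trans VV_le_UU)).map _) h3)
        (conj_mem_cj.2 (X2_le_NN (x_mem_rt _ _))) (conj_mem_cj.2 (R_le_NN (x_mem_rt _ _)))
        (Comp.conj_sq (h.s.mul_self _ _) g) (Comp.conj_sq (h.s.mul_self _ _) g)
        (by rw [Ne, conj_eq_one_iff, ← h.s.zero 2]; exact fun e => one_ne_zero (h.s.x2_inj h.inj e))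
        (by rw [Ne, conj_eq_one_iff]; exact h.neR)
    have h5 := mul_left_cancel (mul_right_cancel h4)
    rw [← h.s.vv_2, ← h.s.vv_1] at h5
    exact one_ne_zero (h.s.vv_inj h.inj σ.map_zero σ.map_zero σ.map_zero σ.map_one h5).2.1

variable {N : Subgroup G} [N.Normal]

theorem cs_of_mapR (h : Hyp σ x t) (hN : Odd (Nat.card N)) {c : G} (hct : Commute c t)
    (hc : (c : G ⧸ N) ∈ Cs ((LL x).map (QuotientGroup.mk' N))) : c ∈ Cs (LL x) :=
  mem_Cs.2 fun l hl => commutatorElement_eq_one_iff_commute.1 (mem_bot.1 (h.inf_oddR hN ▸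
    ⟨mul_mem (mem_normalizer_conj (h.cn (mem_C1.2 hct)) hl) ((LL x).inv_mem hl),
      (QuotientGroup.eq_one_iff _).1 (by
        change QuotientGroup.mk' N ⁅c, l⁆ = 1
        rw [map_commutatorElement, commutatorElement_eq_one_iff_commute]
        exact mem_Cs.1 hc _ ⟨l, hl, rfl⟩)⟩))

theorem quotR (h : Hyp σ x t) (hN : Odd (Nat.card N)) :
    Hyp σ (fun i s => QuotientGroup.mk' N (x i s)) (QuotientGroup.mk' N t) := by
  have : Fact (Nat.Prime 2) := ⟨Nat.prime_two⟩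
  have h1 : ∀ {a : G}, a * a = 1 → QuotientGroup.mk' N a = 1 → a = 1 := fun ha e =>
    StdU3.eq_one_of_odd_two hN ((QuotientGroup.eq_one_iff _).1 e) (k := 1) (by rw [pow_one, sq, ha])
  refine ⟨h.toSys.map' _ fun e => h.neR (h1 (h.s.mul_self _ _) e), by rw [← map_mul, h.t2, map_one],
    fun e => h.t1 (h1 h.t2 e), fun i s => (h.tc i s).map _, fun g hg => ?_, fun P hP hle => ?_⟩
  · obtain ⟨g, h2, rfl⟩ := StdU3.Hyp.lift hN h.t2 (mem_C1.1 hg)
    rw [← LL_mapR]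
    exact le_normalizer_map (QuotientGroup.mk' N) ⟨g, h.cn (mem_C1.2 h2), rfl⟩
  rw [← LL_mapR] at hle
  obtain ⟨T, hT, h2⟩ := exists_isSylowIn_ge (p := 2) (Comp.Tw.of_sq h.t2).isPGroup
    (H := (Cs ((LL x).map (QuotientGroup.mk' N))).comap (QuotientGroup.mk' N)) (zpowers_le.2 (by
      rw [mem_comap, mem_Cs]
      rintro _ ⟨l, hl, rfl⟩
      exact (mem_Cs.1 h.t_memR l hl).map _))
  have h3 := h.cyc (T ⊓ C1 t) (hT.isPGroup.to_le inf_le_left) fun c hc =>
    h.cs_of_mapR hN (mem_C1.1 hc.2) (hT.le hc.1)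
  have ht := h2 (mem_zpowers t)
  have : Nontrivial T := ⟨⟨t, ht⟩, 1, fun e => h.t1 (congrArg Subtype.val e)⟩
  obtain ⟨⟨z, hz⟩, hz1⟩ := @exists_ne _ hT.isPGroup.center_nontrivial 1
  obtain ⟨n, z1, z2⟩ := (Comp.Tw.of_mem hT.isPGroup z.2).exists_invol
    fun e => hz1 (Subtype.ext (Subtype.ext e))
  have hc : ∀ y ∈ T, Commute y ((z : G) ^ n) := fun y hy =>
    Commute.pow_right (congrArg Subtype.val (mem_center_iff.1 hz ⟨y, hy⟩)) n
  have h4 : (z : G) ^ n = t := invol_eq_of_cyclic h3 ⟨pow_mem z.2 n, mem_C1.2 (hc t ht).symm⟩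
    ⟨ht, mem_C1.2 (Commute.refl t)⟩ z2 h.t2 z1 h.t1
  rw [inf_eq_left.2 fun y hy => mem_C1.2 (h4 ▸ hc y hy)] at h3
  have h5 := hT.map (QuotientGroup.mk' N)
  rw [map_comap_eq_self_of_surjective (QuotientGroup.mk'_surjective N)] at h5
  obtain ⟨g, -, h6⟩ := h5.exists_cj_le hP hle
  have := isCyclic_of_surjective _ ((QuotientGroup.mk' N).subgroupMap_surjective T)
  have := isCyclic_of_injective _ (inclusion_injective h6)
  exact isCyclic_of_surjective _ (cjEquiv g P).symm.surjective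

end Hyp

end A

variable {G : Type u} {F : Type v} [Group G] [Finite G] [Field F] [Finite F] {σ : F ≃+* F}
  {x : ZMod 8 → F → G} {t : G}

/-- The two possible normal closures. -/
def ConR (σ : F ≃+* F) (N : Subgroup G) : Prop :=
  (∃ φ : SL(4, F) →* G, Function.Injective φ ∧ φ.range = N) ∨
  ∃ y z : ZMod 8 → F → G, Sys σ y ∧ Sys σ z ∧ LL y ≤ Cs (LL z) ∧ LL y ⊔ LL z = N

theorem ConR_eq_1' : type_of% @ConR.eq_1 := @ConR.eq_1

theorem Hyp.wreathR (h : Hyp σ x t) {X : Subgroup G} (h1 : IsSimpleGroup X)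
    (h2 : ¬ IsMulCommutative X) (e : X ≃* LL x) (h3 : ∀ a ∈ X, ∀ b ∈ cj t X, a * b = b * a)
    (h4 : X ⊓ cj t X = ⊥) [hE : (X ⊔ cj t X).Normal] (h5 : Cs (LL x) = zpowers t) :
    (∃ g, Commute g (x 1 1) ∧ g * t * g⁻¹ = t * x 1 1) ∧ ConR σ (normalClosure (LL x : Set G)) := by
  have ti : t⁻¹ = t := inv_eq_of_mul_eq_one_right h.t2
  have tt : ∀ a : G, t * (t * a * t⁻¹) * t⁻¹ = a := fun a => by
    rw [ti, ← mul_assoc, ← mul_assoc, h.t2, one_mul, mul_assoc, h.t2, mul_one]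
  have c : ∀ a ∈ X, ∀ b ∈ X, Commute a (t * b * t⁻¹) := fun a ha b hb => h3 a ha _ (conj_mem_cj.2 hb)
  let δ : X →* G := MonoidHom.mk' (fun a => a * (t * a * t⁻¹)) fun a b => by
    rw [coe_mul, mul_assoc (a : G) b, mul_assoc (a : G), ← mul_assoc (t * a * t⁻¹),
      ← (c b b.2 a a.2).eq]
    group
  have uq : ∀ a ∈ X, ∀ b ∈ X, a * (t * b * t⁻¹) = 1 → a = 1 := fun a ha b hb e =>
    mem_bot.1 (h4 ▸ mem_inf.2 ⟨ha, by
      rw [eq_inv_of_mul_eq_one_left e]; exact (cj t X).inv_mem (conj_mem_cj.2 hb)⟩)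
  have hδ : Function.Injective δ := (injective_iff_map_eq_one _).2 fun a e =>
    Subtype.ext (uq a a.2 a a.2 e)
  have nc : ¬ ∀ a : X, δ a ∈ Cs (LL x) := fun H => h2 ⟨⟨fun a b => hδ (by
    rw [map_mul, map_mul]
    exact (commute_of_cyclic (inferInstanceAs (IsCyclic (zpowers t))) (h5 ▸ H a) (h5 ▸ H b)).eq)⟩⟩
  have ct : ∀ a : X, Commute (δ a) t := fun a => by
    refine mul_inv_eq_iff_eq_mul.1 (?_ : t * δ a * t⁻¹ = δ a) |>.symm
    change t * (a * (t * a * t⁻¹)) * t⁻¹ = a * (t * a * t⁻¹)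
    rw [← MulAut.conj_apply t, map_mul, MulAut.conj_apply, MulAut.conj_apply, tt]
    exact (c a a.2 a a.2).eq.symm
  have dec : ∀ g ∈ X ⊔ cj t X, ∃ a ∈ X, ∃ b ∈ X, g = a * (t * b * t⁻¹) := fun g hg => by
    obtain ⟨a, ha, _, ⟨b, hb, rfl⟩, rfl⟩ := (mem_sup_of_le_normalizer (le_normalizer_of_commutator_eq_bot
      (commutator_eq_bot_symm (commutator_eq_bot_of_forall_commute h3)))).1 hg
    exact ⟨a, ha, b, hb, rfl⟩
  have h6 : LL x ≤ X ⊔ cj t X := h.le_of_normal ((normalizer_eq_top _).ge.trans' le_top)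
    fun e => nc fun a => mem_Cs.2 fun l hl => commutatorElement_eq_one_iff_commute.1
      (mem_bot.1 (e ▸ ⟨mul_mem (mem_normalizer_conj (h.cn (mem_C1.2 (ct a))) hl) ((LL x).inv_mem hl),
        by
          rw [commutatorElement_def, mul_assoc, mul_assoc, ← mul_assoc l]
          have : δ a ∈ X ⊔ cj t X := mul_mem (mem_sup_left a.2) (mem_sup_right (conj_mem_cj.2 a.2))
          exact mul_mem this (hE.conj_mem _ (inv_mem this) l)⟩))
  have h7 : LL x ≤ δ.range := fun l hl => by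
    obtain ⟨a, ha, b, hb, rfl⟩ := dec l (h6 hl)
    have e1 : t * (a * (t * b * t⁻¹)) * t⁻¹ = a * (t * b * t⁻¹) :=
      mul_inv_eq_iff_eq_mul.2 (mem_Cs.1 h.t_memR _ hl).eq
    rw [← MulAut.conj_apply t, map_mul, MulAut.conj_apply, MulAut.conj_apply, tt,
      ← (c b hb a ha).eq] at e1
    obtain rfl : b = a := (inv_mul_eq_one.1 (uq (a⁻¹ * b) (mul_mem (inv_mem ha) hb) (a * b⁻¹)
      (mul_mem ha (inv_mem hb)) (by
        rw [show a⁻¹ * b * (t * (a * b⁻¹) * t⁻¹) = a⁻¹ * (b * (t * a * t⁻¹)) * (t * b * t⁻¹)⁻¹ by group,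
          e1]; group))).symm
    exact ⟨⟨b, hb⟩, rfl⟩
  obtain ⟨y, hy, e1⟩ := h.toSys.pull δ hδ h7
  have h8 : LL y = ⊤ := eq_top_of_card_eq _ (by
    rw [← card_map_of_injective hδ, LL_mapR, Nat.card_congr e.toEquiv]; simp only [e1])
  have hy' := hy.map X.subtype_injective
  have h9 : LL (fun i s => X.subtype (y i s)) = X := by
    rw [← LL_mapR, h8, ← MonoidHom.range_eq_map, range_subtype]
  have h10 : X ≤ normalClosure (LL x : Set G) := le_of_simpleR h1 fun e => by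
    refine h2 ⟨⟨fun a b => Subtype.ext ?_⟩⟩
    have : X ≤ zpowers t := fun g hg => h5 ▸ mem_Cs.2 fun l hl => by
      obtain ⟨a, ha, b, hb, rfl⟩ := dec l (h6 hl)
      refine commutatorElement_eq_one_iff_commute.1 (mem_bot.1 (e ▸ mem_inf.2 ⟨?_, ?_⟩))
      · rw [show ⁅g, a * (t * b * t⁻¹)⁆ = g * a * ((t * b * t⁻¹) * g⁻¹ * (t * b * t⁻¹)⁻¹) * a⁻¹ by
          rw [commutatorElement_def]; group, ← (c _ (inv_mem hg) b hb).eq, mul_inv_cancel_right]
        exact mul_mem (mul_mem (mul_mem hg ha) (inv_mem hg)) (inv_mem ha)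
      · exact mul_mem (normalClosure_normal.conj_mem _ (subset_normalClosure hl) g)
          (inv_mem (subset_normalClosure hl))
    exact (commute_of_cyclic (inferInstanceAs (IsCyclic (zpowers t))) (this a.2) (this b.2)).eq
  refine ⟨⟨y 1 1, ?_, ?_⟩, .inr ⟨_, _, hy', hy'.cx t, ?_, ?_⟩⟩
  · rw [← e1]
    exact (Commute.refl _).mul_right (c _ (y 1 1).2 _ (y 1 1).2)
  · have := congrArg Subtype.val (hy.s.inv 1 1)
    rw [← e1, ← coe_inv, this]
    change _ = t * (_ * (t * _ * t⁻¹))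
    rw [(c _ (y 1 1).2 _ (y 1 1).2).eq, ← mul_assoc, ← mul_assoc, ← mul_assoc, h.t2, one_mul, ti]
  · rw [LL_cx, h9]
    exact fun a ha => mem_Cs.2 (h3 a ha)
  · rw [LL_cx, h9]
    exact (sup_le h10 (cj_le_iff.2 fun a ha => normalClosure_normal.conj_mem _ (h10 ha) t)).antisymm
      (normalClosure_le_normal h6)

theorem Hyp.simpleR (hc : CoreP.{u, v}) (h : Hyp σ x t) {X : Subgroup G} [X.Normal]
    (h1 : IsSimpleGroup X) (h2 : ¬ IsMulCommutative X) (h3 : LL x ≤ X) (h4 : LL x ≠ X) :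
    (∃ g, Commute g (x 1 1) ∧ g * t * g⁻¹ = t * x 1 1) ∧ ConR σ (normalClosure (LL x : Set G)) := by
  have hi := (X ⊔ zpowers t).subtype_injective
  obtain ⟨x', h5, h6⟩ := h.toSys.pull _ hi (by rw [range_subtype]; exact h3.trans le_sup_left)
  have e0 : (X.subgroupOf (X ⊔ zpowers t)).map (X ⊔ zpowers t).subtype = X :=
    map_subgroupOf_eq_of_le le_sup_left
  have e := subgroupOfEquivOfLe (le_sup_left : X ≤ X ⊔ zpowers t)
  have hp := IsQuasisimple.perfect (isQuasisimple_of_isSimpleGroup h2)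
  obtain ⟨⟨φ, h8, h9⟩, g, h11, h12⟩ := hc _ F σ x' ⟨t, mem_sup_right (mem_zpowers t)⟩
    (X.subgroupOf _) (h.pullR _ hi h5 h6 rfl) ⟨inferInstance, e.isSimpleGroup,
      map_injective hi (by rw [map_commutator, e0, hp]),
      map_injective hi (by
        rw [Subgroup.map_sup, e0, MonoidHom.map_zpowers, ← MonoidHom.range_eq_map, range_subtype]
        rfl)⟩ fun e => h4 (by rw [← e0, ← e, LL_mapR]; simp only [h6])
  refine ⟨⟨g, h6 1 1 ▸ h11.map (X ⊔ zpowers t).subtype,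
    h6 1 1 ▸ congrArg Subtype.val h12⟩, .inl ⟨(X ⊔ zpowers t).subtype.comp φ, hi.comp h8, ?_⟩⟩
  rw [MonoidHom.range_comp, h9, e0]
  exact (le_of_simpleR h1 fun e => h.neR (mem_bot.1 (e ▸ ⟨h3 (x_mem_LL 1 1),
    subset_normalClosure (x_mem_LL 1 1)⟩))).antisymm (normalClosure_le_normal h3)

theorem Hyp.barR (hc : CoreP.{u, v}) (h : Hyp σ x t) (hO : oddCore G = ⊥) : (LL x).Normal ∨
    (∃ g, Commute g (x 1 1) ∧ g * t * g⁻¹ = t * x 1 1) ∧
      ConR σ (normalClosure (LL x : Set G)) := by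
  rcases Cfsg.Agent.S1347.result _ h.stdR hO t (StdU3.orderOf_two_of h.t2 h.t1) h.t_memR with
    h1 | ⟨X, h1, h2, ⟨e⟩, h3, h4, h5, h6⟩ | ⟨h1, h2, h3⟩
  · exact .inl h1
  · have : (X ⊔ cj t X).Normal := h5 ▸ inferInstance
    exact .inr (h.wreathR h1 h2 e h3 h4 h6)
  · by_cases h4 : LL x = layer G
    · exact .inl (h4 ▸ inferInstance)
    · exact .inr (h.simpleR hc h2 h3 h1 h4)

variable {N : Subgroup G} [N.Normal]

theorem Hyp.le_CsR (h : Hyp σ x t) (hN : Odd (Nat.card N)) {g : G ⧸ N}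
    (h1 : Commute g (x 1 1 : G ⧸ N)) (h2 : g * t * g⁻¹ = t * x 1 1) : LL x ≤ Cs N := by
  have z2 := h.s.mul_self 1 1
  have tz := h.tc 1 1
  have tz2 : t * x 1 1 * (t * x 1 1) = 1 := by rw [← sq, tz.mul_pow, sq, sq, h.t2, z2, one_mul]
  obtain ⟨g, h3, rfl⟩ := StdU3.Hyp.lift hN z2 h1
  have h4 : g * t * g⁻¹ * (t * x 1 1) ∈ N := by
    rw [← QuotientGroup.eq_one_iff, QuotientGroup.mk_mul, QuotientGroup.mk_mul, QuotientGroup.mk_mul,
      QuotientGroup.mk_inv, h2, ← QuotientGroup.mk_mul, ← QuotientGroup.mk_mul, tz2]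
    rfl
  obtain ⟨k, h5⟩ := Chev.RankOne.exists_conj_of_odd (Comp.conj_sq h.t2 g) tz2 (odd_orderOf hN h4)
  have h6 : Commute ((g * t * g⁻¹ * (t * x 1 1)) ^ k * g) (x 1 1) :=
    (((((h3.mul_left tz).mul_left h3.inv_left).mul_left (tz.mul_left (Commute.refl _))).pow_left
      k).mul_left h3)
  have h7 : (g * t * g⁻¹ * (t * x 1 1)) ^ k * g * t * ((g * t * g⁻¹ * (t * x 1 1)) ^ k * g)⁻¹ =
      t * x 1 1 := Eq.trans (by group) h5
  generalize (g * t * g⁻¹ * (t * x 1 1)) ^ k * g = m at h6 h7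
  have h8 : ∀ c ∈ N, Commute c t → Commute c (x 1 1) := fun c hc hct => mem_Cs.1
    (h.cs_of_mapR hN hct (by rw [(QuotientGroup.eq_one_iff _).2 hc]; exact one_mem _)) _
      (x_mem_LL 1 1)
  have h9 : t ≠ x 1 1 := fun e => h.t1 (mem_bot.1 (h.cent ▸ ⟨e ▸ x_mem_LL 1 1, h.t_memR⟩))
  have h10 : N ≤ C1 (x 1 1) := Bender.le_of_four_group (StdU3.orderOf_two_of h.t2 h.t1)
    (StdU3.orderOf_two_of z2 h.neR) h9 tz hN (by rw [normalizer_eq_top]; trivial)
    (by rw [normalizer_eq_top]; trivial) fun a ha a2 c hc => by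
      have hca := mem_C1.1 hc.2
      rcases mem_fourR h.t2 z2 tz ha with e | e | e | e <;> rw [e] at hca a2
      · simp at a2
      · exact mem_C1.2 (h8 c hc.1 hca)
      · exact mem_C1.2 hca
      · have := StdSz.commute_conj (h8 (m⁻¹ * c * m) (by
          simpa using ‹N.Normal›.conj_mem c hc.1 m⁻¹) (by
            have := StdSz.commute_conj hca m⁻¹
            rwa [← h7, show m⁻¹ * (m * t * m⁻¹) * m⁻¹⁻¹ = t by group, inv_inv] at this)) m
        rwa [h6.eq, show m * (m⁻¹ * c * m) * m⁻¹ = c by group, mul_inv_cancel_right, ← mem_C1] at this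
  exact h.le_of_normal ((normalizer_eq_top _).ge.trans' le_top) fun e => h.neR (mem_bot.1 (e ▸
    ⟨x_mem_LL 1 1, mem_Cs.2 fun c hc => (mem_C1.1 (h10 hc)).symm⟩))

theorem Hyp.mainR (hc : CoreP.{u, v}) (h : Hyp σ x t) :
    (LL x ⊔ oddCore G).Normal ∨ ConR σ (normalClosure (LL x : Set G)) := by
  have hN := Solv.odd_card_oddCore G
  have hs := QuotientGroup.mk'_surjective (oddCore G)
  have hk := QuotientGroup.ker_mk' (oddCore G)
  rcases (h.quotR hN).barR hc (Bender.oddCore_quotient G) with h1 | ⟨⟨g, h1, h2⟩, h3⟩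
  · rw [← LL_mapR] at h1
    exact .inl (by simpa [comap_map_eq] using h1.comap (QuotientGroup.mk' (oddCore G)))
  right
  rw [← LL_mapR, coe_map, ← map_normalClosure _ _ hs] at h3
  have h4 : normalClosure (LL x : Set G) ≤ Cs (QuotientGroup.mk' (oddCore G)).ker := by
    rw [hk]; exact normalClosure_le_normal (h.le_CsR hN h1 h2)
  have h5 : ⁅normalClosure (LL x : Set G), normalClosure (LL x : Set G)⁆ =
      normalClosure (LL x : Set G) := (commutator_le_left _ _).antisymm (normalClosure_le_normal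
    (h.perf.ge.trans (commutator_mono le_normalClosure le_normalClosure)))
  rcases h3 with ⟨φ, a, b⟩ | ⟨y, z, a, b, c, d⟩
  · exact .inl (sl_liftR h.qd _ h5 h4 a b)
  · obtain ⟨y', p1, p2, p3⟩ := a.lift _ h4 (le_sup_left.trans d.le)
    obtain ⟨z', q1, q2, q3⟩ := b.lift _ h4 (le_sup_right.trans d.le)
    have e1 : (LL y').map (QuotientGroup.mk' _) = LL y := by rw [LL_mapR]; simp only [p3]
    have e2 : (LL z').map (QuotientGroup.mk' _) = LL z := by rw [LL_mapR]; simp only [q3]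
    refine .inr ⟨y', z', p1, q1, commutator_eq_bot_iff_le_centralizer.1
      (commutator_eq_bot_of_perfect q1.perf (commutator_eq_bot_symm
        (commutator_eq_bot_iff_le_centralizer.2 ((q2.trans h4).trans (centralizer_le ?_))))),
      eq_of_mapR _ (sup_le p2 q2) h5 h4 (by rw [Subgroup.map_sup, e1, e2, d])⟩
    rw [SetLike.coe_subset_coe, ← Subgroup.map_eq_bot_iff, map_commutator, e1, e2]
    exact commutator_eq_bot_iff_le_centralizer.2 c

theorem ConR.isoR [Fintype F] (hq : Qd σ) {N : Subgroup G} (h : ConR σ N) :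
    (∃ (K : Type) (_ : Field K) (_ : Fintype K), Fintype.card K = Fintype.card F ∧
      Nonempty (N ≃* Matrix.ProjectiveSpecialLinearGroup (Fin 4) K)) ∨
      Nonempty (N ≃* PSU 4 F (qn σ) × PSU 4 F (qn σ)) := by
  rcases h with ⟨φ, a, rfl⟩ | ⟨y, z, a, b, c, rfl⟩
  · obtain ⟨K, _, _, ⟨f⟩⟩ := Chev.exists_field_copy F
    obtain ⟨σ', h1, -⟩ := exists_qd (E := K) (f.injective (by rw [map_ofNat, hq.two, map_zero]))
      ((Nat.card_congr f.toEquiv).trans hq.card)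
    exact .inl ⟨K, _, ‹_›, Fintype.card_congr f.toEquiv, ⟨(MonoidHom.ofInjective a).symm.trans
      ((MonoidHom.toMulEquiv (Matrix.SpecialLinearGroup.map (f.symm : F →+* K))
        (Matrix.SpecialLinearGroup.map (f : K →+* F)) (by ext; simp) (by ext; simp)).trans
          (sl_psl h1).some)⟩⟩
  have hc : ∀ (p : LL y) (q : LL z), Commute ((LL y).subtype p) ((LL z).subtype q) :=
    fun p q => mem_Cs.1 (c p.2) q q.2
  refine .inr ⟨(((MonoidHom.ofInjective (f := MonoidHom.noncommCoprod _ _ hc) ?_).trans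
    (MulEquiv.subgroupCongr (by simp [MonoidHom.noncommCoprod_range]))).symm).trans
      (a.equiv.some.prodCongr b.equiv.some)⟩
  rw [injective_iff_map_eq_one]
  rintro ⟨p, q⟩ e
  have h1 : (p : G) * q = 1 := e
  have h2 : (q : G) = 1 := mem_bot.1 (b.cent ▸ mem_inf.2 ⟨q.2, by
    rw [eq_inv_of_mul_eq_one_right h1]; exact inv_mem (c p.2)⟩)
  rw [h2, mul_one] at h1
  exact Prod.ext (Subtype.ext h1) (Subtype.ext h2)

theorem exists_hypR [Fintype F] {L : Subgroup G} (hL : IsStandardSubgroup L) (hq : Qd σ)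
    (h4 : 4 ≤ qn σ) (e : L ⧸ center L ≃* PSU 4 F (qn σ))
    (hR : ∀ R : Sylow 2 (Cs L), IsCyclic (R : Subgroup (Cs L))) :
    ∃ (x : ZMod 8 → F → G) (t : G), Hyp σ x t ∧ LL x = L := by
  have : Fact (Nat.Prime 2) := ⟨Nat.prime_two⟩
  obtain ⟨y, hy, h1⟩ := exists_sys hq h4
  have := Finite.of_equiv _ e.toEquiv
  let π := e.toMonoidHom.comp (QuotientGroup.mk' (center L))
  have hk : π.ker = center L := by
    rw [← MonoidHom.comap_ker, e.toMonoidHom.ker_eq_bot_iff.2 e.injective, MonoidHom.comap_bot,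
      QuotientGroup.ker_mk']
  have hs : (⊤ : Subgroup L).map π = ⊤ :=
    map_top_of_surjective _ (e.surjective.comp (QuotientGroup.mk'_surjective _))
  have hH : ⊤ ≤ Cs π.ker := fun g _ => mem_Cs.2 fun z hz => mem_center_iff.1 (hk ▸ hz) g
  obtain ⟨x, h3, -, h5⟩ := hy.lift π hH (hs ▸ le_top)
  have h6 : LL x = ⊤ := eq_of_mapR π le_top
    (Comp.commutator_top_of_perfect (IsQuasisimple.perfect hL.1)) hH (by
      rw [LL_mapR, hs, ← h1]; simp only [h5, le_rfl])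
  have h7 : LL (fun i s => L.subtype (x i s)) = L := by
    rw [← LL_mapR, h6, ← MonoidHom.range_eq_map, range_subtype]
  obtain ⟨⟨t, ht⟩, h8⟩ := exists_prime_orderOf_dvd_card' (G := Cs L) 2 hL.2.1.1.two_dvd
  rw [← orderOf_coe] at h8
  refine ⟨_, t, ⟨h3.map L.subtype_injective, StdU3.sq_of_orderOf_two h8,
    StdU3.ne_one_of_orderOf_two h8, fun i s => mem_Cs.1 ht _ (x i s).2, fun g hg => ?_,
    fun P hP hle => cyclic_of_le hR hP (h7 ▸ hle)⟩, h7⟩
  rw [h7]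
  by_contra h
  have h9 := (hL.2.1.2 g (hL.2.2.2 ▸ h)).of_dvd_nat (orderOf_dvd_natCard _ (x := t)
    ⟨ht, by rw [← mul_inv_eq_iff_eq_mul.2 (mem_C1.1 hg).eq]; exact conj_mem_cj.2 ht⟩)
  rw [h8] at h9
  exact absurd h9 (by decide)

theorem finalR {G : Type u} [Group G] [Finite G] (hc : CoreP.{u, v}) (L : Subgroup G)
    (hL : IsStandardSubgroup L) {F : Type v} [Field F] [Fintype F] (n : ℕ) (hn : 2 ≤ n)
    (hF : Fintype.card F = 4 ^ n) (hLX : Nonempty ((L ⧸ center L) ≃* PSU 4 F (2 ^ n)))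
    (hR : ∀ R : Sylow 2 (Cs L), IsCyclic (R : Subgroup (Cs L))) :
    (L ⊔ oddCore G).Normal ∨
      (∃ (K : Type) (_ : Field K) (_ : Fintype K), Fintype.card K = 4 ^ n ∧
        Nonempty (normalClosure (L : Set G) ≃* Matrix.ProjectiveSpecialLinearGroup (Fin 4) K)) ∨
      Nonempty (normalClosure (L : Set G) ≃* PSU 4 F (2 ^ n) × PSU 4 F (2 ^ n)) := by
  have h1 : Fintype.card F = (2 ^ n) ^ 2 := by rw [hF, ← pow_mul, mul_comm, pow_mul]; rfl
  have h2 : (2 : F) = 0 := by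
    have := FiniteField.cast_card_eq_zero F
    rw [h1, Nat.cast_pow, Nat.cast_pow] at this
    exact_mod_cast pow_eq_zero_iff (by omega) |>.1 (pow_eq_zero_iff two_ne_zero |>.1 this)
  obtain ⟨σ, hq, h3⟩ := exists_qd h2 (Nat.card_eq_fintype_card.trans h1)
  rw [← h3] at hLX ⊢
  obtain ⟨x, t, h, rfl⟩ := exists_hypR hL hq (h3 ▸ Nat.pow_le_pow_right two_pos hn) hLX.some hR
  exact (h.mainR hc).imp_right fun h1 => hF ▸ h1.isoR hq

end Cfsg.Lib.SU4
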