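import Cfsg.Agent.SU4.Hyp
import Cfsg.Agent.SG2.M2c

/-!
# Standard subgroups of type `U₄(2ⁿ)`: the quadratic extension
-/

set_option autoImplicit false
set_option linter.unusedSectionVars false

namespace Cfsg.Lib.SU4

section Fld
variable {E : Type*} [Field E] [Finite E] {σ : E ≃+* E}

/-- A quadratic extension in characteristic two. -/
structure Qd (σ : E ≃+* E) : Prop where
  two : (2 : E) = 0
  ss : ∀ s, σ (σ s) = s
  ne : σ ≠ 1

theorem Sys.qd {G : Type*} [Group G] {x : ZMod 8 → E → G} (h : Sys σ x) : Qd σ :=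
  ⟨h.s.two, h.s.ss, h.ne⟩

theorem Qd.charP (h : Qd σ) : CharP E 2 := CharTwo.of_one_ne_zero_of_two_eq_zero one_ne_zero h.two

theorem Qd.mul_self (h : Qd σ) : σ * σ = 1 := RingEquiv.ext h.ss

theorem Qd.ord (h : Qd σ) : orderOf σ = 2 := orderOf_eq_prime (by rw [pow_two, h.mul_self]) h.ne

theorem card_fixF (τ : E ≃+* E) : Nat.card (fixF τ) ^ orderOf τ = Nat.card E := SG2.card_fixF τ

theorem Qd.card (h : Qd σ) : Nat.card E = qn σ ^ 2 := by
  rw [← card_fixF σ, h.ord]; rfl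

theorem Qd.two_pow (h : Qd σ) : ∃ n, 1 ≤ n ∧ qn σ = 2 ^ n := by
  have := Known.finite_ringAut (F := fixF σ)
  exact ⟨_, Nat.card_pos (α := RingAut (fixF σ)), (SG2.two_pow_card_aut (F := fixF σ)
    ((fixF σ).subtype.injective (by rw [map_ofNat, map_zero, h.two]))).symm⟩

theorem Fld.exists_frob (h2 : (2 : E) = 0) {q : ℕ} (hq : Nat.card E = q ^ 2) :
    ∃ φ : E ≃+* E, Qd φ ∧ ∀ s, φ s = s ^ q := by
  have := Fintype.ofFinite E
  have : CharP E 2 := CharTwo.of_one_ne_zero_of_two_eq_zero one_ne_zero h2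
  obtain ⟨n, -, rfl⟩ := (Nat.dvd_prime_pow Nat.prime_two).1
    ((dvd_pow_self q two_ne_zero).trans (dvd_of_eq (hq.symm.trans (SG2.two_pow_card_aut h2).symm)))
  have hφ : ∀ s, iterateFrobeniusEquiv E 2 n s = s ^ 2 ^ n := iterateFrobeniusEquiv_def E 2 n
  rw [Nat.card_eq_fintype_card] at hq
  refine ⟨iterateFrobeniusEquiv E 2 n, ⟨h2, fun s => ?_, fun e => ?_⟩, hφ⟩
  · rw [hφ, hφ, ← pow_mul, ← pow_two, ← hq, FiniteField.pow_card]
  · have h3 : 1 < Fintype.card E := Fintype.one_lt_card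
    have h4 : 1 < 2 ^ n := by
      by_contra h5
      have : 2 ^ n = 1 := le_antisymm (not_lt.1 h5) Nat.one_le_two_pow
      rw [this] at hq
      omega
    have h6 := (FiniteField.forall_pow_eq_one_iff E (2 ^ n - 1)).1 fun x => by
      have h7 : (x : E) = x ^ 2 ^ n := (RingEquiv.congr_fun e x).symm.trans (hφ x)
      refine mul_right_cancel (b := x) ?_
      rw [← pow_succ, Nat.sub_add_cancel h4.le, one_mul]
      exact Units.ext (by rw [Units.val_pow_eq_pow_val, ← h7])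
    have h8 := Nat.le_of_dvd (by omega) h6
    have h9 := Nat.pow_lt_pow_right h4 (show 1 < 2 by norm_num)
    rw [pow_one, ← hq] at h9
    omega

theorem Qd.frob (h : Qd σ) (s : E) : σ s = s ^ qn σ := by
  obtain ⟨φ, hc, hφ⟩ := Fld.exists_frob h.two h.card
  rw [← hφ, SG2.aut_inv_uniq hc.ne hc.mul_self h.ne h.mul_self]

theorem Qd.card_aut (h : Qd σ) {n : ℕ} (hn : qn σ = 2 ^ n) : Nat.card (E ≃+* E) = 2 * n := by
  have := SG2.two_pow_card_aut h.two
  rw [h.card, hn, ← pow_mul, mul_comm] at this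
  exact Nat.pow_right_injective le_rfl this

theorem Qd.card_aut_lt (h : Qd σ) (h4 : 4 ≤ qn σ) : 2 * Nat.card (E ≃+* E) < qn σ ^ 2 := by
  obtain ⟨n, -, hn⟩ := h.two_pow
  have := Nat.lt_two_pow_self (n := n)
  rw [h.card_aut hn, ← hn] at *
  nlinarith

theorem exists_qd (h2 : (2 : E) = 0) {q : ℕ} (hq : Nat.card E = q ^ 2) :
    ∃ σ : E ≃+* E, Qd σ ∧ qn σ = q :=
  let ⟨φ, hc, _⟩ := Fld.exists_frob h2 hq
  ⟨φ, hc, Nat.pow_left_injective two_ne_zero (hc.card.symm.trans hq)⟩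

theorem aut_comm (τ ρ : E ≃+* E) : τ * ρ = ρ * τ := SG2.aut_comm τ ρ

theorem aut_σ (τ : E ≃+* E) (s : E) : τ (σ s) = σ (τ s) := RingEquiv.congr_fun (aut_comm τ σ) s

theorem Qd.aut_inv (h : Qd σ) {τ : E ≃+* E} (e : τ * τ = 1) : τ = 1 ∨ τ = σ :=
  or_iff_not_imp_left.2 fun h1 => SG2.aut_inv_uniq h1 e h.ne h.mul_self

theorem Qd.card_fix4 (h : Qd σ) {τ : E ≃+* E} (e : τ * τ = σ) : Nat.card (fixF τ) ^ 2 = qn σ := by
  have h1 : orderOf τ = 2 ^ (1 + 1) := orderOf_eq_prime_pow (by rw [pow_one, pow_two, e]; exact h.ne)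
    (by rw [pow_succ, pow_mul, pow_one, pow_two τ, e, pow_two, h.mul_self])
  refine Nat.pow_left_injective two_ne_zero ?_
  simp only [← h.card, ← card_fixF τ, h1, ← pow_mul]
  norm_num

theorem Qd.T_zero (h : Qd σ) {s : E} : s + σ s = 0 ↔ σ s = s :=
  ⟨fun e => by linear_combination e - s * h.two, fun e => by linear_combination e + s * h.two⟩

theorem Qd.exists_nf (h : Qd σ) : ∃ a, σ a ≠ a := by
  by_contra! e
  exact h.ne (RingEquiv.ext e)

theorem Qd.exists_th (h : Qd σ) : ∃ θ : E, θ + σ θ = 1 := by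
  obtain ⟨a, ha⟩ := h.exists_nf
  refine ⟨a / (a + σ a), ?_⟩
  rw [map_div₀, map_add, h.ss, add_comm (σ a), ← add_div, div_self fun e => ha (h.T_zero.1 e)]

theorem Qd.T_surj (h : Qd σ) {r : E} (hr : σ r = r) : ∃ s, s + σ s = r :=
  let ⟨θ, e⟩ := h.exists_th
  ⟨r * θ, by rw [map_mul, hr, ← mul_add, e, mul_one]⟩

theorem Qd.T_surj' (h : Qd σ) {a r : E} (ha : a ≠ 0) (hr : σ r = r) :
    ∃ s, a * s + σ a * σ s = r :=
  let ⟨s, e⟩ := h.T_surj hr
  ⟨a⁻¹ * s, by rw [← map_mul, mul_inv_cancel_left₀ ha, e]⟩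

theorem Qd.T_nondeg (h : Qd σ) {a : E} (ha : ∀ s, a * s + σ a * σ s = 0) : a = 0 := by
  by_contra h0
  obtain ⟨s, e⟩ := h.T_surj' h0 (map_one σ)
  exact one_ne_zero (e.symm.trans (ha s))

theorem Qd.T_inj (h : Qd σ) {a b : E} (e : ∀ s, a * s + σ a * σ s = b * s + σ b * σ s) : a = b :=
  sub_eq_zero.1 (h.T_nondeg fun s => by rw [map_sub]; linear_combination e s)

theorem Qd.card_T0 (h : Qd σ) {a : E} (ha : a ≠ 0) :
    Nat.card {s : E // a * s + σ a * σ s = 0} = qn σ :=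
  Nat.card_congr ((Equiv.mulLeft₀ a ha).subtypeEquiv fun s => by
    rw [← map_mul, h.T_zero]; rfl)

theorem Qd.sq_inj (h : Qd σ) {a b : E} (e : a ^ 2 = b ^ 2) : a = b :=
  sub_eq_zero.1 (pow_eq_zero_iff two_ne_zero |>.1 (by
    linear_combination e + (b ^ 2 - a * b) * h.two : (a - b) ^ 2 = 0))

theorem Qd.sqrt (h : Qd σ) (s : E) : ∃ c, c ^ 2 = s ∧ (σ s = s → σ c = c) := by
  obtain ⟨c, rfl⟩ := Finite.surjective_of_injective (f := fun c : E => c ^ 2)
    (fun _ _ => h.sq_inj) s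
  exact ⟨c, rfl, fun e => h.sq_inj ((map_pow σ c 2).symm.trans e)⟩

theorem Qd.N_surj (h : Qd σ) {r : E} (hr : σ r = r) : ∃ s, s * σ s = r :=
  let ⟨c, e, hc⟩ := h.sqrt r
  ⟨c, by rw [hc hr, ← pow_two, e]⟩

theorem Qd.polar (h : Qd σ) {s : E} (hs : s ≠ 0) :
    ∃ c e, σ c = c ∧ c ≠ 0 ∧ e * σ e = 1 ∧ s = c * e ^ 2 := by
  obtain ⟨c, h1, h2⟩ := h.sqrt (s * σ s)
  replace h2 := h2 (by rw [map_mul, h.ss, mul_comm])
  have h3 : c ≠ 0 := fun e => mul_ne_zero hs ((map_ne_zero σ).2 hs) (by rw [← h1, e]; simp)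
  obtain ⟨e, h4, -⟩ := h.sqrt (s / c)
  refine ⟨c, e, h2, h3, h.sq_inj ?_, by rw [h4, mul_div_cancel₀ _ h3]⟩
  rw [mul_pow, ← map_pow, h4, map_div₀, h2, div_mul_div_comm, ← h1, ← pow_two,
    div_self (pow_ne_zero _ h3), one_pow]

theorem Qd.exists_norm1 (h : Qd σ) : ∃ e, e * σ e = 1 ∧ e ^ 2 ≠ 1 := by
  obtain ⟨a, ha⟩ := h.exists_nf
  have h0 : a ≠ 0 := fun e => ha (by simp [e])
  have h1 : σ a ≠ 0 := by simpa using h0
  refine ⟨a / σ a, by rw [map_div₀, h.ss]; field_simp, fun e => ha ?_⟩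
  exact ((div_eq_one_iff_eq h1).1 (h.sq_inj (e.trans (one_pow 2).symm))).symm

theorem Qd.exists_ne (_h : Qd σ) (h4 : 4 ≤ qn σ) : ∃ c, σ c = c ∧ c ≠ 0 ∧ c ≠ 1 := by
  by_contra! e
  have := Nat.card_le_card_of_surjective (fun b : Bool => cond b (1 : fixF σ) 0) fun c => by
    by_cases h0 : c.1 = 0
    exacts [⟨false, Subtype.ext h0.symm⟩, ⟨true, Subtype.ext (e c.1 c.2 h0).symm⟩]
  rw [Nat.card_eq_fintype_card (α := Bool), Fintype.card_bool] at this
  exact absurd (h4.trans this) (by norm_num)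

theorem Qd.eq_one_of (h : Qd σ) {l : E} (e : l ^ 4 = 1) : l = 1 :=
  h.sq_inj (h.sq_inj (by linear_combination e))

theorem Qd.card_sing (h : Qd σ) :
    Even (Nat.card {p : E × E × E // σ p.1 = p.1 ∧ σ p.2.2 = p.2.2 ∧ p.2.1 * σ p.2.1 = p.1 * p.2.2}) := by
  classical
  have := Fintype.ofFinite E
  rw [← ZMod.natCast_eq_zero_iff_even, Nat.card_eq_fintype_card, Fintype.card_eq_sum_ones,
    Nat.cast_sum]
  refine Finset.sum_involution (fun p _ => ⟨(p.1.1, p.1.2.1 + p.1.1, p.1.2.2 +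
    if p.1.1 = 0 then 1 else p.1.2.1 + σ p.1.2.1 + p.1.1), p.2.1, ?_, ?_⟩) (fun _ _ => by decide)
    (fun p _ _ e => ?_) (fun _ _ => Finset.mem_univ _) fun p _ => Subtype.ext ?_
  · obtain ⟨⟨d, c, r⟩, h1, h2, h3⟩ := p
    dsimp only at *
    split_ifs <;> simp only [map_add, map_one, h.ss, h1, h2]
    ring
  · obtain ⟨⟨d, c, r⟩, h1, h2, h3⟩ := p
    change σ d = d at h1
    change c * σ c = d * r at h3
    dsimp only
    split_ifs with h4
    · subst h4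
      rw [add_zero]
      linear_combination h3
    · rw [map_add]
      linear_combination h3 + (c + d) * h1
  · obtain ⟨⟨d, c, r⟩, h1, h2, h3⟩ := p
    simp only [Subtype.mk.injEq, Prod.mk.injEq, add_eq_left, true_and] at e
    simp [e.1] at e
  · obtain ⟨⟨d, c, r⟩, h1, h2, h3⟩ := p
    dsimp only at *
    refine Prod.ext rfl (Prod.ext (by linear_combination d * h.two) ?_)
    dsimp only
    split_ifs
    · linear_combination h.two
    · rw [map_add, h1]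
      linear_combination (c + σ c + 2 * d) * h.two

end Fld

end Cfsg.Lib.SU4
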