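import Cfsg.Agent.SU4.SY0
import Cfsg.Agent.SU4.M3c
import Cfsg.Agent.SU4.P1a
import Cfsg.Agent.SG2.P1

/-!
# Standard subgroups of type `U₄(2ⁿ)`: the split case, basic facts
-/

set_option autoImplicit false
set_option linter.unusedSectionVars false

namespace Cfsg.Lib.SU4

open Subgroup Cfsg.Lib.Trans Cfsg.Lib.Gold
open Cfsg.Lib.SG2 (Uq Top)
open scoped commutatorElement

variable {G E : Type*} [Group G] [Finite G] [Field E] [Finite E] {σ : E ≃+* E}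
  {x : ZMod 8 → E → G} {t : G} {X : Subgroup G} {y z : ZMod 8 → E → G}

theorem Sys.LL_ne_bot_e (h : Sys σ x) : LL x ≠ ⊥ := fun e =>
  h.x_ne 1 (mem_bot.1 (e ▸ x_mem_LL 1 1))

theorem ES.symm (h : ES σ x t y z) : ES σ x t z y where
  toH1 := h.toH1
  sy := h.sz
  sz := h.sy
  res i s := (h.res i s).trans (h.com i i s s).eq
  com i j s u := (h.com j i u s).symm
  act i s := by
    rw [← h.act]
    calc _ = t * t * y i s * (t * t)⁻¹ := by group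
      _ = _ := by simp [h.t2]
  cO := sup_comm (LL y) _ ▸ h.cO
  nL := sup_comm (LL y) _ ▸ h.nL

theorem ES.le_Cs (h : ES σ x t y z) : LL y ≤ Cs (LL z) := LL_le.2 fun i s => mem_Cs.2 fun _ hu =>
  mem_C1.1 ((LL_le.2 fun j u => mem_C1.2 (h.com i j s u).symm.eq : LL z ≤ C1 (y i s)) hu)

theorem ES.inf (h : ES σ x t y z) : LL y ⊓ LL z = ⊥ :=
  le_bot_iff.1 ((inf_le_inf_left _ h.symm.le_Cs).trans h.sy.cent.le)

theorem ES.cj_t (h : ES σ x t y z) : cj t (LL y) = LL z := by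
  rw [← LL_cx]
  exact congrArg LL (funext fun i => funext (h.act i))

theorem ES.comm_e (h : ES σ x t y z) {a b : G} (ha : a ∈ LL y) (hb : b ∈ LL z) : Commute a b :=
  (mem_Cs.1 (h.le_Cs ha) b hb).symm

theorem ES.nn_eq_e (h : ES σ x t y z) (i : ZMod 8) (s : E) : nn σ x i s = nn σ y i s * nn σ z i s := by
  rw [nn, nn, nn, h.res, h.res, ← (h.com _ _ _ _).mul_mul_mul_comm,
    ← (h.comm_e (x_mem_LL _ _) (mul_mem (x_mem_LL _ _) (x_mem_LL _ _))).mul_mul_mul_comm]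

theorem ES.hh_eq (h : ES σ x t y z) (i : ZMod 8) (s : E) : hh σ x i s = hh σ y i s * hh σ z i s := by
  rw [hh, hh, hh, h.nn_eq_e, h.nn_eq_e, ← (h.comm_e (nn_mem_LL _ _) (nn_mem_LL _ _)).mul_mul_mul_comm]

theorem ES.le_Ns_e (h : ES σ x t y z) : LL y ⊔ LL z ≤ Ns (LL y) :=
  sup_le le_normalizer (h.symm.le_Cs.trans Cs_le_Ns)

theorem ES.ne_e (h : ES σ x t y z) : LL y ≠ LL z := fun e =>
  h.sy.LL_ne_bot_e (by rw [← h.inf, ← e, inf_idem])

theorem ES.LL_le_e (h : ES σ x t y z) : LL x ≤ LL y ⊔ LL z := LL_le.2 fun i s =>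
  h.res i s ▸ mul_mem (mem_sup_left (x_mem_LL i s)) (mem_sup_right (x_mem_LL i s))

theorem ES.nrm_e (h : ES σ x t y z) {w : ZMod 8 → E → G} (hw : Sys σ w) (h1 : LL w ≤ LL y ⊔ LL z)
    (h2 : LL y ⊔ LL z ≤ Ns (LL w)) : LL w = LL y ∨ LL w = LL z := by
  have k : ∀ {y z}, ES σ x t y z → LL w ≤ LL y ⊔ LL z → LL y ⊔ LL z ≤ Ns (LL w) →
      LL w = LL y ∨ LL y ≤ Cs (LL w) := fun {y z} h h1 h2 => by
    rcases h.sy.eq_bot_or (N := LL y ⊓ LL w) inf_le_left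
      (le_Ns_inf le_normalizer (le_sup_left.trans h2)) with e | e
    · exact Or.inr (commutator_eq_bot_iff_le_centralizer.1 (le_bot_iff.1 ((le_inf
        (commutator_le_left_of_le (h1.trans h.le_Ns_e))
        (commutator_le_right_of_le (le_sup_left.trans h2))).trans e.le)))
    · exact Or.inl (h.sy.eq_of_le hw (inf_eq_left.1 e)).symm
  rcases k h h1 h2 with e | e
  · exact Or.inl e
  rcases k h.symm (sup_comm (LL y) _ ▸ h1) (sup_comm (LL y) _ ▸ h2) with e' | e'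
  · exact Or.inr e'
  exact absurd (le_bot_iff.1 ((le_inf le_rfl (h1.trans (sup_le e e'))).trans hw.cent.le))
    hw.LL_ne_bot_e

theorem ES.perm (h : ES σ x t y z) {m : G} (hm : m ∈ Ns (LL y ⊔ LL z)) :
    (m ∈ Ns (LL y) ∧ m ∈ Ns (LL z)) ∨ (cj m (LL y) = LL z ∧ cj m (LL z) = LL y) := by
  have k : ∀ {w : ZMod 8 → E → G}, Sys σ w → LL w ≤ LL y ⊔ LL z → LL y ⊔ LL z ≤ Ns (LL w) →
      cj m (LL w) = LL y ∨ cj m (LL w) = LL z := fun {w} hw h1 h2 => by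
    rw [← LL_cx]
    refine h.nrm_e (hw.cx m) ?_ ?_ <;> rw [LL_cx, ← mem_Ns_iff.1 hm]
    exacts [cj_mono m h1, cj_Ns m _ ▸ cj_mono m h2]
  have ne : cj m (LL y) ≠ cj m (LL z) := fun e => h.ne_e (cj_inj.1 e)
  rcases k h.sy le_sup_left h.le_Ns_e with e | e <;>
    rcases k h.sz le_sup_right (sup_comm (LL z) _ ▸ h.symm.le_Ns_e) with e' | e'
  exacts [absurd (e.trans e'.symm) ne, Or.inl ⟨mem_Ns_iff.2 e, mem_Ns_iff.2 e'⟩, Or.inr ⟨e, e'⟩,
    absurd (e.trans e'.symm) ne]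

theorem ES.mem_sup_e (h : ES σ x t y z) {A B : Subgroup G} (hA : A ≤ LL y) (hB : B ≤ LL z) {g : G} :
    g ∈ A ⊔ B ↔ ∃ a ∈ A, ∃ b ∈ B, a * b = g :=
  mem_sup_of_le_normalizer (hB.trans (h.symm.le_Cs.trans ((Cs_anti hA).trans Cs_le_Ns)))

theorem ES.card_sup_e (h : ES σ x t y z) {A B : Subgroup G} (hA : A ≤ LL y) (hB : B ≤ LL z) :
    Nat.card (A ⊔ B : Subgroup G) = Nat.card A * Nat.card B :=
  Solv.card_sup_of_disjoint_of_le_normalizer
    (hB.trans (h.symm.le_Cs.trans ((Cs_anti hA).trans Cs_le_Ns)))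
    (le_bot_iff.1 ((inf_le_inf hA hB).trans h.inf.le))

theorem ES.two_sup_e (h : ES σ x t y z) {A B : Subgroup G} (hA : A ≤ LL y) (hB : B ≤ LL z)
    (h1 : IsPGroup 2 A) (h2 : IsPGroup 2 B) : IsPGroup 2 (A ⊔ B : Subgroup G) :=
  Comp.isPGroup_sup h1 h2 (hB.trans (h.symm.le_Cs.trans ((Cs_anti hA).trans Cs_le_Ns)))

theorem ES.cent (h : ES σ x t y z) : (LL y ⊔ LL z) ⊓ Cs (LL y ⊔ LL z) = ⊥ := by
  refine le_bot_iff.1 fun g ⟨h1, h2⟩ => ?_
  obtain ⟨a, ha, b, hb, rfl⟩ := (h.mem_sup_e le_rfl le_rfl).1 h1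
  have e1 := h.sy.cent.le ⟨ha, (mul_mem_cancel_right (h.symm.le_Cs hb)).1 (Cs_anti le_sup_left h2)⟩
  have e2 := h.sz.cent.le ⟨hb, (mul_mem_cancel_left (h.le_Cs ha)).1 (Cs_anti le_sup_right h2)⟩
  exact mul_mem e1 e2

theorem ES.syl (h : ES σ x t y z) : IsSylowIn 2 (UU y ⊔ UU z) (LL y ⊔ LL z) := by
  have h1 : UU y ⊔ UU z ≤ LL y ⊔ LL z := sup_le_sup UU_le_LL UU_le_LL
  refine ⟨h1, h.two_sup_e UU_le_LL UU_le_LL h.sy.syl.isPGroup h.sz.syl.isPGroup, ?_⟩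
  have e := card_mul_relIndex h1
  rw [h.card_sup_e UU_le_LL UU_le_LL, h.card_sup_e le_rfl le_rfl, ← card_mul_relIndex h.sy.syl.le,
    ← card_mul_relIndex h.sz.syl.le, mul_mul_mul_comm] at e
  rw [Nat.eq_of_mul_eq_mul_left (Nat.mul_pos Nat.card_pos Nat.card_pos) e]
  exact fun e => (Nat.prime_two.dvd_mul.1 e).elim h.sy.syl.not_dvd h.sz.syl.not_dvd

theorem ES.tM (h : ES σ x t y z) : t ∈ Ns (LL y ⊔ LL z) := h.nL (mem_C1.2 rfl)

theorem ES.odd_e (h : ES σ x t y z) : Odd (Nat.card (Cs (LL y ⊔ LL z))) :=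
  h.toH1.odd_Cs h.LL_le_e h.cO h.tM fun e =>
    h.ne_e (h.cj_t ▸ (cj_eq_of_mem_centralizer (Cs_anti le_sup_left e)).symm)

theorem ES.not_fix_e (h : ES σ x t y z) {g : G} (h1 : g * t * g⁻¹ ∈ Ns (LL y))
    (h2 : g * t * g⁻¹ ∈ Ns (LL z)) : False := by
  have t2 := (h.toHyp.cx g).t2
  obtain ⟨T, a1, a2, a3⟩ := h.sy.inv_cent h1 (by rw [t2]; exact one_mem _)
  obtain ⟨T', b1, b2, b3⟩ := h.sz.inv_cent h2 (by rw [t2]; exact one_mem _)
  have := h.toH1.two_bound (isPGroup_cj (h.two_sup_e (a1.trans inf_le_left) (b1.trans inf_le_left)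
    a2 b2) g⁻¹) (by
      rw [cj_inv_le_iff_le_cj, cj_C1]
      exact sup_le (a1.trans inf_le_right) (b1.trans inf_le_right))
  rw [card_cj, h.card_sup_e (a1.trans inf_le_left) (b1.trans inf_le_left), a3, b3, ← pow_add] at this
  exact this.false

theorem ES.swap_e (h : ES σ x t y z) {A B : Subgroup G} {w : ZMod 8 → E → G} (hw : Sys σ w)
    (hA : LL w = A) (h1 : cj t A = B) (hc : A ≤ Cs B) (hi : A ⊓ B = ⊥) : LL y ⊔ LL z ≤ A ⊔ B := by
  have tB : ∀ a ∈ A, t * a * t⁻¹ ∈ B := cj_le_iff.1 h1.le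
  have cm : ∀ a ∈ A, ∀ b ∈ A, Commute a (t * b * t⁻¹) := fun a ha b hb =>
    (mem_Cs.1 (hc ha) _ (tB b hb)).symm
  have tt : ∀ a, t * (t * a * t⁻¹) * t⁻¹ = a := fun a => by
    calc _ = t * t * a * (t * t)⁻¹ := by group
      _ = _ := by simp [h.t2]
  let φ : A →* G := MonoidHom.mk' (fun a => a * (t * a * t⁻¹)) fun a b => by
    rw [(cm b b.2 a a.2).symm.mul_mul_mul_comm, conj_mul', coe_mul]
  have inj : Function.Injective φ := (injective_iff_map_eq_one φ).2 fun a e => by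
    have e' : (a : G) * (t * a * t⁻¹) = 1 := e
    exact Subtype.ext (mem_bot.1 (hi.le ⟨a.2, by
      rw [eq_inv_of_mul_eq_one_left e']; exact B.inv_mem (tB a a.2)⟩))
  have hL : φ.range = LL x := eq_of_le_of_card_ge (h.toHyp.perf (by
    rw [MonoidHom.range_eq_map, ← map_commutator, ← _root_.commutator_def,
      Comp.commutator_top_of_perfect (hA ▸ hw.perf)]) (by
    rintro _ ⟨a, rfl⟩
    refine mem_C1.2 (mul_inv_eq_iff_eq_mul.1 ?_).symm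
    change t * (a * (t * a * t⁻¹)) * t⁻¹ = a * (t * a * t⁻¹)
    rw [← conj_mul', tt, (cm a a.2 a a.2).eq])) (by
    rw [h.toSys.card, ← hw.card, hA]
    exact (Nat.card_congr (MonoidHom.ofInjective inj).toEquiv).le)
  have hG : LL x ≤ A ⊔ B := by
    rw [← hL]
    rintro _ ⟨a, rfl⟩
    exact mul_mem (mem_sup_left a.2) (mem_sup_right (tB a a.2))
  obtain ⟨r, hr⟩ := hL.ge (x_mem_LL 1 1)
  have r2 : (r : G) * r = 1 := congrArg Subtype.val (inj (by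
    rw [map_mul, hr, h.s.mul_self, map_one]) : r * r = 1)
  have er : r * t * (r : G)⁻¹ = t * x 1 1 := by
    rw [← hr]
    change _ = t * (r * (t * r * t⁻¹))
    rw [(cm r r.2 r r.2).eq, ← mul_assoc, inv_eq_of_sq r2, ← mul_assoc, ← mul_assoc, h.t2, one_mul,
      inv_eq_of_sq h.t2]
  have ey : y 1 1 * t * (y 1 1)⁻¹ = t * x 1 1 := by
    rw [h.symm.res, ← h.act, h.sy.s.inv, ← mul_assoc, ← mul_assoc, ← mul_assoc, h.t2, one_mul,
      inv_eq_of_sq h.t2]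
  obtain ⟨p, hp, hc⟩ := h.toSys.cQ (g := (r : G)⁻¹ * y 1 1) (h.cn (mem_C1.2
    (mul_inv_eq_iff_eq_mul.1 (by
      calc _ = (r : G)⁻¹ * (y 1 1 * t * (y 1 1)⁻¹) * r := by group
        _ = t := by rw [ey, ← er]; group)))) (mul_mem (inv_mem (mem_Cs.2 fun q hq => by
      obtain ⟨a, rfl⟩ := hL.ge (QQ_le_LL hq)
      have c : a * r = r * a := inj (by
        rw [map_mul, map_mul, hr]
        exact mem_Cs.1 (h.s.R_le_Cs (x_mem_rt 1 1)) _ (QQ_le_PA hq))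
      exact (Commute.mul_left (congrArg Subtype.val c) (cm r r.2 a a.2).symm).eq)) (by
      refine le_Cs_comm.1 (?_ : _ ≤ Cs (zpowers _)) (mem_zpowers _)
      rw [Cs_zpowers]
      refine sup_le ?_ (sup_le ?_ ?_) <;> refine rt_le.2 fun s => ?_ <;>
        rw [h.res] <;> refine mem_C1.2 (Commute.mul_left ?_ (h.com _ _ _ _).symm).eq
      exacts [h.sy.s.c01 _ _, (h.sy.s.c12 _ _).symm, h.sy.s.c0 _ _ _]))
  obtain ⟨c, fc, c0, c1⟩ := h.toSys.qd.exists_ne h.four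
  have f1 : σ 1 = 1 := map_one σ
  have hh0 := hG (hh_mem_LL (σ := σ) (x := x) 1 c)
  have hv := mul_mem (mem_sup_left r.2) (hG (rt_le_LL 1 hp))
  have k1 : y 1 (c ^ 2 + 1) ∈ A ⊔ B := by
    have e : y 1 (c ^ 2 + 1) = hh σ x 1 c * (r * p) * (hh σ x 1 c)⁻¹ * (r * p)⁻¹ := by
      have e1 := h.sy.hh_conj 1 1 c0 (Or.inr fc) 1
      rw [show pa 1 1 = 2 from rfl, show pb 1 1 = 0 from rfl, zpow_two, zpow_zero, mul_one, mul_one,
        ← pow_two] at e1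
      have e2 : hh σ x 1 c * y 1 1 * (hh σ x 1 c)⁻¹ = y 1 (c ^ 2) := by
        rw [← e1, h.hh_eq, mul_assoc (hh σ y 1 c),
          ← (h.comm_e (x_mem_LL 1 1) (hh_mem_LL (σ := σ) 1 c)).eq]
        group
      rw [h.sy.s.add1 (fx_pow fc 2) f1, ← e2, ← h.sy.s.inv 1 1]
      calc _ = hh σ x 1 c * (r * p) * (p⁻¹ * ((r : G)⁻¹ * y 1 1) * (hh σ x 1 c)⁻¹) * (y 1 1)⁻¹ := by
            rw [h.sy.s.inv 1 1]; group
        _ = _ := by rw [← mem_Cs.1 hc _ (inv_mem (hh_mem_LL (σ := σ) (x := x) 1 c))]; group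
    exact e ▸ mul_mem (mul_mem (mul_mem hh0 hv) (inv_mem hh0)) (inv_mem hv)
  have k2 : LL y ≤ A ⊔ B := by
    refine inf_eq_left.1 ((h.sy.eq_bot_or (N := LL y ⊓ (A ⊔ B)) inf_le_left
      (LL_le.2 fun i s => mem_normalizer_of_cj_le (cj_le_iff.2 fun v hv => ⟨(LL y).mul_mem (mul_mem
        (x_mem_LL i s) hv.1) (inv_mem (x_mem_LL i s)), ?_⟩))).resolve_left fun e => c1 ?_)
    · have := mul_mem (mul_mem (hG (x_mem_LL i s)) hv.2) (inv_mem (hG (x_mem_LL i s)))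
      rwa [h.res, mul_assoc (y i s), ← (h.comm_e hv.1 (x_mem_LL i s)).eq, mul_inv_rev, ← mul_assoc,
        ← mul_assoc, mul_inv_cancel_right] at this
    · have e1 := mem_bot.1 (e.le ⟨x_mem_LL _ _, k1⟩)
      rw [← h.sy.s.zero 1] at e1
      have e2 : (c + 1) ^ 2 = 0 := by
        linear_combination h.sy.s.x1_inj h.sy.inj (fx_add (fx_pow fc 2) f1) (map_zero σ) e1 +
          c * h.s.two
      exact h.s.eq_of_add (pow_eq_zero_iff two_ne_zero |>.1 e2)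
  refine sup_le k2 ?_
  rw [← h.cj_t]
  refine (cj_mono t k2).trans ?_
  rw [cj_sup, h1, ← h1, cj_cj, h.t2, cj_one, sup_comm]

theorem ES.uq_e (h : ES σ x t y z) : Uq (Ns (LL y ⊔ LL z)) t := fun g hg => by
  obtain ⟨h1, -⟩ := (h.perm hg).resolve_left fun e => h.not_fix_e e.1 e.2
  refine mem_normalizer_of_cj_le (cj_le_iff_le_cj_inv.2 ?_)
  rw [cj_sup]
  refine h.swap_e (h.sy.cx g⁻¹) (LL_cx _) ?_ (cj_Cs g⁻¹ _ ▸ cj_mono _ h.le_Cs)
    (by rw [← cj_inf, h.inf, cj_bot])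
  rw [← h1, cj_cj, cj_cj]
  congr 1
  group

theorem ES.fs0 (h : ES σ x t y z) (hX : Top X t) : FS0 σ x t y z X where
  toES := h
  top := hX
  le := by
    have := hX.normal
    refine sup_le ?_ ?_ <;> refine GW.Lift.perfect_le_of_le_sup ?_ (hX.top.ge.trans' le_top)
      (fun g _ => mem_Ns_iff.2 (cj_eq_of_normal g X)) inferInstance
    exacts [h.sy.perf, h.sz.perf]
  odd := h.odd_e
  uq := h.uq_e

theorem FS0.symm (h : FS0 σ x t y z X) : FS0 σ x t z y X where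
  toES := h.toES.symm
  top := h.top
  le := sup_comm (LL y) _ ▸ h.le
  odd := sup_comm (LL y) _ ▸ h.odd
  uq := sup_comm (LL y) _ ▸ h.uq

theorem FS.symm (h : FS σ x t y z X) : FS σ x t z y X where
  toFS0 := h.toFS0.symm
  nt := h.nt
  two := sup_comm (LL y) _ ▸ h.two
  syl := sup_comm (UU y) _ ▸ h.syl

end Cfsg.Lib.SU4
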