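import Cfsg.Agent.SU4.ES
import Cfsg.Agent.SG2.SYa

/-!
# Standard subgroups of type `U₄(2ⁿ)`, split case: the complement of pure elements
-/

set_option autoImplicit false
set_option linter.unusedSectionVars false

namespace Cfsg.Lib.SU4

open Subgroup Cfsg.Lib.Trans Cfsg.Lib.Gold
open Cfsg.Lib.SG2 (Uq Top Pp exists_Pp mem_sup_Cs mul_pow_mem eq_one_of_mul sq_parts card_le_cover
  card_le_cover4)
open scoped commutatorElement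

variable {G E : Type*} [Group G] [Finite G] [Field E] [Finite E] {σ : E ≃+* E}
  {x y z : ZMod 8 → E → G} {t : G} {X P : Subgroup G} {p q g : G} {σ₁ σ₂ τ₁ τ₂ : E ≃+* E}

theorem ES.U_Cs (h : ES σ x t y z) : UU y ≤ Cs (UU z) :=
  UU_le_LL.trans (h.le_Cs.trans (Cs_anti UU_le_LL))

theorem ES.U_inf (h : ES σ x t y z) : UU y ⊓ UU z = ⊥ :=
  eq_bot_iff.2 ((inf_le_inf UU_le_LL UU_le_LL).trans h.inf.le)

theorem ES.LL_ne (h : ES σ x t y z) : LL y ≠ LL z := fun e => by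
  have : y 3 1 ∈ LL y ⊓ LL z := ⟨x_mem_LL 3 1, e ▸ x_mem_LL 3 1⟩
  rw [h.inf, mem_bot] at this
  exact h.sy.x_ne 3 this

theorem ES.G0_le (h : ES σ x t y z) : LL y ⊔ LL z ≤ Ns (LL y) :=
  sup_le le_normalizer ((le_Cs_comm.1 h.le_Cs).trans Cs_le_Ns)

theorem ES.U_le (h : ES σ x t y z) : UU y ⊔ UU z ≤ Ns (LL y) := UU2_le.trans h.G0_le

theorem ES.swp_t (h : ES σ x t y z) : Swp y z t 1 1 :=
  ⟨h.act, fun i s => by
    rw [← h.act, show t * (t * y i s * t⁻¹) * t⁻¹ = t * t * y i s * (t * t)⁻¹ by group, h.t2]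
    simp⟩

theorem ES.swp_not (h : ES σ x t y z) (hp : Swp y z p σ₁ σ₂) : p ∉ Ns (LL y) := fun e =>
  h.LL_ne ((mem_Ns_iff.1 e).symm.trans (Mp.cj_LL hp.1))

theorem ES.nsw_uniq (h : ES σ x t y z) (h1 : Nsw y z p σ₁ σ₂) (h2 : Nsw y z p τ₁ τ₂) :
    σ₁ = τ₁ ∧ σ₂ = τ₂ :=
  ⟨Mp.uniq h.sy.s h.sy.inj h1.1 h2.1, Mp.uniq h.sz.s h.sz.inj h1.2 h2.2⟩

theorem ES.swp_uniq (h : ES σ x t y z) (h1 : Swp y z p σ₁ σ₂) (h2 : Swp y z p τ₁ τ₂) :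
    σ₁ = τ₁ ∧ σ₂ = τ₂ :=
  ⟨Mp.uniq h.sz.s h.sz.inj h1.1 h2.1, Mp.uniq h.sy.s h.sy.inj h1.2 h2.2⟩

theorem ES.nsw_of (h : ES σ x t y z) (hp : p ∈ Pure y z) (hn : p ∈ Ns (LL y)) :
    ∃ σ₁ σ₂, Nsw y z p σ₁ σ₂ :=
  Or.resolve_right hp fun ⟨_, _, e⟩ => h.swp_not e hn

theorem swp_of (hp : p ∈ Pure y z) (hn : p ∉ Ns (LL y)) : ∃ σ₁ σ₂, Swp y z p σ₁ σ₂ :=
  Or.resolve_left hp fun ⟨_, _, e⟩ => hn e.mem_Ns

theorem ES.idx (h : ES σ x t y z) : ∀ a ∈ Ns (LL y ⊔ LL z), ∀ b ∈ Ns (LL y ⊔ LL z),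
    a ∉ Ns (LL y) → b ∉ Ns (LL y) → a * b ∈ Ns (LL y) := fun a ha b hb a1 b1 => by
  rw [mem_Ns_iff, cj_mul, ((h.perm hb).resolve_left fun e => b1 e.1).1,
    ((h.perm ha).resolve_left fun e => a1 e.1).2]

theorem ES.dec_M (h : ES σ x t y z) {m : G} (hm : m ∈ Ns (LL y ⊔ LL z)) :
    ∃ l ∈ LL y ⊔ LL z, ∃ p ∈ Pure y z, m = l * p := by
  have key : ∀ m, m ∈ Ns (LL y) → m ∈ Ns (LL z) → ∃ l ∈ LL y ⊔ LL z, ∃ p ∈ Pure y z,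
      m = l * p := fun m h1 h2 => by
    obtain ⟨a, ha, σ₁, e1⟩ := h.sy.aut h1
    obtain ⟨b, hb, σ₂, e2⟩ := h.sz.aut h2
    have c : b * a = a * b := mem_Cs.1 (h.le_Cs ha) b hb
    refine ⟨a * b, mul_mem (mem_sup_left ha) (mem_sup_right hb), (a * b)⁻¹ * m,
      .inl ⟨1 * σ₁, 1 * σ₂, ?_, ?_⟩, by group⟩
    · rw [mul_inv_rev, mul_assoc]
      exact Mp.mul (Mp.of_Cs (inv_mem (le_Cs_comm.1 h.le_Cs hb))) e1
    · rw [← c, mul_inv_rev, mul_assoc]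
      exact Mp.mul (Mp.of_Cs (inv_mem (h.le_Cs ha))) e2
  rcases h.perm hm with e | e
  · exact key m e.1 e.2
  · obtain ⟨l, hl, p, hp, e'⟩ := key (m * t)
      (by rw [mem_Ns_iff, cj_mul, Mp.cj_LL h.swp_t.1, e.2])
      (by rw [mem_Ns_iff, cj_mul, Mp.cj_LL h.swp_t.2, e.1])
    exact ⟨l, hl, p * t⁻¹, mul_mem hp (inv_mem (.inr ⟨_, _, h.swp_t⟩)), by
      rw [← mul_assoc, ← e', mul_inv_cancel_right]⟩

theorem ES.G0_inf (h : ES σ x t y z) : (LL y ⊔ LL z) ⊓ Pure y z = ⊥ := by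
  rw [eq_bot_iff]
  rintro g ⟨hg, hp⟩
  obtain ⟨σ₁, σ₂, e1, e2⟩ := h.nsw_of hp (h.G0_le hg)
  obtain ⟨a, ha, b, hb, rfl⟩ := (mem_sup_Cs h.le_Cs).1 hg
  have c : b * a = a * b := mem_Cs.1 (h.le_Cs ha) b hb
  have e3 := Mp.mul e1 (Mp.of_Cs (inv_mem (le_Cs_comm.1 h.le_Cs hb)))
  have e4 := Mp.mul e2 (Mp.of_Cs (inv_mem (h.le_Cs ha)))
  rw [mul_inv_cancel_right] at e3
  rw [← c, mul_inv_cancel_right] at e4
  rw [mem_bot, (h.sy.acts_inner ha e3).1, (h.sz.acts_inner hb e4).1, mul_one]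

theorem ES.inf_P (h : ES σ x t y z) (hP : PC t y z P) : (UU y ⊔ UU z) ⊓ P = ⊥ :=
  eq_bot_iff.2 ((inf_le_inf UU2_le hP.le_pure).trans h.G0_inf.le)

theorem FS0.exists_PC (h : FS0 σ x t y z X) : ∃ P, PC t y z P := by
  have ht : t ∈ Pure y z := .inr ⟨_, _, h.swp_t⟩
  obtain ⟨P, hP, htP⟩ := exists_isSylowIn_ge (Comp.Tw.of_sq h.t2).isPGroup (zpowers_le.2 ht)
  replace htP := zpowers_le.1 htP
  refine ⟨P, hP.isPGroup, htP, hP.le, fun p hp e => ?_, ?_⟩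
  · have : p ∈ Cs (LL y ⊔ LL z) := le_Cs_comm.1 (sup_le
      (le_Cs_comm.1 (zpowers_le.2 (Mp.mem_Cs e.1))) (le_Cs_comm.1 (zpowers_le.2 (Mp.mem_Cs e.2))))
      (mem_zpowers p)
    obtain ⟨k, hk⟩ := Comp.Tw.of_mem hP.isPGroup hp
    rw [← orderOf_eq_one_iff]
    exact Nat.Coprime.eq_one_of_dvd ((Nat.coprime_two_right.2
      (h.odd.of_dvd_nat (orderOf_dvd_natCard _ this))).pow_right k) (orderOf_dvd_of_pow_eq_one hk)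
  refine isSylowIn_of_maximal le_top
    (Comp.isPGroup_sup h.syl.isPGroup hP.isPGroup (hP.le.trans Pure_le_NU)) fun Q hQ h1 _ g hg => ?_
  have hQM : Q ≤ Ns (LL y ⊔ LL z) := h.uq.two_le (Pure_le_M ht) hQ (h1 (mem_sup_right htP))
  have h2 : IsPGroup 2 ↥(((LL y ⊔ LL z) ⊔ Q) ⊓ Pure y z) := by
    rintro ⟨m, hm, hm'⟩
    obtain ⟨l, hl, q, hq, rfl⟩ := (Solv.Coprime.mem_sup_iff hQM).1 hm
    obtain ⟨k, hk⟩ := Comp.Tw.of_mem hQ hq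
    refine ⟨k, Subtype.ext ?_⟩
    have := mul_pow_mem hl (hQM hq) (2 ^ k)
    rw [hk, inv_one, mul_one] at this
    exact mem_bot.1 (h.G0_inf ▸ mem_inf.2 ⟨this, pow_mem hm' _⟩)
  have h3 := hP.eq_of_le h2 (le_inf (le_sup_right.trans (h1.trans le_sup_right)) hP.le) inf_le_right
  obtain ⟨l, hl, m, hm, e⟩ := h.dec_M (hQM hg)
  have h4 : m ∈ P := h3 ▸ mem_inf.2 ⟨by
    rw [show m = l⁻¹ * g by rw [e]; group]
    exact mul_mem (mem_sup_left (inv_mem hl)) (mem_sup_right hg), hm⟩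
  have h5 : l ∈ UU y ⊔ UU z := h.syl.eq_inf hQ (le_sup_left.trans h1) ▸ mem_inf.2 ⟨by
    rw [show l = g * m⁻¹ by rw [e]; group]
    exact mul_mem hg (inv_mem (h1 (mem_sup_right h4))), hl⟩
  rw [e]
  exact mul_mem (mem_sup_left h5) (mem_sup_right h4)

theorem ES.conj_iff (h : ES σ x t y z) {m : G} (hm : m ∈ Ns (LL y ⊔ LL z))
    (hg : g ∈ Ns (LL y ⊔ LL z)) : m * g * m⁻¹ ∈ Ns (LL y) ↔ g ∈ Ns (LL y) :=
  Comp.conj_mem_iff_of_idx h.idx hm hg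

theorem FS0.not_mem (h : FS0 σ x t y z X) : t ∉ X := fun ht => by
  obtain ⟨P, hP⟩ := h.exists_PC
  have e : X = ⊤ := by rw [← h.top.top, sup_of_le_left (zpowers_le.2 ht)]
  obtain ⟨k, -, h1, h2⟩ := Comp.thompson_in (C := Ns (LL y)) h.top.perf (e ▸ hP.syl)
    (fun a ha b hb => h.idx a (hP.le_M ha) b (hP.le_M hb)) ht h.t2
  exact h.swp_not h.swp_t ((h.conj_iff (h.uq k (hP.le_M h1)) h.swp_t.mem_M).1 h2)

theorem ES.decomp (h : ES σ x t y z) (hP : PC t y z P) {g : G}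
    (hg : g ∈ (UU y ⊔ UU z) ⊔ P) : ∃ a ∈ UU y, ∃ b ∈ UU z, ∃ p ∈ P, g = a * b * p := by
  obtain ⟨u, hu, p, hp, rfl⟩ := (Solv.Coprime.mem_sup_iff hP.le_NU).1 hg
  obtain ⟨a, ha, b, hb, rfl⟩ := (mem_sup_Cs h.U_Cs).1 hu
  exact ⟨a, ha, b, hb, p, hp, rfl⟩

theorem ES.swap_conj (h : ES σ x t y z) {p : G} {σ₁ σ₂ : E ≃+* E} (hp : Swp y z p σ₁ σ₂)
    {a b : G} (ha : a ∈ UU y) (hb : b ∈ UU z) (e : a * b * p * (a * b * p) = p * p) :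
    ∃ k ∈ UU y, k * (a * b * p) * k⁻¹ = p := by
  have a' : p * a * p⁻¹ ∈ UU z := Mp.cj_UU hp.1 ▸ conj_mem_cj.2 ha
  have b' : p * b * p⁻¹ ∈ UU y := Mp.cj_UU hp.2 ▸ conj_mem_cj.2 hb
  have c := mem_Cs.1 (h.U_Cs b') _ (mul_mem hb a')
  have := (eq_one_of_mul h.U_inf (mul_mem ha b') (mul_mem hb a') (by
    rw [mul_assoc, ← c]
    calc _ = a * b * p * (a * b * p) * (p * p)⁻¹ := by group
      _ = 1 := by rw [e, mul_inv_cancel])).2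
  refine ⟨a⁻¹, inv_mem ha, ?_⟩
  calc _ = b * (p * a * p⁻¹) * p := by group
    _ = p := by rw [this, one_mul]

theorem PC.nsw_comm (hP : PC t y z P) (hp : p ∈ P) (hq : q ∈ P) (h1 : Nsw y z p σ₁ σ₂)
    (h2 : Nsw y z q τ₁ τ₂) : p * q = q * p :=
  hP.nsw_ext (mul_mem hp hq) (mul_mem hq hp) (h1.mul h2)
    (by rw [aut_comm σ₁, aut_comm σ₂]; exact h2.mul h1)

/-- A diagonal element is central in `P`. -/
theorem PC.diag_comm (hP : PC t y z P) (hp : p ∈ P) (h1 : Nsw y z p σ₁ σ₁) (hq : q ∈ P) :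
    p * q = q * p := by
  rcases hP.pure q hq with ⟨_, _, h2⟩ | ⟨τ₁, τ₂, h2⟩
  · exact hP.nsw_comm hp hq h1 h2
  · exact hP.swp_ext (mul_mem hp hq) (mul_mem hq hp) (h1.mul_swp h2)
      (by rw [aut_comm σ₁, aut_comm σ₁]; exact h2.mul_nsw h1)

theorem ES.diag_of_comm (h : ES σ x t y z) (h1 : Nsw y z p σ₁ σ₂) (h2 : Swp y z q τ₁ τ₂)
    (e : p * q = q * p) : σ₁ = σ₂ := by
  have := (h.swp_uniq (h1.mul_swp h2) (e ▸ h2.mul_nsw h1)).1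
  rw [aut_comm σ₂] at this
  exact (mul_left_cancel this).symm

theorem ES.nsw_sq (h : ES σ x t y z) (h1 : Nsw y z p σ₁ σ₂) (e : p * p = 1) :
    σ₁ * σ₁ = 1 ∧ σ₂ * σ₂ = 1 := h.nsw_uniq (h1.mul h1) (by rw [e]; exact Nsw.one)

theorem ES.swp_sq (h : ES σ x t y z) (h1 : Swp y z p σ₁ σ₂) (e : p * p = 1) : σ₂ * σ₁ = 1 :=
  (h.nsw_uniq (h1.mul h1) (by rw [e]; exact Nsw.one)).1

/-- There is at most one diagonal involution in `P`. -/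
theorem PC.diag_uniq (hP : PC t y z P) (hp : p ∈ P) (hq : q ∈ P) (h1 : Nsw y z p σ₁ σ₁)
    (h2 : Nsw y z q τ₁ τ₁) (e1 : σ₁ * σ₁ = 1) (e2 : τ₁ * τ₁ = 1) (p1 : p ≠ 1) (q1 : q ≠ 1) :
    p = q := by
  have := SG2.aut_inv_uniq (fun e => p1 (hP.inj p hp (e ▸ h1))) e1
    (fun e => q1 (hP.inj q hq (e ▸ h2))) e2
  exact hP.nsw_ext hp hq h1 (this ▸ h2)

theorem ES.swap_le4 (h : ES σ x t y z) (hP : PC t y z P) {A : Subgroup G}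
    (hE : A ≤ (UU y ⊔ UU z) ⊔ P) (h2 : ∀ e ∈ A, e * e = 1) {s : G} (hs : s ∈ A)
    (hsw : s ∉ Ns (LL y)) : Nat.card A ≤ 4 * Nat.card ↥(A ⊓ (UU y ⊔ UU z)) := by
  have hn := hP.le_NU
  have hd := h.inf_P hP
  obtain ⟨p, hp⟩ := exists_Pp hn (hE hs)
  have hp' : p ∉ Ns (LL y) := fun e => hsw ((hp.mem_iff h.U_le).2 e)
  obtain ⟨τ₁, τ₂, hτ⟩ := swp_of (hP.le_pure hp.1) hp'
  have key : ∀ e ∈ A, ∀ q, Pp (UU y ⊔ UU z) P e q → q ∈ Ns (LL y) →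
      ∃ σ, Nsw y z q σ σ ∧ σ * σ = 1 := fun e he q hq hq' => by
    obtain ⟨σ₁, σ₂, hσ⟩ := h.nsw_of (hP.le_pure hq.1) hq'
    obtain rfl := h.diag_of_comm hσ hτ (hq.comm hn hd hp (comm_of_sq h2 e he s hs))
    exact ⟨_, hσ, (h.nsw_sq hσ (hq.sq hn hd (h2 e he))).1⟩
  obtain ⟨φ, hφ⟩ : ∃ φ, ∀ q ∈ P, (∃ σ, Nsw y z q σ σ ∧ σ * σ = 1) → q = 1 ∨ q = φ := by
    by_cases hex : ∃ φ ∈ P, φ ≠ 1 ∧ ∃ σ, Nsw y z φ σ σ ∧ σ * σ = 1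
    · obtain ⟨φ, a, b, σ, c, d⟩ := hex
      refine ⟨φ, fun q hq ⟨τ, e, f⟩ => ?_⟩
      by_cases q1 : q = 1
      · exact .inl q1
      · exact .inr (hP.diag_uniq hq a e c f d q1 b)
    · exact ⟨1, fun q hq e => .inl (by_contra fun q1 => hex ⟨q, hq, q1, e⟩)⟩
  refine card_le_cover4 1 φ p⁻¹ (φ * p⁻¹) fun e he => ?_
  obtain ⟨q, hq⟩ := exists_Pp hn (hE he)
  have hl := hq.left hn
  by_cases hq' : q ∈ Ns (LL y)
  · rcases hφ q hq.1 (key e he q hq hq') with rfl | rfl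
    · exact .inl hl
    · exact .inr (.inl hl)
  · have := h.idx q (hP.le_M (mem_sup_right hq.1)) p (hP.le_M (mem_sup_right hp.1)) hq' hp'
    rcases hφ _ (mul_mem hq.1 hp.1) (key _ (mul_mem he hs) _ (hq.mul hn hp) this) with e | e
    · rw [eq_inv_of_mul_eq_one_left e] at hl
      exact .inr (.inr (.inl hl))
    · rw [eq_mul_inv_of_mul_eq e] at hl
      exact .inr (.inr (.inr hl))

theorem ES.swap_inf (h : ES σ x t y z) {A : Subgroup G} (h2 : ∀ e ∈ A, e * e = 1) {s : G}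
    (hs : s ∈ A) (hM : s ∈ Ns (LL y ⊔ LL z)) (hsw : s ∉ Ns (LL y)) : A ⊓ LL z = ⊥ := by
  rw [eq_bot_iff, ← h.inf]
  rintro d ⟨hd, hd'⟩
  refine ⟨?_, hd'⟩
  have := conj_mem_cj (g := s).2 hd'
  rwa [((h.perm hM).resolve_left fun e => hsw e.1).2, comm_of_sq h2 s hs d hd,
    mul_inv_cancel_right] at this

theorem ES.swap_rank (h : ES σ x t y z) (hP : PC t y z P) {A : Subgroup G}
    (hA : A ≤ (UU y ⊔ UU z) ⊔ P) (h2 : ∀ a ∈ A, a * a = 1) {s : G} (hs : s ∈ A)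
    (hsw : s ∉ Ns (LL y)) : ∃ D : Subgroup G, D ≤ UU y ∧ (∀ d ∈ D, d * d = 1) ∧
      (∀ d ∈ D, ∃ b ∈ UU z, d * b ∈ A) ∧ Nat.card A ≤ 4 * Nat.card D := by
  have hc := h.U_Cs
  let D : Subgroup G :=
    { carrier := {a | a ∈ UU y ∧ ∃ b ∈ UU z, a * b ∈ A}
      one_mem' := ⟨one_mem _, 1, one_mem _, by rw [mul_one]; exact one_mem _⟩
      mul_mem' := by
        rintro a a' ⟨ha, b, hb, e⟩ ⟨ha', b', hb', e'⟩
        refine ⟨mul_mem ha ha', b * b', mul_mem hb hb', ?_⟩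
        have := mul_mem e e'
        rwa [mul_assoc, ← mul_assoc b, mem_Cs.1 (hc ha') b hb, mul_assoc, ← mul_assoc] at this
      inv_mem' := by
        rintro a ⟨ha, b, hb, e⟩
        refine ⟨inv_mem ha, b⁻¹, inv_mem hb, ?_⟩
        have := inv_mem e
        rwa [mul_inv_rev, mem_Cs.1 (hc (inv_mem ha)) _ (inv_mem hb)] at this }
  have k : Nat.card ↥(A ⊓ (UU y ⊔ UU z)) ≤ Nat.card D * Nat.card ↥(A ⊓ (UU y ⊔ UU z) ⊓ UU z) :=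
    card_le_cover (D : Set G) fun d hd => by
      obtain ⟨a, ha, b, hb, rfl⟩ := (mem_sup_Cs hc).1 hd.2
      exact ⟨a, ⟨ha, b, hb, hd.1⟩, by rwa [inv_mul_cancel_left]⟩
  rw [eq_bot_iff.2 ((inf_le_inf inf_le_left UU_le_LL).trans
    (h.swap_inf h2 hs (hP.le_M (hA hs)) hsw).le), card_bot, mul_one] at k
  refine ⟨D, fun a ha => ha.1, ?_, fun a ha => ha.2,
    (h.swap_le4 hP hA h2 hs hsw).trans (Nat.mul_le_mul_left _ k)⟩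
  rintro a ⟨ha, b, hb, e⟩
  exact (sq_parts hc h.U_inf ha hb (h2 _ e)).1

end Cfsg.Lib.SU4
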